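import Cfsg.Agent.Lib.H4.CA0
import Cfsg.Agent.Lib.H5.ZStar
import Cfsg.Agent.Lib.H18.OddOrder
import Cfsg.Agent.Lib.H26.IsoInv

set_option autoImplicit false
set_option linter.unusedVariables false
set_option maxHeartbeats 400000

/-!
# S4369, piece D (backup)
-/

namespace H11.CAD

open Subgroup H4.CA

universe u

variable {G : Type u} [Group G]

theorem mem_Z {x : G} : x ∈ center G ↔ ∀ y, Commute x y := by
  rw [mem_center_iff]
  exact ⟨fun h y => (h y).symm, fun h y => (h y).symm⟩

/-- normal solvable subgroups of `G/Z` are trivial -/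
theorem quot_solv [Finite G] (h : ∀ R : Subgroup G, R.Normal → Group.IsSolvable R → R ≤ center G)
    (N : Subgroup (G ⧸ center G)) (hN : N.Normal) (hs : Group.IsSolvable N) : N = ⊥ := by
  set R : Subgroup G := N.comap (QuotientGroup.mk' (center G)) with hR
  have hRn : R.Normal := hN.comap _
  have hRs : Group.IsSolvable R := by
    let f : R →* N := ((QuotientGroup.mk' (center G)).comp R.subtype).codRestrict N (fun x => x.2)
    have hker : f.ker ≤ ((center G).subgroupOf R) := by
      intro x hx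
      rw [MonoidHom.mem_ker] at hx
      have h1 : (QuotientGroup.mk' (center G)) (x : G) = 1 := congrArg Subtype.val hx
      rw [mem_subgroupOf]
      exact (QuotientGroup.eq_one_iff (x : G)).1 h1
    have h2 : Group.IsSolvable ((center G).subgroupOf R) := by
      apply Group.isSolvable_of_comm
      rintro ⟨⟨a, ha'⟩, ha⟩ ⟨⟨b, hb'⟩, hb⟩
      apply Subtype.ext
      apply Subtype.ext
      exact (mem_Z.1 (mem_subgroupOf.1 ha) b).eq
    have h3 := Group.isSolvable_of_ker_le_range ((center G).subgroupOf R).subtype f (by rw [range_subtype]; exact hker)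
    exact h3
  have h4 := h R hRn hRs
  rw [eq_bot_iff]
  intro x hx
  obtain ⟨g, rfl⟩ := QuotientGroup.mk_surjective x
  have h5 : g ∈ R := hx
  rw [mem_bot]
  exact (QuotientGroup.eq_one_iff g).2 (h4 h5)

theorem zprinc [Finite G] (h : Frame G) {z : G} (hb : Bad z) (h2 : ∃ k : ℕ, z ^ 2 ^ k = 1)
    (hz2 : z ^ 2 ∈ center G) (iso : ∀ g : G, Commute z (g * z * g⁻¹) → g * z * g⁻¹ = z) : False := by
  haveI : Fact (Nat.Prime 2) := ⟨Nat.prime_two⟩
  obtain ⟨zb, hzb⟩ : ∃ zb : G ⧸ center G, zb = QuotientGroup.mk z := ⟨_, rfl⟩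
  have hzb1 : zb ≠ 1 := by
    rw [hzb]
    exact fun hh => hb.1 ((QuotientGroup.eq_one_iff z).1 hh)
  have hord : orderOf zb = 2 := by
    apply orderOf_eq_prime _ hzb1
    rw [hzb, ← QuotientGroup.mk_pow]
    exact (QuotientGroup.eq_one_iff _).2 hz2
  have hiso : Cfsg.IsIsolatedInvolution zb := by
    refine ⟨hord, ?_⟩
    intro gb hc
    obtain ⟨g, rfl⟩ := QuotientGroup.mk_surjective gb
    rw [hzb] at hc ⊢
    obtain ⟨w, hw⟩ : ∃ w, w = g * z * g⁻¹ := ⟨_, rfl⟩
    have hwq : (QuotientGroup.mk w : G ⧸ center G) = QuotientGroup.mk g * QuotientGroup.mk z * (QuotientGroup.mk g)⁻¹ := by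
      rw [hw]; rfl
    rw [← hwq] at hc ⊢
    have hc1 : w⁻¹ * z * w * z⁻¹ ∈ center G := by
      apply (QuotientGroup.eq_one_iff _).1
      have h3 := hc.eq
      show (QuotientGroup.mk w : G ⧸ center G)⁻¹ * QuotientGroup.mk z * QuotientGroup.mk w * (QuotientGroup.mk z)⁻¹ = 1
      rw [mul_assoc ((QuotientGroup.mk w : G ⧸ center G)⁻¹), h3]
      group
    have hcz : Commute z w := by
      apply h.norm z hb w
      intro y hy
      have h4 : Commute (w⁻¹ * z * w) y := by
        have h5 : w⁻¹ * z * w = (w⁻¹ * z * w * z⁻¹) * z := by group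
        rw [h5]
        exact (mem_Z.1 hc1 y).mul_left hy
      have h6 := h4.eq
      show z * (w * y * w⁻¹) = w * y * w⁻¹ * z
      calc z * (w * y * w⁻¹) = w * ((w⁻¹ * z * w) * y) * w⁻¹ := by group
        _ = w * (y * (w⁻¹ * z * w)) * w⁻¹ := by rw [h6]
        _ = w * y * w⁻¹ * z := by group
    rw [hw] at hcz
    have := iso g hcz
    rw [hw, this]
  obtain ⟨P, hP⟩ := (H26.IsoInv.isPGroup_zpowers hord).exists_le_sylow
  have hzP : zb ∈ P := hP (mem_zpowers zb)
  obtain ⟨N, hN, hodd, hcomm⟩ := H5.ZStar5.sylow_form H5.ZStar.zhyp P zb hord hzP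
    (H26.IsoInv.isolated_sylow hiso P hzP)
  have hN1 : N = ⊥ := quot_solv h.solv N hN (H18.OddOrder.solvable hodd)
  have hcen : ∀ g : G ⧸ center G, g * zb = zb * g := by
    intro g
    have h3 := hcomm g
    rw [hN1, mem_bot] at h3
    calc g * zb = 1 * (g * zb) := by rw [one_mul]
      _ = zb * g * zb⁻¹ * g⁻¹ * (g * zb) := by rw [h3]
      _ = zb * g := by group
  have hZn : (zpowers zb).Normal := by
    constructor
    intro n hn g
    obtain ⟨i, rfl⟩ := mem_zpowers_iff.1 hn
    have h1 : Commute g zb := hcen g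
    rw [(h1.zpow_right i).eq, mul_inv_cancel_right]
    exact hn
  have hZs : Group.IsSolvable (zpowers zb) := by infer_instance
  have h7 := quot_solv h.solv _ hZn hZs
  apply hzb1
  have h8 : zb ∈ zpowers zb := mem_zpowers zb
  rw [h7, mem_bot] at h8
  exact h8

end H11.CAD
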