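import Cfsg.Agent.Lib.H4.CA0

set_option autoImplicit false
set_option linter.unusedVariables false
set_option maxHeartbeats 400000

/-!
# S4369, piece J: a 2-element commuting with a bad element is central
-/

namespace H11.CAJ

open Subgroup H4.CA

universe u

variable {G : Type u} [Group G]

theorem mem_Z {x : G} : x ∈ center G ↔ ∀ y, Commute x y := by
  rw [mem_center_iff]
  exact ⟨fun h y => (h y).symm, fun h y => (h y).symm⟩

theorem comm_of_zpowers {x a y : G} (ha : a ∈ zpowers x) (h : Commute x y) : Commute a y := by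
  obtain ⟨i, rfl⟩ := mem_zpowers_iff.1 ha
  exact h.zpow_left i

/-- the 2-part and the odd part -/
theorem parts [Finite G] (x : G) : ∃ a b : G, a ∈ zpowers x ∧ b ∈ zpowers x ∧ a * b = x ∧
    (∃ k : ℕ, a ^ 2 ^ k = 1) ∧ Odd (orderOf b) := by
  obtain ⟨k, m, hm, hn⟩ := Nat.exists_eq_two_pow_mul_odd (orderOf_pos x).ne'
  have hco : Nat.Coprime (2 ^ k) m := Nat.Coprime.pow_left k (Nat.coprime_two_left.2 hm)
  have hb : (1 : ℤ) = ((2 ^ k : ℕ) : ℤ) * Nat.gcdA (2 ^ k) m + (m : ℤ) * Nat.gcdB (2 ^ k) m := by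
    have := Nat.gcd_eq_gcd_ab (2 ^ k) m
    rw [hco.gcd_eq_one] at this
    exact_mod_cast this
  have hx1 : x ^ ((2 ^ k * m : ℕ) : ℤ) = 1 := by
    rw [zpow_natCast, ← hn, pow_orderOf_eq_one]
  refine ⟨x ^ ((m : ℤ) * Nat.gcdB (2 ^ k) m), x ^ (((2 ^ k : ℕ) : ℤ) * Nat.gcdA (2 ^ k) m),
    zpow_mem_zpowers _ _, zpow_mem_zpowers _ _, ?_, ⟨k, ?_⟩, ?_⟩
  · rw [← zpow_add]
    have : (m : ℤ) * Nat.gcdB (2 ^ k) m + ((2 ^ k : ℕ) : ℤ) * Nat.gcdA (2 ^ k) m = 1 := by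
      rw [add_comm]; exact hb.symm
    rw [this, zpow_one]
  · rw [← zpow_natCast, ← zpow_mul]
    have : (m : ℤ) * Nat.gcdB (2 ^ k) m * ((2 ^ k : ℕ) : ℤ) =
        ((2 ^ k * m : ℕ) : ℤ) * Nat.gcdB (2 ^ k) m := by
      push_cast; ring
    rw [this, zpow_mul, hx1, one_zpow]
  · have h1 : (x ^ (((2 ^ k : ℕ) : ℤ) * Nat.gcdA (2 ^ k) m)) ^ m = 1 := by
      rw [← zpow_natCast, ← zpow_mul]
      have : ((2 ^ k : ℕ) : ℤ) * Nat.gcdA (2 ^ k) m * (m : ℤ) =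
          ((2 ^ k * m : ℕ) : ℤ) * Nat.gcdA (2 ^ k) m := by
        push_cast; ring
      rw [this, zpow_mul, hx1, one_zpow]
    exact hm.of_dvd_nat (orderOf_dvd_of_pow_eq_one h1)

/-- a bad element has a bad odd part, its 2-part is central -/
theorem odd_part [Finite G] (b0 : ∀ s : G, (∃ k : ℕ, s ^ 2 ^ k = 1) → ¬ Bad s) {x : G} (hx : Bad x) :
    ∃ u : G, u ∈ zpowers x ∧ Odd (orderOf u) ∧ Bad u := by
  obtain ⟨a, b, ha, hb, hab, h2, ho⟩ := parts x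
  obtain ⟨hZ, c, d, xc, xd, cd⟩ := hx
  have haZ : a ∈ center G := by
    by_contra haZ
    exact b0 a h2 ⟨haZ, c, d, comm_of_zpowers ha xc, comm_of_zpowers ha xd, cd⟩
  have hbZ : b ∉ center G := fun hbZ => hZ (hab ▸ mul_mem haZ hbZ)
  exact ⟨b, hb, ho, hbZ, c, d, comm_of_zpowers hb xc, comm_of_zpowers hb xd, cd⟩

/-- the 2-elements of an abelian subgroup -/
def tors (B : Subgroup G) (hB : ∀ a ∈ B, ∀ b ∈ B, Commute a b) : Subgroup G where
  carrier := {b | b ∈ B ∧ ∃ k : ℕ, b ^ 2 ^ k = 1}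
  mul_mem' := by
    rintro a b ⟨ha, i, hi⟩ ⟨hb, j, hj⟩
    refine ⟨mul_mem ha hb, i + j, ?_⟩
    rw [(hB a ha b hb).mul_pow, pow_add, pow_mul, hi, one_pow, mul_comm (2 ^ i), pow_mul, hj,
      one_pow, one_mul]
  one_mem' := ⟨one_mem _, 0, by simp⟩
  inv_mem' := by
    rintro a ⟨ha, i, hi⟩
    exact ⟨inv_mem ha, i, by rw [inv_pow, hi, inv_one]⟩

theorem all_comm [Finite G] (sna : ∃ S : Sylow 2 G, ∃ a ∈ S, ∃ b ∈ S, ¬ Commute a b) (S : Sylow 2 G) :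
    ∃ a ∈ S, ∃ b ∈ S, ¬ Commute a b := by
  obtain ⟨S', a, ha, b, hb, hab⟩ := sna
  haveI : Fact (Nat.Prime 2) := ⟨Nat.prime_two⟩
  obtain ⟨g, hg⟩ := MulAction.exists_smul_eq G S' S
  refine ⟨g * a * g⁻¹, ?_, g * b * g⁻¹, ?_, ?_⟩
  · rw [← hg]
    exact ⟨a, ha, rfl⟩
  · rw [← hg]
    exact ⟨b, hb, rfl⟩
  · intro hc
    apply hab
    have := hc.eq
    show a * b = b * a
    have h1 : g * (a * b) * g⁻¹ = g * (b * a) * g⁻¹ := by
      calc g * (a * b) * g⁻¹ = g * a * g⁻¹ * (g * b * g⁻¹) := by group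
        _ = g * b * g⁻¹ * (g * a * g⁻¹) := this
        _ = g * (b * a) * g⁻¹ := by group
    exact mul_left_cancel (mul_right_cancel h1)

/-- last power outside -/
theorem last {T : Subgroup G} {y : G} (hy : y ∉ T) {k : ℕ} (hk : y ^ 2 ^ k ∈ T) :
    ∃ j : ℕ, y ^ 2 ^ j ∉ T ∧ (y ^ 2 ^ j) ^ 2 ∈ T := by
  induction k with
  | zero => simp at hk; exact absurd hk hy
  | succ k ih =>
    by_cases h : y ^ 2 ^ k ∈ T
    · exact ih h
    · exact ⟨k, h, by rw [← pow_mul, ← pow_succ]; exact hk⟩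

theorem b2 [Finite G] (h : Beta1 G) : ∀ x : G, Bad x → ∀ t : G, (∃ k : ℕ, t ^ 2 ^ k = 1) →
    Commute x t → t ∈ center G := by
  intro x0 hx0 t ht2 hx0t
  by_contra htZ
  haveI : Fact (Nat.Prime 2) := ⟨Nat.prime_two⟩
  obtain ⟨x, hxx0, hxo, hx⟩ := odd_part h.b0 hx0
  have hxt : Commute x t := comm_of_zpowers hxx0 hx0t
  set B : Subgroup G := centralizer ({t} : Set G) with hBdef
  have memB : ∀ b, b ∈ B ↔ Commute t b := by
    intro b
    rw [hBdef, mem_centralizer_singleton_iff]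
    exact ⟨fun h => h.symm, fun h => h.symm⟩
  have hB : ∀ a ∈ B, ∀ b ∈ B, Commute a b := by
    intro a ha b hb
    by_contra hab
    exact h.b0 t ht2 ⟨htZ, a, b, (memB a).1 ha, (memB b).1 hb, hab⟩
  have htB : t ∈ B := (memB t).2 (Commute.refl t)
  have hxB : x ∈ B := (memB x).2 hxt.symm
  set T := tors B hB with hT
  have memT : ∀ b, b ∈ T ↔ b ∈ B ∧ ∃ k : ℕ, b ^ 2 ^ k = 1 := fun b => Iff.rfl
  have hTp : IsPGroup 2 T := by
    rintro ⟨b, hb⟩
    obtain ⟨k, hk⟩ := ((memT b).1 hb).2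
    exact ⟨k, Subtype.ext hk⟩
  obtain ⟨S, hTS⟩ := hTp.exists_le_sylow
  have hSna := all_comm h.sna S
  have htT : t ∈ T := (memT t).2 ⟨htB, ht2⟩
  -- 2-elements of S
  have hS2 : ∀ s ∈ S, ∃ k : ℕ, s ^ 2 ^ k = 1 := by
    intro s hs
    obtain ⟨k, hk⟩ := S.2 ⟨s, hs⟩
    exact ⟨k, congrArg Subtype.val hk⟩
  have hTne : T.subgroupOf S ≠ ⊤ := by
    intro he
    obtain ⟨a, ha, b, hb, hab⟩ := hSna
    have h1 : (S : Subgroup G) ≤ T := subgroupOf_eq_top.1 he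
    exact hab (hB a ((memT a).1 (h1 ha)).1 b ((memT b).1 (h1 hb)).1)
  haveI : Group.IsNilpotent (S : Subgroup G) := S.2.isNilpotent
  have hlt : T.subgroupOf S < normalizer ((T.subgroupOf (S : Subgroup G) : Subgroup S) : Set S) :=
    Group.normalizerCondition_of_isNilpotent _ (lt_top_iff_ne_top.2 hTne)
  obtain ⟨⟨y0, hy0S⟩, hy0N, hy0T⟩ := SetLike.exists_of_lt hlt
  have hy0T' : y0 ∉ T := fun hh => hy0T (mem_subgroupOf.2 hh)
  have hy0n : ∀ b ∈ T, y0 * b * y0⁻¹ ∈ T := by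
    intro b hb
    have h1 := (mem_normalizer_iff.1 hy0N ⟨b, hTS hb⟩).1 (mem_subgroupOf.2 hb)
    exact mem_subgroupOf.1 h1
  obtain ⟨k0, hk0⟩ := hS2 y0 hy0S
  obtain ⟨j, hjT, hj2⟩ := last hy0T' (k := k0) (by rw [hk0]; exact one_mem _)
  have hpow : ∀ n : ℕ, ∀ b ∈ T, y0 ^ n * b * (y0 ^ n)⁻¹ ∈ T := by
    intro n
    induction n with
    | zero => intro b hb; simpa using hb
    | succ n ih =>
      intro b hb
      have : y0 ^ (n + 1) * b * (y0 ^ (n + 1))⁻¹ = y0 ^ n * (y0 * b * y0⁻¹) * (y0 ^ n)⁻¹ := by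
        rw [pow_succ]; group
      rw [this]
      exact ih _ (hy0n b hb)
  obtain ⟨y, hy⟩ : ∃ y, y = y0 ^ 2 ^ j := ⟨_, rfl⟩
  rw [← hy] at hjT hj2
  have hyS : y ∈ S := hy ▸ pow_mem hy0S _
  have hyn : ∀ b ∈ T, y * b * y⁻¹ ∈ T := fun b hb => hy ▸ hpow _ b hb
  have hyB : y ∉ B := fun hh => hjT ((memT y).2 ⟨hh, hS2 y hyS⟩)
  have hyt : ¬ Commute y t := fun hh => hyB ((memB y).2 hh.symm)
  -- y normalizes B
  have hyt' : y⁻¹ * t * y ∈ T := by
    -- use finiteness: conjugation by y is a bijection of T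
    have h1 := hpow (orderOf y0 * 2 ^ j - 2 ^ j) t htT
    have h2 : y0 ^ (orderOf y0 * 2 ^ j - 2 ^ j) = y⁻¹ := by
      rw [hy, eq_inv_iff_mul_eq_one, ← pow_add, Nat.sub_add_cancel, pow_mul, pow_orderOf_eq_one, one_pow]
      exact Nat.le_mul_of_pos_left _ (orderOf_pos y0)
    rw [h2, inv_inv] at h1
    exact h1
  have hyB' : ∀ b ∈ B, y * b * y⁻¹ ∈ B := by
    intro b hb
    rw [memB]
    have h1 : Commute (y⁻¹ * t * y) b := hB _ ((memT _).1 hyt').1 b hb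
    have h2 := h1.eq
    show t * (y * b * y⁻¹) = y * b * y⁻¹ * t
    calc t * (y * b * y⁻¹) = y * ((y⁻¹ * t * y) * b) * y⁻¹ := by group
      _ = y * (b * (y⁻¹ * t * y)) * y⁻¹ := by rw [h2]
      _ = y * b * y⁻¹ * t := by group
  -- fixed points
  have hfix : ∀ c ∈ B, Commute c y → c ∈ center G := by
    intro c hc hcy
    by_contra hcZ
    have htc : Commute c t := hB c hc t htB
    have hcbad : Bad c := ⟨hcZ, y, t, hcy, htc, hyt⟩
    obtain ⟨u, huc, huo, hu⟩ := odd_part h.b0 hcbad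
    have huy : Commute u y := comm_of_zpowers huc hcy
    have hut : Commute u t := comm_of_zpowers huc htc
    have hP : IsPGroup 2 ((S : Subgroup G) ⊓ centralizer ({u} : Set G) : Subgroup G) :=
      S.2.to_le inf_le_left
    apply hyt
    refine h.b1 u hu.1 huo _ hP ?_ y ?_ t ?_
    · intro p hp
      exact ((mem_centralizer_singleton_iff).1 hp.2).symm
    · exact ⟨hyS, mem_centralizer_singleton_iff.2 huy.symm⟩
    · exact ⟨hTS htT, mem_centralizer_singleton_iff.2 hut.symm⟩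
  have hxy : y * x * y⁻¹ ∈ B := hyB' x hxB
  have hxxy : Commute x (y * x * y⁻¹) := hB x hxB _ hxy
  have hy2x : Commute (y ^ 2) x := hB _ ((memT _).1 hj2).1 x hxB
  have hz : x * (y * x * y⁻¹) ∈ center G := by
    apply hfix _ (mul_mem hxB hxy)
    show x * (y * x * y⁻¹) * y = y * (x * (y * x * y⁻¹))
    have h1 : y ^ 2 * x * (y ^ 2)⁻¹ = x := by rw [hy2x.eq]; group
    have h2 : y * (y * x * y⁻¹) * y⁻¹ = x := by
      calc y * (y * x * y⁻¹) * y⁻¹ = y ^ 2 * x * (y ^ 2)⁻¹ := by rw [pow_two]; group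
        _ = x := h1
    calc x * (y * x * y⁻¹) * y = (y * x * y⁻¹) * x * y := by rw [hxxy.eq]
      _ = (y * x * y⁻¹) * (y * (y * x * y⁻¹) * y⁻¹) * y := by rw [h2]
      _ = y * (x * (y * x * y⁻¹)) := by group
  have hzc := mem_Z.1 hz
  have hnorm : Commute x y⁻¹ := by
    apply h.norm x hx
    intro w hw
    have h1 : Commute (y * x * y⁻¹) w := by
      have h2 : y * x * y⁻¹ = x⁻¹ * (x * (y * x * y⁻¹)) := by group
      rw [h2]
      exact (hw.inv_left).mul_left (hzc w)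
    have h3 := h1.eq
    show x * (y⁻¹ * w * y⁻¹⁻¹) = y⁻¹ * w * y⁻¹⁻¹ * x
    rw [inv_inv]
    calc x * (y⁻¹ * w * y) = y⁻¹ * ((y * x * y⁻¹) * w) * y := by group
      _ = y⁻¹ * (w * (y * x * y⁻¹)) * y := by rw [h3]
      _ = y⁻¹ * w * y * x := by group
  have hxy2 : Commute x y := by
    have := hnorm.inv_right
    rwa [inv_inv] at this
  have h4 : x ^ 2 ∈ center G := by
    have h5 : y * x * y⁻¹ = x := by rw [← hxy2.eq]; group
    rw [h5] at hz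
    rwa [pow_two]
  apply hx.1
  obtain ⟨m, hm⟩ := hxo
  have h6 : x = x ^ (2 * (m + 1)) := by
    have : 2 * (m + 1) = orderOf x + 1 := by omega
    rw [this, pow_succ, pow_orderOf_eq_one, one_mul]
  rw [h6, pow_mul]
  exact pow_mem h4 _

end H11.CAJ
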