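import Mathlib
import Cfsg.Prelude.Def_CaseTheorems
import Cfsg.Agent.Lib.Lead.CITBase
import Cfsg.Agent.S3224
import Cfsg.Agent.S3225
import Cfsg.Agent.S0508
import Cfsg.Agent.Lib.H1.Cores

/-! T-CIT, module M8 -/

set_option autoImplicit false

open Subgroup H28.Cj H28.RelSyl Lead.CIT

namespace H11.CITM8

universe u

/-- structure of a semidihedral group -/
theorem qd {T : Type u} [Group T] [Finite T] (h : Cfsg.IsQuasiDihedral T) :
    ∃ (A M : Subgroup T) (z w : T), A.Normal ∧ M.index = 2 ∧ (∀ s, s ∉ M → s * s ≠ 1) ∧ w * w = z ∧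
      z ≠ 1 ∧ z * z = 1 ∧ (∀ s, s * z = z * s) ∧ w ∉ A ∧ (∀ m ∈ M, m ∉ A → m * m = 1) ∧
      (∀ m ∈ A, m * m ≠ 1 → m * m * (m * m) = 1 → m * m = z) := by
  obtain ⟨n, hn, hcard, x, y, hx, hy, hxy⟩ := h
  obtain ⟨k, rfl⟩ : ∃ k, n = k + 3 := ⟨n - 3, by omega⟩
  have hk : k + 3 - 1 = k + 2 := by omega
  rw [hk] at hxy
  have hyy : y * y = 1 := by
    have := pow_orderOf_eq_one y
    rwa [hy, pow_two] at this
  have hyi : y⁻¹ = y := inv_eq_of_mul_eq_one_left hyy
  have hpos : 2 ≤ 2 ^ (k + 2) := by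
    calc 2 = 2 ^ 1 := rfl
      _ ≤ 2 ^ (k + 2) := Nat.pow_le_pow_right (by norm_num) (by omega)
  have hconj : ∀ i : ℤ, y * x ^ i * y⁻¹ = x ^ (i * (2 ^ (k + 2) - 1)) := by
    intro i
    rw [← conj_zpow, hxy, mul_comm i, zpow_mul]
    congr 1
    rw [← zpow_natCast]
    congr 1
    push_cast [Nat.cast_sub (by omega : 1 ≤ 2 ^ (k + 2))]
    ring
  have hxz : ∀ i : ℤ, x ^ i = 1 ↔ (2 ^ (k + 3) : ℤ) ∣ i := by
    intro i
    rw [← orderOf_dvd_iff_zpow_eq_one, hx]
    push_cast
    exact Iff.rfl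
  have hyA : y ∉ zpowers x := by
    rintro ⟨i, hi⟩
    have h1 : y * x * y⁻¹ = x := by
      rw [← hi]
      change x ^ i * x * (x ^ i)⁻¹ = x
      group
    have h2 := hconj 1
    rw [zpow_one, h1, one_mul] at h2
    have h3 : x ^ ((2 ^ (k + 2) - 2 : ℤ)) = 1 := by
      have : (2 ^ (k + 2) - 2 : ℤ) = (2 ^ (k + 2) - 1) + (-1) := by ring
      rw [this, zpow_add, ← h2, zpow_neg, zpow_one, mul_inv_cancel]
    rw [hxz] at h3
    have h4 := Int.le_of_dvd (by
      have : (2 : ℤ) < 2 ^ (k + 2) := by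
        calc (2 : ℤ) = 2 ^ 1 := rfl
          _ < 2 ^ (k + 2) := pow_lt_pow_right₀ (by norm_num) (by omega)
      linarith) h3
    have h5 : (2 : ℤ) ^ (k + 3) = 2 * 2 ^ (k + 2) := by ring
    have h6 : (0 : ℤ) < 2 ^ (k + 2) := by positivity
    linarith
  have hA : (zpowers x).index = 2 := by
    have h1 := (zpowers x).card_mul_index
    rw [Nat.card_zpowers, hx, hcard, pow_succ 2 (k + 3)] at h1
    exact Nat.eq_of_mul_eq_mul_left (by positivity) h1
  have hAn : (zpowers x).Normal := normal_of_index_eq_two hA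
  -- every element is `x ^ i` or `x ^ i * y`
  have hcov : ∀ s : T, (∃ i : ℤ, s = x ^ i) ∨ ∃ i : ℤ, s = x ^ i * y := by
    intro s
    by_cases hs : s ∈ zpowers x
    · obtain ⟨i, hi⟩ := hs
      exact Or.inl ⟨i, hi.symm⟩
    · right
      have h1 := (mul_mem_iff_of_index_two hA (a := s) (b := y)).mpr
        (by constructor
            · intro h; exact absurd h hs
            · intro h; exact absurd h hyA)
      obtain ⟨i, hi⟩ := h1
      refine ⟨i, ?_⟩
      have : s = (s * y) * y := by rw [mul_assoc, hyy, mul_one]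
      rw [this, ← hi]
  have hsq : ∀ i : ℤ, (x ^ i * y) * (x ^ i * y) = x ^ (i * 2 ^ (k + 2)) := by
    intro i
    calc (x ^ i * y) * (x ^ i * y) = x ^ i * (y * x ^ i * y⁻¹) * (y * y) := by group
      _ = x ^ (i + i * (2 ^ (k + 2) - 1)) := by rw [hyy, mul_one, hconj, zpow_add]
      _ = _ := by congr 1; ring
  have h22 : ((2 : ℤ) ^ (k + 3)) = 2 ^ (k + 2) * 2 := by ring
  have h20 : ((2 : ℤ) ^ (k + 2)) ≠ 0 := by positivity
  -- the dihedral subgroup
  let M : Subgroup T :=
    { carrier := {s | ∃ i : ℤ, s = x ^ (2 * i) ∨ s = x ^ (2 * i) * y}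
      one_mem' := ⟨0, Or.inl (by simp)⟩
      mul_mem' := by
        rintro a b ⟨i, rfl | rfl⟩ ⟨j, rfl | rfl⟩
        · exact ⟨i + j, Or.inl (by rw [← zpow_add]; congr 1; ring)⟩
        · exact ⟨i + j, Or.inr (by rw [← mul_assoc, ← zpow_add]; congr 2; ring)⟩
        · refine ⟨i + j * (2 ^ (k + 2) - 1), Or.inr ?_⟩
          calc x ^ (2 * i) * y * x ^ (2 * j) = x ^ (2 * i) * (y * x ^ (2 * j) * y⁻¹) * y := by group
            _ = _ := by
              rw [hconj, ← zpow_add]
              congr 2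
              ring
        · refine ⟨i + j * (2 ^ (k + 2) - 1), Or.inl ?_⟩
          calc x ^ (2 * i) * y * (x ^ (2 * j) * y) = x ^ (2 * i) * (y * x ^ (2 * j) * y⁻¹) * (y * y) := by group
            _ = _ := by
              rw [hyy, mul_one, hconj, ← zpow_add]
              congr 1
              ring
      inv_mem' := by
        rintro a ⟨i, rfl | rfl⟩
        · exact ⟨-i, Or.inl (by rw [← zpow_neg]; congr 1; ring)⟩
        · refine ⟨i, Or.inr ?_⟩
          apply inv_eq_of_mul_eq_one_left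
          rw [hsq, hxz, h22]
          exact ⟨i, by ring⟩ }
  have hMmem : ∀ s, s ∈ M ↔ ∃ i : ℤ, s = x ^ (2 * i) ∨ s = x ^ (2 * i) * y := fun s => Iff.rfl
  have hne1 : ∀ i j : ℤ, x ^ i ≠ x ^ j * y := by
    intro i j hij
    apply hyA
    exact ⟨i - j, by
      change x ^ (i - j) = y
      rw [sub_eq_neg_add, zpow_add, zpow_neg, hij, inv_mul_cancel_left]⟩
  have hpar : ∀ i j : ℤ, x ^ i = x ^ j → (Even i ↔ Even j) := by
    intro i j hij
    have h1 : x ^ (i - j) = 1 := by rw [zpow_sub, hij, mul_inv_cancel]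
    rw [hxz] at h1
    have h2 : Even (i - j) := by
      obtain ⟨c, hc⟩ := h1
      exact ⟨2 ^ (k + 2) * c, by rw [hc, h22]; ring⟩
    rw [Int.even_sub] at h2
    exact h2
  have hMx : ∀ i : ℤ, x ^ i ∈ M ↔ Even i := by
    intro i
    rw [hMmem]
    constructor
    · rintro ⟨j, hj | hj⟩
      · exact (hpar _ _ hj).mpr ⟨j, by ring⟩
      · exact absurd hj (hne1 _ _)
    · rintro ⟨j, hj⟩
      exact ⟨j, Or.inl (by rw [hj]; congr 1; ring)⟩
  have hMxy : ∀ i : ℤ, x ^ i * y ∈ M ↔ Even i := by
    intro i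
    rw [hMmem]
    constructor
    · rintro ⟨j, hj | hj⟩
      · exact absurd hj.symm (hne1 _ _)
      · exact (hpar _ _ (mul_right_cancel hj)).mpr ⟨j, by ring⟩
    · rintro ⟨j, hj⟩
      exact ⟨j, Or.inr (by rw [hj]; congr 2; ring)⟩
  have hMi : M.index = 2 := by
    rw [index_eq_two_iff]
    refine ⟨x, fun b => ?_⟩
    rcases hcov b with ⟨i, rfl⟩ | ⟨i, rfl⟩
    · have e1 : x ^ i * x = x ^ (i + 1) := (zpow_add_one x i).symm
      rw [e1, hMx, hMx]
      rcases Int.even_or_odd i with hi | hi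
      · right
        exact ⟨hi, by rw [Int.not_even_iff_odd]; exact hi.add_one⟩
      · left
        exact ⟨hi.add_one, by rw [Int.not_even_iff_odd]; exact hi⟩
    · have e1 : x ^ i * y * x = x ^ (i + (2 ^ (k + 2) - 1)) * y := by
        have h1 := hconj 1
        rw [zpow_one, one_mul] at h1
        calc x ^ i * y * x = x ^ i * (y * x * y⁻¹) * y := by group
          _ = _ := by rw [h1, ← zpow_add]
      rw [e1, hMxy, hMxy]
      have h2 : Odd ((2 : ℤ) ^ (k + 2) - 1) := by
        refine ⟨2 ^ (k + 1) - 1, ?_⟩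
        ring
      rcases Int.even_or_odd i with hi | hi
      · right
        exact ⟨hi, by rw [Int.not_even_iff_odd]; exact hi.add_odd h2⟩
      · left
        exact ⟨hi.add_odd h2, by rw [Int.not_even_iff_odd]; exact hi⟩
  have hzc : y * x ^ ((2 : ℤ) ^ (k + 2)) * y⁻¹ = x ^ ((2 : ℤ) ^ (k + 2)) := by
    rw [hconj]
    have : x ^ ((2 : ℤ) ^ (k + 2) * (2 ^ (k + 2) - 1) - 2 ^ (k + 2)) = 1 := by
      rw [hxz, h22]
      exact ⟨2 ^ (k + 1) - 1, by ring⟩
    rw [zpow_sub, mul_inv_eq_one] at this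
    exact this
  refine ⟨zpowers x, M, x ^ ((2 : ℤ) ^ (k + 2)), x * y, hAn, hMi, ?_, ?_, ?_, ?_, ?_, ?_, ?_, ?_⟩
  · intro s hs hs1
    rcases hcov s with ⟨i, rfl⟩ | ⟨i, rfl⟩
    · rw [hMx, Int.not_even_iff_odd] at hs
      rw [← zpow_add, hxz, h22] at hs1
      obtain ⟨c, hc⟩ := hs1
      obtain ⟨d, hd⟩ := hs
      have h1 : i = 2 ^ (k + 2) * c := by linarith
      have h2 : i = 2 * (2 ^ (k + 1) * c) := by rw [h1]; ring
      generalize (2 : ℤ) ^ (k + 1) * c = w at h2
      omega
    · rw [hMxy, Int.not_even_iff_odd] at hs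
      rw [hsq, hxz, h22] at hs1
      obtain ⟨c, hc⟩ := hs1
      obtain ⟨d, hd⟩ := hs
      have h1 : i = 2 * c := by
        apply mul_left_cancel₀ h20
        linarith
      omega
  · have := hsq 1
    rwa [zpow_one, one_mul] at this
  · rw [Ne, hxz, h22]
    rintro ⟨c, hc⟩
    have h1 : (1 : ℤ) = 2 * c := by
      apply mul_left_cancel₀ h20
      linarith
    omega
  · rw [← zpow_add, hxz, h22]
    exact ⟨1, by ring⟩
  · intro s
    rcases hcov s with ⟨i, rfl⟩ | ⟨i, rfl⟩
    · rw [← zpow_add, ← zpow_add, add_comm]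
    · calc x ^ i * y * x ^ ((2 : ℤ) ^ (k + 2)) = x ^ i * (y * x ^ ((2 : ℤ) ^ (k + 2)) * y⁻¹) * y := by group
        _ = x ^ ((2 : ℤ) ^ (k + 2)) * (x ^ i * y) := by
          rw [hzc, ← zpow_add, ← mul_assoc, ← zpow_add, add_comm]
  · intro h1
    apply hyA
    have : y = x⁻¹ * (x * y) := by group
    rw [this]
    exact (zpowers x).mul_mem ((zpowers x).inv_mem (mem_zpowers x)) h1
  · intro m hm hmA
    obtain ⟨i, rfl | rfl⟩ := (hMmem m).mp hm
    · exact absurd ⟨2 * i, rfl⟩ hmA
    · rw [hsq, hxz, h22]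
      exact ⟨i, by ring⟩
  · rintro _ ⟨i, rfl⟩ h1 h2
    change x ^ i * x ^ i = _
    change ¬ (x ^ i * x ^ i = 1) at h1
    change x ^ i * x ^ i * (x ^ i * x ^ i) = 1 at h2
    rw [← zpow_add, ← zpow_add, hxz, h22] at h2
    rw [← zpow_add, hxz, h22] at h1
    rw [← zpow_add]
    obtain ⟨c, hc⟩ := h2
    have h3 : i + i = 2 ^ (k + 2) * c := by linarith
    have hodd : ¬ (2 : ℤ) ∣ c := by
      rintro ⟨d, rfl⟩
      exact h1 ⟨d, by linarith⟩
    have h4 : x ^ (i + i - 2 ^ (k + 2)) = 1 := by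
      rw [hxz, h22, h3]
      obtain ⟨d, hd⟩ : ∃ d, c = 2 * d + 1 := ⟨c / 2, by omega⟩
      exact ⟨d, by rw [hd]; ring⟩
    rw [zpow_sub, mul_inv_eq_one] at h4
    exact h4


section main

variable {G : Type u} [Group G] [Finite G]

theorem index_ne_two [IsSimpleGroup G] (hna : ∃ a b : G, a * b ≠ b * a) (H : Subgroup G) :
    H.index ≠ 2 := by
  intro hH
  have hn : H.Normal := normal_of_index_eq_two hH
  rcases hn.eq_bot_or_eq_top with h1 | h1
  · rw [h1, index_bot] at hH
    obtain ⟨a, b, hab⟩ := hna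
    have : Fact (Nat.Prime 2) := ⟨Nat.prime_two⟩
    have hc : IsCyclic G := isCyclic_of_prime_card hH
    let _ := IsCyclic.commGroup (α := G)
    exact hab (mul_comm a b)
  · rw [h1, index_top] at hH
    norm_num at hH

/-- in a `Sep` group the centraliser of an involution is a `2`-group -/
theorem cent_two (hS : Sep G) {z : G} (hz : orderOf z = 2) : IsPGroup 2 (centralizer ({z} : Set G)) := by
  have : Fact (Nat.Prime 2) := ⟨Nat.prime_two⟩
  rw [IsPGroup.iff_card]
  by_contra hcon
  obtain ⟨p, hp, hpd, hp2⟩ : ∃ p : ℕ, p.Prime ∧ p ∣ Nat.card (centralizer ({z} : Set G)) ∧ p ≠ 2 := by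
    by_contra h2
    push Not at h2
    apply hcon
    refine ⟨(Nat.card (centralizer ({z} : Set G))).primeFactorsList.length, ?_⟩
    exact Nat.eq_prime_pow_of_unique_prime_dvd Nat.card_pos.ne' (fun {q} hq hqd => h2 q hq hqd)
  have := Fact.mk hp
  obtain ⟨x, hx⟩ := exists_prime_orderOf_dvd_card' p hpd
  have h1 : orderOf (x : G) = p := by rw [Subgroup.orderOf_coe]; exact hx
  have h2 : (x : G) * z = z * x := (mem_centralizer_singleton_iff.mp x.2)
  have h3 := hS x z hz (by rw [h1]; exact hp.odd_of_ne_two hp2) h2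
  rw [h3, orderOf_one] at h1
  exact hp.one_lt.ne' h1.symm

theorem sylow_eq_cent (hS : Sep G) (S : Sylow 2 G) {z : G} (hz : orderOf z = 2)
    (hzS : ∀ s ∈ (S : Subgroup G), s * z = z * s) : centralizer ({z} : Set G) = S := by
  have : Fact (Nat.Prime 2) := ⟨Nat.prime_two⟩
  refine S.is_maximal' (cent_two hS hz) fun s hs => ?_
  exact mem_centralizer_singleton_iff.mpr (hzS s hs)

/-- semidihedral Sylow `2`-subgroups do not occur -/
theorem not_qd [IsSimpleGroup G] (hna : ∃ a b : G, a * b ≠ b * a) (hS : Sep G) (S : Sylow 2 G) :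
    ¬ Cfsg.IsQuasiDihedral (S : Subgroup G) := by
  intro hq
  have : Fact (Nat.Prime 2) := ⟨Nat.prime_two⟩
  obtain ⟨A, M, z, w, hAn, hMi, hM1, hww, hz1, hzz, hzc, hwA, hM2, hA2⟩ := qd hq
  have hz2 : orderOf (z : G) = 2 := by
    rw [Subgroup.orderOf_coe]
    apply orderOf_eq_prime
    · rw [pow_two]; exact hzz
    · exact hz1
  have hcent := sylow_eq_cent hS S hz2 (fun s hs => congrArg Subtype.val (hzc ⟨s, hs⟩))
  have hev : Even (Nat.card G) := by
    rw [even_iff_two_dvd, ← hz2]
    exact orderOf_dvd_natCard _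
  have hw4 : orderOf w = 2 ^ 2 := by
    apply orderOf_eq_prime_pow
    · rw [pow_one, pow_two, hww]; exact hz1
    · have : w ^ 2 ^ (1 + 1) = w * w * (w * w) := by
        norm_num
        rw [pow_succ, pow_succ, pow_two]
        group
      rw [this, hww, hzz]
  obtain ⟨g, hg⟩ := Cfsg.Agent.S3225.result hev (index_ne_two hna) S (M.map (S : Subgroup G).subtype)
    (map_subtype_le M) (by
      have h0 : (M.map (S : Subgroup G).subtype).relIndex (S : Subgroup G) = M.index := by
        rw [relIndex, subgroupOf, comap_map_eq_self_of_injective (subtype_injective _)]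
      rw [h0, hMi]) 2 (by norm_num)
    (by
      intro y hyS hyM
      by_contra hle
      push Not at hle
      have h1 : orderOf y ∣ 2 := by
        have h2 : orderOf y = orderOf (⟨y, hyS⟩ : (S : Subgroup G)) := (Subgroup.orderOf_mk y hyS).symm
        obtain ⟨k, hk⟩ := (IsPGroup.iff_orderOf.mp S.isPGroup') ⟨y, hyS⟩
        rw [h2, hk]
        rw [h2, hk] at hle
        have : k ≤ 1 := by
          by_contra hk1
          have : 2 ^ 2 ≤ 2 ^ k := Nat.pow_le_pow_right (by norm_num) (by omega)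
          norm_num at hle this
          omega
        exact (pow_dvd_pow 2 this).trans (by norm_num)
      have h3 := orderOf_dvd_iff_pow_eq_one.mp h1
      refine hM1 ⟨y, hyS⟩ (fun hyM' => hyM ⟨⟨y, hyS⟩, hyM', rfl⟩) ?_
      apply Subtype.ext
      rw [pow_two] at h3
      exact h3)
    (w : G) w.2 (by rw [Subgroup.orderOf_coe]; exact hw4)
  obtain ⟨m, hm, hmg⟩ := hg
  have hmg' : (m : G) = g * w * g⁻¹ := hmg
  have hmm : (m : G) * m = g * z * g⁻¹ := by
    rw [hmg']
    have : (z : G) = w * w := congrArg Subtype.val hww.symm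
    rw [this]; group
  have hmm1 : m * m ≠ 1 := by
    intro h1
    have h2 : (m : G) * m = 1 := congrArg Subtype.val h1
    rw [hmm, conj_eq_one_iff] at h2
    exact hz1 (Subtype.ext h2)
  have hmA : m ∈ A := by
    by_contra h1
    exact hmm1 (hM2 m hm h1)
  have hmz : m * m = z := by
    refine hA2 m hmA hmm1 ?_
    apply Subtype.ext
    change (m : G) * m * (m * m) = 1
    rw [hmm]
    have h1 : (z : G) * z = 1 := congrArg Subtype.val hzz
    calc g * z * g⁻¹ * (g * z * g⁻¹) = g * (z * z) * g⁻¹ := by group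
      _ = 1 := by rw [h1]; group
  have hgz : g * z * g⁻¹ = z := by rw [← hmm]; exact congrArg Subtype.val hmz
  have hgS : g ∈ (S : Subgroup G) := by
    rw [← hcent, mem_centralizer_singleton_iff]
    exact mul_inv_eq_iff_eq_mul.mp hgz
  apply hwA
  have h1 := hAn.conj_mem m hmA ⟨g, hgS⟩⁻¹
  have h2 : (⟨g, hgS⟩⁻¹ : (S : Subgroup G)) * m * (⟨g, hgS⟩⁻¹)⁻¹ = w := by
    apply Subtype.ext
    change g⁻¹ * (m : G) * (g⁻¹)⁻¹ = w
    rw [hmg']; group
  rwa [h2] at h1

theorem exists_central (S : Sylow 2 G) (h1 : (S : Subgroup G) ≠ ⊥) :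
    ∃ z ∈ (S : Subgroup G), orderOf z = 2 ∧ ∀ s ∈ (S : Subgroup G), s * z = z * s := by
  have : Fact (Nat.Prime 2) := ⟨Nat.prime_two⟩
  have : Nontrivial (S : Subgroup G) := (nontrivial_iff_ne_bot _).mpr h1
  have := S.isPGroup'.center_nontrivial
  obtain ⟨k, hk⟩ := (S.isPGroup'.to_subgroup (center (S : Subgroup G))).exists_card_eq
  have hk0 : k ≠ 0 := by
    rintro rfl
    rw [pow_zero, Subgroup.card_eq_one] at hk
    exact (nontrivial_iff_ne_bot _).mp this hk
  obtain ⟨z, hz⟩ := exists_prime_orderOf_dvd_card' (G := center (S : Subgroup G)) 2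
    (by rw [hk]; exact dvd_pow_self 2 hk0)
  refine ⟨((z : (S : Subgroup G)) : G), (z : (S : Subgroup G)).2, ?_, ?_⟩
  · rw [Subgroup.orderOf_coe, Subgroup.orderOf_coe]; exact hz
  · intro s hs
    exact congrArg Subtype.val (mem_center_iff.mp z.2 ⟨s, hs⟩)

theorem q_two [IsSimpleGroup G] (hna : ∃ a b : G, a * b ≠ b * a)
    (hS : Sep G) {V : Subgroup G} (h : Nat2 2 V) (hc : centralizer (V : Set G) = V) :
    ∃ (F : Type) (_ : Field F) (_ : Fintype F), Odd (Fintype.card F) ∧
      Nonempty (G ≃* Matrix.ProjectiveSpecialLinearGroup (Fin 2) F) := by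
  classical
  have : Fact (Nat.Prime 2) := ⟨Nat.prime_two⟩
  obtain ⟨S, hVS⟩ := h.ea.isPGroup.exists_le_sylow
  have hV4 : Nat.card V = 4 := h.card
  have hSne : (S : Subgroup G) ≠ ⊥ := by
    intro hb
    rw [hb, le_bot_iff] at hVS
    rw [hVS, card_bot] at hV4
    norm_num at hV4
  obtain ⟨z, hzS, hz2, hzc⟩ := exists_central S hSne
  have hz1 : z ≠ 1 := by
    rintro rfl
    rw [orderOf_one] at hz2
    norm_num at hz2
  have hzV : z ∈ V := by
    rw [← hc, mem_centralizer_iff]
    intro v hv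
    exact hzc v (hVS hv)
  -- the Sylow subgroup is dihedral
  have hdih : ∃ n, 2 ≤ n ∧ Nonempty ((S : Subgroup G) ≃* DihedralGroup n) := by
    by_cases h4 : Nat.card (S : Subgroup G) = 4
    · have hSV : V = S := eq_of_le_of_card_ge hVS (by rw [hV4, h4])
      have hk : IsKleinFour (S : Subgroup G) := by
        refine ⟨h4, ?_⟩
        have h1 : Monoid.exponent (S : Subgroup G) ∣ 2 := by
          apply Monoid.exponent_dvd_of_forall_pow_eq_one
          intro s
          apply Subtype.ext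
          rw [pow_two]
          exact h.ea s (by rw [hSV]; exact s.2)
        rcases (Nat.dvd_prime Nat.prime_two).mp h1 with h2 | h2
        · have := Monoid.exp_eq_one_iff.mp h2
          rw [Nat.card_eq_one_iff_unique.mpr ⟨this, ⟨1⟩⟩] at h4
          norm_num at h4
        · exact h2
      exact ⟨2, le_rfl, IsKleinFour.nonempty_mulEquiv⟩
    · -- a noncentral involution
      obtain ⟨v, hv, hv1, hvz⟩ : ∃ v ∈ V, v ≠ 1 ∧ v ≠ z := by
        by_contra hcon
        push Not at hcon
        have h1 : (V : Set G) ⊆ ({1, z} : Finset G) := by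
          intro v hv
          by_cases hv1 : v = 1
          · simp [hv1]
          · simp [hcon v hv hv1]
        have h2 := Set.ncard_le_ncard h1 (Finset.finite_toSet _)
        rw [Set.ncard_coe_finset, ← Nat.card_coe_set_eq] at h2
        have h3 : Nat.card (V : Set G) = 4 := hV4
        rw [h3] at h2
        have h5 : ({1, z} : Finset G).card ≤ 2 := Finset.card_le_two
        omega
      have hvS := hVS hv
      have hcen : (centralizer ({(⟨v, hvS⟩ : (S : Subgroup G))} : Set (S : Subgroup G))).map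
          (S : Subgroup G).subtype = V := by
        apply le_antisymm
        · rintro _ ⟨s, hs, rfl⟩
          have hsv : (s : G) * v = v * s := congrArg Subtype.val (mem_centralizer_singleton_iff.mp hs)
          change (s : G) ∈ V
          rw [← hc, mem_centralizer_iff]
          have h1 : V ⊓ centralizer ({(s : G)} : Set G) = V := by
            apply eq_of_le_of_card_ge inf_le_left
            rw [hV4]
            have hd : Nat.card (V ⊓ centralizer ({(s : G)} : Set G) : Subgroup G) ∣ 4 := by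
              rw [← hV4]; exact card_dvd_of_le inf_le_left
            have h3 : 3 ≤ Nat.card (V ⊓ centralizer ({(s : G)} : Set G) : Subgroup G) := by
              have h5 : (({1, z, v} : Finset G) : Set G) ⊆ (V ⊓ centralizer ({(s : G)} : Set G) : Subgroup G) := by
                intro x hx
                simp only [Finset.coe_insert, Finset.coe_singleton, Set.mem_insert_iff,
                  Set.mem_singleton_iff] at hx
                rcases hx with rfl | rfl | rfl
                · exact one_mem _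
                · exact ⟨hzV, mem_centralizer_singleton_iff.mpr (hzc s s.2).symm⟩
                · exact ⟨hv, mem_centralizer_singleton_iff.mpr hsv.symm⟩
              have h6 := Set.ncard_le_ncard h5 (Set.toFinite _)
              rw [Set.ncard_coe_finset, Finset.card_insert_of_notMem (by
                simp only [Finset.mem_insert, Finset.mem_singleton, not_or]
                exact ⟨hz1.symm, hv1.symm⟩), Finset.card_insert_of_notMem (by
                simp only [Finset.mem_singleton]; exact hvz.symm), Finset.card_singleton] at h6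
              exact h6
            have h7 := Nat.le_of_dvd (by norm_num) hd
            generalize Nat.card (V ⊓ centralizer ({(s : G)} : Set G) : Subgroup G) = m at hd h3 h7
            interval_cases m
            · norm_num at hd
            · norm_num
          intro x hx
          have hx' : x ∈ V ⊓ centralizer ({(s : G)} : Set G) := by rw [h1]; exact hx
          exact mem_centralizer_singleton_iff.mp hx'.2
        · intro x hx
          refine ⟨⟨x, hVS hx⟩, ?_, rfl⟩
          refine mem_centralizer_singleton_iff.mpr (Subtype.ext ?_)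
          exact h.ea.comm hx hv
      have hcard : Nat.card (centralizer ({(⟨v, hvS⟩ : (S : Subgroup G))} : Set (S : Subgroup G))) = 4 := by
        rw [← hV4, ← hcen]
        exact (card_map_subtype _).symm
      have hvo : orderOf (⟨v, hvS⟩ : (S : Subgroup G)) = 2 := by
        rw [Subgroup.orderOf_mk]
        exact h.ea.orderOf hv hv1
      rcases Cfsg.Agent.S3224.result S.isPGroup' ⟨v, hvS⟩ hvo hcard with ⟨n, ⟨e⟩⟩ | hqd | h5
      · refine ⟨n, ?_, ⟨e⟩⟩
        by_contra hn
        have h6 : 4 ≤ Nat.card (S : Subgroup G) := by rw [← hV4]; exact card_le_of_le hVS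
        rw [Nat.card_congr e.toEquiv, DihedralGroup.nat_card] at h6
        omega
      · exact absurd hqd (not_qd hna hS S)
      · exact absurd h5 h4
  obtain ⟨n, hn, he⟩ := hdih
  have hO : (⊥ : Subgroup G) = (Cfsg.oddCore (Subgroup.centralizer ({z} : Set G))).map
      (Subgroup.centralizer ({z} : Set G)).subtype := by
    symm
    rw [eq_bot_iff]
    rintro _ ⟨x, hx, rfl⟩
    rw [mem_bot]
    have h1 := H1.Cores.coprime_card_pPrimeCore (G := centralizer ({z} : Set G)) 2
    have h2 : Odd (orderOf (x : G)) := by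
      rw [Subgroup.orderOf_coe]
      have h3 : orderOf x ∣ Nat.card (Cfsg.pPrimeCore 2 (centralizer ({z} : Set G))) :=
        Subgroup.orderOf_dvd_natCard _ hx
      rw [← Nat.not_even_iff_odd, even_iff_two_dvd]
      intro h4
      have h5 := (Nat.Coprime.coprime_dvd_left (h4.trans h3) h1)
      norm_num at h5
    exact hS x z hz2 h2 (mem_centralizer_singleton_iff.mp x.2)
  exact Cfsg.Agent.S0508.result S n hn he z hz2 hzS hzc ⊥ hO (fun h1 => absurd rfl h1)
    (fun s _ _ y hy => by rw [mem_bot.mp hy]; group) (fun Y hY hY1 => absurd (le_bot_iff.mp hY) hY1)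

end main

end H11.CITM8
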