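import Mathlib
import Cfsg.Agent.Lib.H1.FrobSyl
import Cfsg.Agent.Lib.H2.FrobComp
import Cfsg.Agent.Lib.H59.Fus1
import Cfsg.Agent.Lib.H4.Burnside

/-! Groups in which every element has prime power order: basics. -/

open Subgroup

namespace H11.Eppo

/-- every nontrivial element has prime power order -/
def PP (G : Type*) [Group G] : Prop := ∀ g : G, g ≠ 1 → IsPrimePow (orderOf g)

section
variable {G : Type*} [Group G]

theorem isPrimePow_of_dvd {m n : ℕ} (hn : IsPrimePow n) (h : m ∣ n) (hm : m ≠ 1) : IsPrimePow m :=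
  hn.dvd h hm

theorem PP.subgroup (h : PP G) (H : Subgroup G) : PP H := by
  intro g hg
  rw [← Subgroup.orderOf_coe]
  exact h g (fun h1 => hg (Subtype.ext h1))

theorem PP.of_injective {H : Type*} [Group H] (h : PP G) (f : H →* G) (hf : Function.Injective f) :
    PP H := by
  intro g hg
  rw [← orderOf_injective f hf g]
  exact h _ (fun h1 => hg (hf (by rw [h1, map_one])))

theorem PP.of_surjective [Finite G] {H : Type*} [Group H] (h : PP G) (f : G →* H)
    (hf : Function.Surjective f) : PP H := by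
  intro y hy
  obtain ⟨x, rfl⟩ := hf y
  have hx : x ≠ 1 := fun h1 => hy (by rw [h1, map_one])
  exact (h x hx).dvd (orderOf_map_dvd f x) (by rwa [Ne, orderOf_eq_one_iff])

theorem PP.quotient [Finite G] (h : PP G) (N : Subgroup G) [N.Normal] : PP (G ⧸ N) :=
  h.of_surjective (QuotientGroup.mk' N) (QuotientGroup.mk'_surjective N)

/-- commuting elements: orders are powers of the same prime -/
theorem PP.same_prime [Finite G] (h : PP G) {x y : G} (hxy : x * y = y * x) {p q : ℕ}
    (hp : p.Prime) (hq : q.Prime) (hpx : p ∣ orderOf x) (hqy : q ∣ orderOf y) : p = q := by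
  by_contra hne
  have hx0 : 0 < orderOf x := orderOf_pos x
  have hy0 : 0 < orderOf y := orderOf_pos y
  obtain ⟨a, ha⟩ := hpx
  obtain ⟨b, hb⟩ := hqy
  have ha0 : a ≠ 0 := by rintro rfl; omega
  have hb0 : b ≠ 0 := by rintro rfl; omega
  have h1 : orderOf (x ^ a) = p := by
    rw [orderOf_pow_of_dvd ha0 ⟨p, by rw [ha, mul_comm]⟩, ha]
    exact Nat.mul_div_cancel _ (Nat.pos_of_ne_zero ha0)
  have h2 : orderOf (y ^ b) = q := by
    rw [orderOf_pow_of_dvd hb0 ⟨q, by rw [hb, mul_comm]⟩, hb]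
    exact Nat.mul_div_cancel _ (Nat.pos_of_ne_zero hb0)
  have hc : Commute (x ^ a) (y ^ b) := Commute.pow_pow hxy a b
  have hcop : (orderOf (x ^ a)).Coprime (orderOf (y ^ b)) := by
    rw [h1, h2]; exact (Nat.coprime_primes hp hq).mpr hne
  have h3 : orderOf (x ^ a * y ^ b) = p * q := by
    rw [hc.orderOf_mul_eq_mul_orderOf_of_coprime hcop, h1, h2]
  have h4 : IsPrimePow (orderOf (x ^ a * y ^ b)) := by
    apply h
    intro h5
    rw [h5, orderOf_one] at h3
    have := hp.two_le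
    have := hq.two_le
    nlinarith
  rw [h3] at h4
  obtain ⟨r, k, hr, hk, hrk⟩ := h4
  have hr' := hr.nat_prime
  have h6 : p ∣ r ^ k := ⟨q, hrk⟩
  have h7 : q ∣ r ^ k := ⟨p, by rw [hrk, mul_comm]⟩
  have h8 := (Nat.prime_dvd_prime_iff_eq hp hr').mp (hp.dvd_of_dvd_pow h6)
  have h9 := (Nat.prime_dvd_prime_iff_eq hq hr').mp (hq.dvd_of_dvd_pow h7)
  exact hne (h8.trans h9.symm)

/-- the centralizer of a nontrivial element of `p`-power order is a `p`-group -/
theorem PP.isPGroup_centralizer [Finite G] (h : PP G) {x : G} {p : ℕ} (hp : p.Prime)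
    (hx : p ∣ orderOf x) {C : Subgroup G} (hC : ∀ y ∈ C, x * y = y * x) : IsPGroup p C := by
  have := Fact.mk hp
  rw [IsPGroup.iff_orderOf]
  rintro ⟨y, hy⟩
  rw [Subgroup.orderOf_mk]
  by_cases hy1 : y = 1
  · exact ⟨0, by rw [hy1, orderOf_one, pow_zero]⟩
  obtain ⟨q, k, hq, hk, hqk⟩ := h y hy1
  have hq' := hq.nat_prime
  have h1 : q ∣ orderOf y := by rw [← hqk]; exact dvd_pow_self q hk.ne'
  have h2 := h.same_prime (hC y hy) hp hq' hx h1
  exact ⟨k, by rw [h2, hqk]⟩

theorem PP.isPGroup_cent [Finite G] (h : PP G) {x : G} {p : ℕ} (hp : p.Prime)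
    (hx : p ∣ orderOf x) : IsPGroup p (centralizer ({x} : Set G)) :=
  h.isPGroup_centralizer hp hx (fun _ hy => (mem_centralizer_singleton_iff.mp hy).symm)

/-- CIT -/
theorem PP.cit [Finite G] (h : PP G) (t : G) (ht : orderOf t = 2) :
    IsPGroup 2 (centralizer ({t} : Set G)) :=
  h.isPGroup_cent Nat.prime_two (by rw [ht])

/-- `PP` from a bound on the orders -/
theorem PP.of_le_five [Finite G] (h : ∀ g : G, orderOf g ≤ 5) : PP G := by
  intro g hg
  have h1 := h g
  have h2 := orderOf_pos g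
  have h3 : orderOf g ≠ 1 := by rwa [Ne, orderOf_eq_one_iff]
  have : orderOf g = 2 ∨ orderOf g = 3 ∨ orderOf g = 4 ∨ orderOf g = 5 := by omega
  rcases this with h4 | h4 | h4 | h4 <;> rw [h4]
  · exact Nat.prime_two.isPrimePow
  · exact Nat.prime_three.isPrimePow
  · exact (Nat.prime_two.isPrimePow).pow (two_ne_zero)
  · exact Nat.prime_five.isPrimePow

/-! ### Frattini index -/

/-- Frattini: `|N_X(P)| = |N_X(P) ∩ M| |X : M|` -/
theorem card_normalizer_eq [Finite G] {M : Subgroup G} [hM : M.Normal] {p : ℕ} [Fact p.Prime]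
    (P : Sylow p M) :
    Nat.card (normalizer (((P : Subgroup M).map M.subtype : Subgroup G) : Set G)) =
      Nat.card (M ⊓ normalizer (((P : Subgroup M).map M.subtype : Subgroup G) : Set G) : Subgroup G) * M.index := by
  set N := normalizer (((P : Subgroup M).map M.subtype : Subgroup G) : Set G) with hN
  have h1 : N ⊔ M = ⊤ := Sylow.normalizer_sup_eq_top P
  have h2 : M.relIndex N = M.index := by
    have h3 : M.relIndex (N ⊔ M) = M.relIndex N := Subgroup.relIndex_sup_right N M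
    rw [← h3, h1, Subgroup.relIndex_top_right]
  have h4 := Subgroup.card_mul_index (M.subgroupOf N)
  rw [← h4]
  congr 1
  rw [← Subgroup.subgroupOf_map_subtype, Subgroup.card_map_of_injective (Subtype.val_injective)]

theorem normalizer_comap {M : Subgroup G} (P : Subgroup M) :
    (normalizer ((P.map M.subtype : Subgroup G) : Set G)).subgroupOf M = normalizer (P : Set M) := by
  ext x
  rw [Subgroup.mem_subgroupOf, Subgroup.mem_normalizer_iff, Subgroup.mem_normalizer_iff]
  constructor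
  · intro h y
    have h1 := h (y : G)
    constructor
    · intro hy
      obtain ⟨z, hz, hzy⟩ := h1.mp ⟨y, hy, rfl⟩
      have : z = x * y * x⁻¹ := Subtype.ext hzy
      rw [← this]; exact hz
    · intro hy
      obtain ⟨z, hz, hzy⟩ := h1.mpr ⟨_, hy, rfl⟩
      have : z = y := Subtype.ext hzy
      rw [← this]; exact hz
  · intro h y
    constructor
    · rintro ⟨z, hz, rfl⟩
      exact ⟨x * z * x⁻¹, (h z).mp hz, rfl⟩
    · rintro ⟨z, hz, hzy⟩
      have h2 : y = ((x⁻¹ * z * x : M) : G) := by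
        have h3 : (z : G) = x * y * (x : G)⁻¹ := hzy
        push_cast
        rw [h3]; group
      refine ⟨x⁻¹ * z * x, (h _).mpr ?_, h2.symm⟩
      have h3 : x * (x⁻¹ * z * x) * x⁻¹ = z := by group
      rw [h3]; exact hz

/-- Frattini: `|N_X(P)| = |N_M(P)| |X : M|` -/
theorem card_normalizer_eq' [Finite G] {M : Subgroup G} [hM : M.Normal] {p : ℕ} [Fact p.Prime]
    (P : Sylow p M) :
    Nat.card (normalizer (((P : Subgroup M).map M.subtype : Subgroup G) : Set G)) =
      Nat.card (normalizer ((P : Subgroup M) : Set M)) * M.index := by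
  rw [card_normalizer_eq P, ← normalizer_comap]
  congr 1
  rw [inf_comm, ← Subgroup.subgroupOf_map_subtype, Subgroup.card_map_of_injective (Subtype.val_injective)]

/-! ### coprime action in PP groups -/

theorem PP.fpf [Finite G] (h : PP G) {A K : Subgroup G} {q : ℕ} (hq : q.Prime) (hK : IsPGroup q K)
    (hA : ¬ q ∣ Nat.card A) : ∀ a ∈ A, a ≠ 1 → K ⊓ centralizer {a} = ⊥ := by
  intro a ha ha1
  rw [Subgroup.eq_bot_iff_forall]
  rintro k ⟨hk, hka⟩
  by_contra hk1
  have hc : a * k = k * a := (mem_centralizer_singleton_iff.mp hka).symm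
  have := Fact.mk hq
  have h1 : q ∣ orderOf k := by
    obtain ⟨n, hn⟩ := IsPGroup.iff_orderOf.mp hK ⟨k, hk⟩
    rw [Subgroup.orderOf_mk] at hn
    rw [hn]
    apply dvd_pow_self
    rintro rfl
    rw [pow_zero, orderOf_eq_one_iff] at hn
    exact hk1 hn
  obtain ⟨r, n, hr, hn, hrn⟩ := h a ha1
  have h2 : r ∣ orderOf a := by rw [← hrn]; exact dvd_pow_self r hn.ne'
  have h3 := h.same_prime hc hr.nat_prime hq h2 h1
  apply hA
  rw [← h3]
  have h4 : orderOf (⟨a, ha⟩ : A) ∣ Nat.card A := orderOf_dvd_natCard _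
  rw [Subgroup.orderOf_mk] at h4
  exact h2.trans h4

theorem PP.card_dvd [Finite G] (h : PP G) {A K : Subgroup G} {q : ℕ} (hq : q.Prime)
    (hK : IsPGroup q K) (hA : ¬ q ∣ Nat.card A) (hAK : A ≤ normalizer (K : Set G)) :
    Nat.card A ∣ Nat.card K - 1 :=
  H1.FrobSyl.card_dvd_sub_one A K hAK (h.fpf hq hK hA)

/-- the `r`-part of `|N(K)|` divides `|K| - 1` for a `q`-group `K`, `q ≠ r` -/
theorem PP.pow_dvd [Finite G] (h : PP G) {K : Subgroup G} {q r : ℕ} (hq : q.Prime)
    (hK : IsPGroup q K) (hr : r.Prime) (hqr : q ≠ r) {k : ℕ}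
    (hk : r ^ k ∣ Nat.card (normalizer (K : Set G))) : r ^ k ∣ Nat.card K - 1 := by
  have := Fact.mk hr
  obtain ⟨A, hA⟩ := Sylow.exists_subgroup_card_pow_prime r hk
  have h1 : Nat.card (A.map (normalizer (K : Set G)).subtype) = r ^ k := by
    rw [Subgroup.card_map_of_injective (Subtype.val_injective), hA]
  rw [← h1]
  refine h.card_dvd hq hK ?_ (Subgroup.map_subtype_le A)
  rw [h1]
  intro h2
  exact hqr ((Nat.prime_dvd_prime_iff_eq hq hr).mp (hq.dvd_of_dvd_pow h2))

/-- a noncyclic `r`-group, `r` odd, cannot act on a nontrivial `q`-group, `q ≠ r` -/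
theorem PP.isCyclic [Finite G] (h : PP G) {A K : Subgroup G} {q r : ℕ} (hq : q.Prime)
    (hK : IsPGroup q K) (hK1 : K ≠ ⊥) (hr : r.Prime) (hqr : q ≠ r) (hr2 : r ≠ 2)
    (hA : IsPGroup r A) (hAK : A ≤ normalizer (K : Set G)) : IsCyclic A := by
  have := Fact.mk hr
  rcases H1.FrobSyl.cyclic_or_quaternion A K hK1 hAK (h.fpf hq hK (by
    intro h2
    obtain ⟨n, hn⟩ := IsPGroup.iff_card.mp hA
    rw [hn] at h2
    exact hqr ((Nat.prime_dvd_prime_iff_eq hq hr).mp (hq.dvd_of_dvd_pow h2)))) r hA with h1 | h1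
  · exact h1
  · exact absurd h1.1 hr2

/-- a group of order `rs` acting on a nontrivial `q`-group is cyclic -/
theorem PP.not_mul [Finite G] (h : PP G) {A K : Subgroup G} {q r s : ℕ} (hq : q.Prime)
    (hK : IsPGroup q K) (hK1 : K ≠ ⊥) (hr : r.Prime) (hs : s.Prime) (hrs : r ≠ s) (hqr : q ≠ r) (hqs : q ≠ s)
    (hA : Nat.card A = r * s) (hAK : A ≤ normalizer (K : Set G)) : False := by
  have hqA : ¬ q ∣ Nat.card A := by
    rw [hA, hq.dvd_mul]
    rintro (h1 | h1)
    · exact hqr ((Nat.prime_dvd_prime_iff_eq hq hr).mp h1)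
    · exact hqs ((Nat.prime_dvd_prime_iff_eq hq hs).mp h1)
  have hsol : Group.IsSolvable A :=
    H4.Burnside.isSolvable_of_card_eq r s hr hs _ A rfl ⟨1, 1, by rw [hA, pow_one, pow_one]⟩
  have hcyc : IsCyclic A := H2.FrobComp.isCyclic_of_card_eq_mul A K hK1 hAK (h.fpf hq hK hqA) hsol
    hr hs hA
  obtain ⟨g, hg⟩ := hcyc.exists_generator
  have h1 : orderOf g = r * s := by rw [← hA]; exact orderOf_eq_card_of_forall_mem_zpowers hg
  have h2 := (h.subgroup A).same_prime (x := g) (y := g) rfl hr hs (by rw [h1]; exact dvd_mul_right _ _)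
    (by rw [h1]; exact dvd_mul_left _ _)
  exact hrs h2

/-- a nontrivial `q`-group, `q` odd, is not normalized by a four-group -/
theorem PP.no_four [Finite G] (h : PP G) {K : Subgroup G} {q : ℕ} (hq : q.Prime) (hq2 : q ≠ 2)
    (hK : IsPGroup q K) {v₁ v₂ : G} (h1 : orderOf v₁ = 2) (h2 : orderOf v₂ = 2) (hne : v₁ ≠ v₂)
    (hc : v₁ * v₂ = v₂ * v₁) (hn1 : v₁ ∈ normalizer (K : Set G)) (hn2 : v₂ ∈ normalizer (K : Set G)) :
    K = ⊥ := by
  have e1 : v₁ ^ 2 = 1 := by rw [← h1]; exact pow_orderOf_eq_one _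
  have e2 : v₂ ^ 2 = 1 := by rw [← h2]; exact pow_orderOf_eq_one _
  have key : ∀ v : G, orderOf v = 2 → ∀ y ∈ K, v * y = y * v → y = 1 := by
    intro v hv y hy hvy
    by_contra hy1
    have := Fact.mk hq
    obtain ⟨n, hn⟩ := IsPGroup.iff_orderOf.mp hK ⟨y, hy⟩
    rw [Subgroup.orderOf_mk] at hn
    have h3 : q ∣ orderOf y := by
      rw [hn]
      apply dvd_pow_self
      rintro rfl
      rw [pow_zero, orderOf_eq_one_iff] at hn
      exact hy1 hn
    exact hq2 (h.same_prime hvy Nat.prime_two hq (by rw [hv]) h3).symm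
  refine H59.Fus1.eq_bot_of_klein e1 e2 hn1 hn2 (key v₁ h1) (key v₂ h2) (key (v₁ * v₂) ?_)
  rw [orderOf_eq_prime_iff]
  constructor
  · rw [pow_two] at e1 e2 ⊢
    calc v₁ * v₂ * (v₁ * v₂) = v₁ * (v₂ * v₁) * v₂ := by group
      _ = v₁ * (v₁ * v₂) * v₂ := by rw [hc]
      _ = (v₁ * v₁) * (v₂ * v₂) := by group
      _ = 1 := by rw [e1, e2, mul_one]
  · intro h3
    apply hne
    have h4 : v₁ = v₂⁻¹ := eq_inv_of_mul_eq_one_left h3
    rw [h4]
    rw [pow_two] at e2
    exact inv_eq_of_mul_eq_one_left e2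

end

end H11.Eppo
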