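import Cfsg.Agent.Lib.H11.Eppo1
import Cfsg.Agent.Lib.H70.SolvRad
import Cfsg.Agent.S3992
import Cfsg.Agent.S1475

/-! Groups in which every element has prime power order: structure and rigidity of small simple
normal subgroups. -/

open Subgroup

namespace H11.Eppo

section
variable {G : Type*} [Group G] [Finite G]

theorem exists_struct (h : PP G) (h3 : 3 ≤ (Nat.card G).primeFactors.card) :
    ∃ (R : Subgroup G) (_ : R.Normal) (p : ℕ) (M : Subgroup (G ⧸ R)), p.Prime ∧ IsPGroup p R ∧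
      M.Normal ∧ IsSimpleGroup M ∧ ¬ IsMulCommutative M := by
  have hns : ¬ Group.IsSolvable G := by
    intro hs
    have := Cfsg.Agent.S1475.result (G := G) (fun g => by
      by_cases hg : g = 1
      · exact Or.inr hg
      · exact Or.inl (h g hg))
    omega
  have hRn : (H70.SolvRad.srad G).Normal := inferInstance
  obtain ⟨⟨p, hp, hRp⟩, ⟨M, hM, hMs, hMc, -⟩, -⟩ := Cfsg.Agent.S3992.result hns h
    (H70.SolvRad.srad G) H70.SolvRad.isSolvable_srad (fun N hN hNs => H70.SolvRad.le_srad hN hNs)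
  exact ⟨_, hRn, p, M, hp, hRp, hM, hMs, hMc⟩

end

section
variable {X : Type*} [Group X] [Finite X]

theorem sylow_data {M : Subgroup X} {q k m : ℕ} (hq : q.Prime) (hM : Nat.card M = q ^ k * m)
    (hm : ¬ q ∣ m) (P : Sylow q M) : Nat.card (P : Subgroup M) = q ^ k ∧
      Nat.card (Sylow q M) ≡ 1 [MOD q] ∧ Nat.card (Sylow q M) ∣ m ∧
      Nat.card (normalizer ((P : Subgroup M) : Set M)) * Nat.card (Sylow q M) = Nat.card M := by
  have := Fact.mk hq
  have hq1 := hq.one_lt
  have hm0 : m ≠ 0 := by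
    rintro rfl
    exact hm (dvd_zero _)
  have h1 : Nat.card (P : Subgroup M) = q ^ k := by
    rw [P.card_eq_multiplicity, hM, Nat.factorization_mul (pow_ne_zero _ hq.ne_zero) hm0,
      Finsupp.add_apply, hq.factorization_pow, Finsupp.single_eq_same,
      Nat.factorization_eq_zero_of_not_dvd hm, add_zero]
  refine ⟨h1, card_sylow_modEq_one q M, ?_, ?_⟩
  · have h2 := P.card_dvd_index
    have h3 := Subgroup.card_mul_index (P : Subgroup M)
    rw [h1, hM] at h3
    have h4 : (P : Subgroup M).index = m := Nat.eq_of_mul_eq_mul_left (pow_pos hq.pos k) h3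
    rwa [h4] at h2
  · rw [Sylow.card_eq_index_normalizer P]
    exact Subgroup.card_mul_index _

/-- the numerical consequences of the Frattini argument -/
theorem frattini_data (h : PP X) {M : Subgroup X} [hMn : M.Normal] {q k m : ℕ} (hq : q.Prime)
    (hM : Nat.card M = q ^ k * m) (hm : ¬ q ∣ m) (P : Sylow q M) {r j : ℕ} (hr : r.Prime)
    (hqr : q ≠ r) (hrj : r ^ j ∣ Nat.card (normalizer ((P : Subgroup M) : Set M)) * M.index) :
    r ^ j ∣ q ^ k - 1 := by
  have := Fact.mk hq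
  rw [← card_normalizer_eq' P] at hrj
  have h1 := h.pow_dvd hq (P.isPGroup'.map M.subtype) hr hqr hrj
  rwa [Subgroup.card_map_of_injective Subtype.val_injective, (sylow_data hq hM hm P).1] at h1

theorem not_normal_sylow {M : Type*} [Group M] [Finite M] [IsSimpleGroup M] {q k m : ℕ} (hq : q.Prime)
    (hM : Nat.card M = q ^ k * m) (hk : k ≠ 0) (hm : m ≠ 1) (hqm : ¬ q ∣ m) :
    Nat.card (Sylow q M) ≠ 1 := by
  have := Fact.mk hq
  intro h1
  have h2 := Nat.card_eq_one_iff_unique.mp h1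
  obtain ⟨hs, ⟨P⟩⟩ := h2
  have hn : (P : Subgroup M).Normal := Sylow.normal_of_subsingleton P
  have h3 : Nat.card (P : Subgroup M) = q ^ k := by
    have hm0 : m ≠ 0 := by rintro rfl; exact hqm (dvd_zero _)
    rw [P.card_eq_multiplicity, hM, Nat.factorization_mul (pow_ne_zero _ hq.ne_zero) hm0,
      Finsupp.add_apply, hq.factorization_pow, Finsupp.single_eq_same,
      Nat.factorization_eq_zero_of_not_dvd hqm, add_zero]
  rcases hn.eq_bot_or_eq_top with h4 | h4
  · rw [h4, Subgroup.card_bot] at h3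
    exact hk ((Nat.pow_eq_one.mp h3.symm).resolve_left hq.one_lt.ne')
  · rw [h4, Subgroup.card_top, hM] at h3
    exact hm (Nat.eq_of_mul_eq_mul_left (pow_pos hq.pos k) (by rw [h3, mul_one]))

theorem top_of_168 (h : PP X) {M : Subgroup X} [hMn : M.Normal] [IsSimpleGroup M]
    (hM : Nat.card M = 168) : M = ⊤ := by
  rw [← Subgroup.index_eq_one]
  by_contra hi
  have p2 : Nat.Prime 2 := Nat.prime_two
  have p3 : Nat.Prime 3 := Nat.prime_three
  have p7 : Nat.Prime 7 := by norm_num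
  have := Fact.mk p3
  have := Fact.mk p7
  obtain ⟨P⟩ : Nonempty (Sylow 7 M) := inferInstance
  obtain ⟨Q⟩ : Nonempty (Sylow 3 M) := inferInstance
  have hM7 : Nat.card M = 7 ^ 1 * 24 := hM
  have hM3 : Nat.card M = 3 ^ 1 * 56 := hM
  obtain ⟨-, a1, a2, a3⟩ := sylow_data p7 hM7 (by norm_num) P
  obtain ⟨-, b1, b2, b3⟩ := sylow_data p3 hM3 (by norm_num) Q
  have a4 := not_normal_sylow (M := M) p7 hM7 (by norm_num) (by norm_num) (by norm_num)
  have fP := fun (r j : ℕ) (hr : r.Prime) (hqr : 7 ≠ r) (hd : r ^ j ∣ _) =>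
    frattini_data (r := r) (j := j) h p7 hM7 (by norm_num) P hr hqr hd
  have fQ := fun (r j : ℕ) (hr : r.Prime) (hqr : 3 ≠ r) (hd : r ^ j ∣ _) =>
    frattini_data (r := r) (j := j) h p3 hM3 (by norm_num) Q hr hqr hd
  rw [hM] at a3 b3
  generalize Nat.card (Sylow 7 M) = n7 at a1 a2 a3 a4
  generalize Nat.card (Sylow 3 M) = n3 at b1 b2 b3
  generalize Nat.card (normalizer ((P : Subgroup M) : Set M)) = NP at a3 fP
  generalize Nat.card (normalizer ((Q : Subgroup M) : Set M)) = NQ at b3 fQ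
  have hn7 : n7 = 8 := by
    have h0 : n7 ≤ 24 := Nat.le_of_dvd (by norm_num) a2
    have h1 : ∀ n ∈ Finset.range 25, n ≡ 1 [MOD 7] → n ∣ 24 → n ≠ 1 → n = 8 := by decide
    exact h1 n7 (Finset.mem_range.mpr (by omega)) a1 a2 a4
  have hNP : NP = 21 := by rw [hn7] at a3; omega
  have hNQ : 2 ∣ NQ := by
    have h0 : n3 ≤ 56 := Nat.le_of_dvd (by norm_num) b2
    have h1 : ∀ n ∈ Finset.range 57, n ≡ 1 [MOD 3] → n ∣ 56 → n = 1 ∨ n = 4 ∨ n = 7 ∨ n = 28 := by
      decide
    rcases h1 n3 (Finset.mem_range.mpr (by omega)) b1 b2 with h1 | h1 | h1 | h1 <;> rw [h1] at b3 <;> omega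
  obtain ⟨r, hr, hri⟩ := Nat.exists_prime_and_dvd hi
  by_cases hr7 : r = 7
  · subst hr7
    have := fQ 7 1 p7 (by norm_num) (by rw [pow_one]; exact hri.mul_left _)
    norm_num at this
  · have h1 := fP r 1 hr (Ne.symm hr7) (by rw [pow_one]; exact hri.mul_left _)
    have h2 : r ∣ 2 * 3 := by simpa using h1
    rcases (hr.dvd_mul).mp h2 with h3 | h3
    · have h4 := (Nat.prime_dvd_prime_iff_eq hr p2).mp h3
      subst h4
      have := fQ 2 2 p2 (by norm_num) (by rw [pow_two]; exact mul_dvd_mul hNQ hri)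
      norm_num at this
    · have h4 := (Nat.prime_dvd_prime_iff_eq hr p3).mp h3
      subst h4
      have := fP 3 2 p3 (by norm_num) (by rw [pow_two]; exact mul_dvd_mul ⟨7, by omega⟩ hri)
      norm_num at this

theorem top_of_60 (h : PP X) {M : Subgroup X} [hMn : M.Normal] [IsSimpleGroup M]
    (hM : Nat.card M = 60) : M = ⊤ := by
  rw [← Subgroup.index_eq_one]
  by_contra hi
  have p2 : Nat.Prime 2 := Nat.prime_two
  have p3 : Nat.Prime 3 := Nat.prime_three
  have p5 : Nat.Prime 5 := by norm_num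
  have := Fact.mk p3
  have := Fact.mk p5
  obtain ⟨P⟩ : Nonempty (Sylow 5 M) := inferInstance
  obtain ⟨Q⟩ : Nonempty (Sylow 3 M) := inferInstance
  have hM5 : Nat.card M = 5 ^ 1 * 12 := hM
  have hM3 : Nat.card M = 3 ^ 1 * 20 := hM
  obtain ⟨-, b1, b2, b3⟩ := sylow_data p3 hM3 (by norm_num) Q
  have fP := fun (r j : ℕ) (hr : r.Prime) (hqr : 5 ≠ r) (hd : r ^ j ∣ _) =>
    frattini_data (r := r) (j := j) h p5 hM5 (by norm_num) P hr hqr hd
  have fQ := fun (r j : ℕ) (hr : r.Prime) (hqr : 3 ≠ r) (hd : r ^ j ∣ _) =>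
    frattini_data (r := r) (j := j) h p3 hM3 (by norm_num) Q hr hqr hd
  rw [hM] at b3
  generalize Nat.card (Sylow 3 M) = n3 at b1 b2 b3
  generalize Nat.card (normalizer ((Q : Subgroup M) : Set M)) = NQ at b3 fQ
  have hNQ : 2 ∣ NQ := by
    have h0 : n3 ≤ 20 := Nat.le_of_dvd (by norm_num) b2
    have h1 : ∀ n ∈ Finset.range 21, n ≡ 1 [MOD 3] → n ∣ 20 → n = 1 ∨ n = 4 ∨ n = 10 := by
      decide
    rcases h1 n3 (Finset.mem_range.mpr (by omega)) b1 b2 with h1 | h1 | h1
    · rw [h1] at b3; omega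
    · rw [h1] at b3
      have h5 : NQ = 15 := by omega
      have := fQ 5 1 p5 (by norm_num) (by rw [pow_one, h5]; exact ⟨3 * M.index, by ring⟩)
      norm_num at this
    · rw [h1] at b3; omega
  obtain ⟨r, hr, hri⟩ := Nat.exists_prime_and_dvd hi
  by_cases hr5 : r = 5
  · subst hr5
    have := fQ 5 1 p5 (by norm_num) (by rw [pow_one]; exact hri.mul_left _)
    norm_num at this
  · have h1 := fP r 1 hr (Ne.symm hr5) (by rw [pow_one]; exact hri.mul_left _)
    have h2 : r ∣ 2 ^ 2 := by simpa using h1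
    have h4 := (Nat.prime_dvd_prime_iff_eq hr p2).mp (hr.dvd_of_dvd_pow h2)
    subst h4
    have := fQ 2 2 p2 (by norm_num) (by rw [pow_two]; exact mul_dvd_mul hNQ hri)
    norm_num at this

theorem index_of_360 (h : PP X) {M : Subgroup X} [hMn : M.Normal] [IsSimpleGroup M]
    (hM : Nat.card M = 360) : M.index ∣ 2 := by
  have p2 : Nat.Prime 2 := Nat.prime_two
  have p3 : Nat.Prime 3 := Nat.prime_three
  have p5 : Nat.Prime 5 := by norm_num
  have := Fact.mk p3
  have := Fact.mk p5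
  obtain ⟨P⟩ : Nonempty (Sylow 5 M) := inferInstance
  obtain ⟨Q⟩ : Nonempty (Sylow 3 M) := inferInstance
  have hM5 : Nat.card M = 5 ^ 1 * 72 := hM
  have hM3 : Nat.card M = 3 ^ 2 * 40 := hM
  obtain ⟨-, b1, b2, b3⟩ := sylow_data p5 hM5 (by norm_num) P
  have fP := fun (r j : ℕ) (hr : r.Prime) (hqr : 5 ≠ r) (hd : r ^ j ∣ _) =>
    frattini_data (r := r) (j := j) h p5 hM5 (by norm_num) P hr hqr hd
  have fQ := fun (r j : ℕ) (hr : r.Prime) (hqr : 3 ≠ r) (hd : r ^ j ∣ _) =>
    frattini_data (r := r) (j := j) h p3 hM3 (by norm_num) Q hr hqr hd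
  rw [hM] at b3
  generalize Nat.card (Sylow 5 M) = n5 at b1 b2 b3
  generalize Nat.card (normalizer ((P : Subgroup M) : Set M)) = NP at b3 fP
  have hNP : 2 ∣ NP := by
    have h0 : n5 ≤ 72 := Nat.le_of_dvd (by norm_num) b2
    have h1 : ∀ n ∈ Finset.range 73, n ≡ 1 [MOD 5] → n ∣ 72 → n = 1 ∨ n = 6 ∨ n = 36 := by
      decide
    rcases h1 n5 (Finset.mem_range.mpr (by omega)) b1 b2 with h1 | h1 | h1 <;> rw [h1] at b3 <;> omega
  have hpow : ∀ r : ℕ, r.Prime → r ∣ M.index → r = 2 := by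
    intro r hr hri
    by_cases hr5 : r = 5
    · subst hr5
      have := fQ 5 1 p5 (by norm_num) (by rw [pow_one]; exact hri.mul_left _)
      norm_num at this
    · have h1 := fP r 1 hr (Ne.symm hr5) (by rw [pow_one]; exact hri.mul_left _)
      have h2 : r ∣ 2 ^ 2 := by simpa using h1
      exact (Nat.prime_dvd_prime_iff_eq hr p2).mp (hr.dvd_of_dvd_pow h2)
  have hi0 : M.index ≠ 0 := Subgroup.index_ne_zero_of_finite
  obtain ⟨k, hk⟩ : ∃ k, M.index = 2 ^ k := by
    refine ⟨M.index.primeFactorsList.length, ?_⟩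
    exact Nat.eq_prime_pow_of_unique_prime_dvd hi0 (fun {r} hr hri => hpow r hr hri)
  rw [hk]
  have h4 : ¬ 2 ≤ k := by
    intro h2
    have h5 : 2 ^ 3 ∣ NP * M.index := by
      rw [pow_succ' 2 2]
      refine mul_dvd_mul hNP ?_
      rw [hk]
      exact pow_dvd_pow 2 h2
    have := fP 2 3 p2 (by norm_num) h5
    norm_num at this
  have h5 : k ≤ 1 := by omega
  exact (pow_dvd_pow 2 h5).trans (by norm_num)

end

end H11.Eppo
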