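import Cfsg.Agent.Lib.H11.Eppo2
import Cfsg.Agent.Lib.H17.FourGrp
import Cfsg.Agent.S3224

/-! A normal subgroup `A₆` of a group whose element orders are at most five is the whole group. -/

open Subgroup

namespace H11.Eppo

open Equiv in
set_option maxRecDepth 100000 in
theorem alt6_cent : ∀ σ : Perm (Fin 6), σ * (swap 0 1 * swap 2 3) = (swap 0 1 * swap 2 3) * σ →
    σ * (swap 0 2 * swap 1 3) = (swap 0 2 * swap 1 3) * σ → Perm.sign σ = 1 →
    σ = 1 ∨ σ = swap 0 1 * swap 2 3 ∨ σ = swap 0 2 * swap 1 3 ∨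
      σ = (swap 0 1 * swap 2 3) * (swap 0 2 * swap 1 3) := by
  decide +kernel

open Equiv in
theorem alt6_facts : (swap 1 2 * swap 2 3 : Perm (Fin 6)) * (swap 0 1 * swap 2 3) *
      (swap 1 2 * swap 2 3 : Perm (Fin 6))⁻¹ = swap 0 2 * swap 1 3 ∧
    (swap 1 2 * swap 2 3 : Perm (Fin 6)) * (swap 0 2 * swap 1 3) *
      (swap 1 2 * swap 2 3 : Perm (Fin 6))⁻¹ = (swap 0 1 * swap 2 3) * (swap 0 2 * swap 1 3) ∧
    (swap 1 2 * swap 2 3 : Perm (Fin 6)) ^ 3 = 1 ∧ (swap 1 2 * swap 2 3 : Perm (Fin 6)) ≠ 1 ∧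
    Perm.sign (swap 1 2 * swap 2 3 : Perm (Fin 6)) = 1 ∧
    Perm.sign (swap 0 1 * swap 2 3 : Perm (Fin 6)) = 1 ∧
    Perm.sign (swap 0 2 * swap 1 3 : Perm (Fin 6)) = 1 ∧
    (swap 0 1 * swap 2 3 : Perm (Fin 6)) * (swap 0 1 * swap 2 3) = 1 ∧
    (swap 0 2 * swap 1 3 : Perm (Fin 6)) * (swap 0 2 * swap 1 3) = 1 ∧
    (swap 0 1 * swap 2 3 : Perm (Fin 6)) * (swap 0 2 * swap 1 3) =
      (swap 0 2 * swap 1 3) * (swap 0 1 * swap 2 3) ∧
    (swap 0 1 * swap 2 3 : Perm (Fin 6)) ≠ 1 ∧ (swap 0 2 * swap 1 3 : Perm (Fin 6)) ≠ 1 ∧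
    (swap 0 1 * swap 2 3 : Perm (Fin 6)) ≠ (swap 0 2 * swap 1 3) := by
  decide +kernel

/-- a four-group with a 3-element permuting it, self-centralizing in `M` -/
structure VW {M : Type*} [Group M] (a b w : M) : Prop where
  pair : H17.FourGrp.IsPair a b
  wa : w * a * w⁻¹ = b
  wb : w * b * w⁻¹ = a * b
  w3 : orderOf w = 3
  cent : ∀ c : M, c * a = a * c → c * b = b * c → c = 1 ∨ c = a ∨ c = b ∨ c = a * b

theorem exists_VW_alt : ∃ a b w : alternatingGroup (Fin 6), VW a b w := by
  obtain ⟨f1, f2, f3, f4, f5, f6, f7, f8, f9, f10, f11, f12, f13⟩ := alt6_facts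
  refine ⟨⟨_, f6⟩, ⟨_, f7⟩, ⟨_, f5⟩, ?_⟩
  constructor
  · exact ⟨fun h => f11 (congrArg Subtype.val h), fun h => f12 (congrArg Subtype.val h),
      fun h => f13 (congrArg Subtype.val h), Subtype.ext f8, Subtype.ext f9, Subtype.ext f10⟩
  · exact Subtype.ext f1
  · exact Subtype.ext f2
  · have := Fact.mk Nat.prime_three
    rw [← Subgroup.orderOf_coe]
    exact orderOf_eq_prime f3 f4
  · rintro ⟨c, hc⟩ h1 h2
    have h1' := congrArg Subtype.val h1
    have h2' := congrArg Subtype.val h2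
    rcases alt6_cent c h1' h2' hc with h | h | h | h
    · exact Or.inl (Subtype.ext h)
    · exact Or.inr (Or.inl (Subtype.ext h))
    · exact Or.inr (Or.inr (Or.inl (Subtype.ext h)))
    · exact Or.inr (Or.inr (Or.inr (Subtype.ext h)))

theorem exists_VW {M : Type*} [Group M] (e : M ≃* alternatingGroup (Fin 6)) :
    ∃ a b w : M, VW a b w := by
  obtain ⟨a, b, w, h⟩ := exists_VW_alt
  have hi : ∀ x y, e.symm x = e.symm y ↔ x = y := fun x y => e.symm.injective.eq_iff
  have hone : e.symm 1 = 1 := map_one _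
  refine ⟨e.symm a, e.symm b, e.symm w, ?_, ?_, ?_, ?_, ?_⟩
  · refine ⟨?_, ?_, ?_, ?_, ?_, ?_⟩
    · rw [← hone, Ne, hi]; exact h.pair.ha
    · rw [← hone, Ne, hi]; exact h.pair.hb
    · rw [Ne, hi]; exact h.pair.hab
    · rw [← map_mul, h.pair.haa, map_one]
    · rw [← map_mul, h.pair.hbb, map_one]
    · rw [← map_mul, ← map_mul, h.pair.hcomm]
  · rw [← map_mul, ← map_inv, ← map_mul, h.wa]
  · rw [← map_mul, ← map_inv, ← map_mul, ← map_mul, h.wb]
  · rw [MulEquiv.orderOf_eq, h.w3]
  · intro c h1 h2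
    obtain ⟨c', rfl⟩ := e.symm.surjective c
    rw [← map_mul, ← map_mul, hi] at h1 h2
    rw [← hone, ← map_mul, hi, hi, hi, hi]
    exact h.cent c' h1 h2

section
variable {X : Type*} [Group X] [Finite X]

/-- in `X` the four-group is self-centralizing -/
theorem VW.lift (h : PP X) {M : Subgroup X} [hMn : M.Normal] {a b w : M}
    (hv : VW a b w) {x : X} (hxa : x * a = a * x) (hxb : x * b = b * x) :
    x = 1 ∨ x = a ∨ x = b ∨ x = a * b := by
  by_cases hxM : x ∈ M
  · have := hv.cent ⟨x, hxM⟩ (Subtype.ext hxa) (Subtype.ext hxb)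
    rcases this with h1 | h1 | h1 | h1
    · exact Or.inl (congrArg Subtype.val h1)
    · exact Or.inr (Or.inl (congrArg Subtype.val h1))
    · exact Or.inr (Or.inr (Or.inl (congrArg Subtype.val h1)))
    · exact Or.inr (Or.inr (Or.inr (congrArg Subtype.val h1)))
  exfalso
  -- an element of `C(V)` outside `M` commuting with `w` is impossible
  have key : ∀ y : X, y ∉ M → y * a = a * y → (w : X) * y = y * w → False := by
    intro y hy hya hwy
    have hy1 : y ≠ 1 := by rintro rfl; exact hy M.one_mem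
    have ha2 : orderOf (a : X) = 2 := by
      rw [Subgroup.orderOf_coe]
      have := Fact.mk Nat.prime_two
      exact orderOf_eq_prime (by rw [pow_two]; exact hv.pair.haa) hv.pair.ha
    have hw3 : orderOf (w : X) = 3 := by rw [Subgroup.orderOf_coe]; exact hv.w3
    obtain ⟨r, n, hr, hn, hrn⟩ := h y hy1
    have h2 : r ∣ orderOf y := by rw [← hrn]; exact dvd_pow_self r hn.ne'
    have h3 := h.same_prime hya hr.nat_prime Nat.prime_two h2 (by rw [ha2])
    have h4 := h.same_prime hwy Nat.prime_three hr.nat_prime (by rw [hw3]) h2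
    omega
  have hwM := w.2
  -- `w x w⁻¹ = x v` with `v ∈ V`
  have hwa : (w : X) * a * (w : X)⁻¹ = b := congrArg Subtype.val hv.wa
  have hwb : (w : X) * b * (w : X)⁻¹ = a * b := congrArg Subtype.val hv.wb
  have haa : (a : X) * a = 1 := congrArg Subtype.val hv.pair.haa
  have hbb : (b : X) * b = 1 := congrArg Subtype.val hv.pair.hbb
  have hab : (a : X) * b = b * a := congrArg Subtype.val hv.pair.hcomm
  have hwi : ∀ y : X, (w : X) * y * (w : X)⁻¹ = y → (w : X) * y = y * w := by
    intro y hy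
    nth_rewrite 2 [← hy]
    group
  -- the conjugate
  set x' : X := (w : X) * x * (w : X)⁻¹ with hx'
  have hx'b : x' * b = b * x' := by
    rw [hx', ← hwa]
    calc (w : X) * x * (w : X)⁻¹ * (w * a * (w : X)⁻¹) = w * (x * a) * (w : X)⁻¹ := by group
      _ = w * (a * x) * (w : X)⁻¹ := by rw [hxa]
      _ = _ := by group
  have hx'ab : x' * (a * b) = (a * b) * x' := by
    rw [hx', ← hwb]
    calc (w : X) * x * (w : X)⁻¹ * (w * b * (w : X)⁻¹) = w * (x * b) * (w : X)⁻¹ := by group
      _ = w * (b * x) * (w : X)⁻¹ := by rw [hxb]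
      _ = _ := by group
  have hx'a : x' * a = a * x' := by
    have h1 : (a : X) = (a * b) * b := by rw [mul_assoc, hbb, mul_one]
    calc x' * a = x' * ((a * b) * b) := by rw [← h1]
      _ = (x' * (a * b)) * b := by group
      _ = (a * b) * (x' * b) := by rw [hx'ab]; group
      _ = (a * b) * b * x' := by rw [hx'b]; group
      _ = a * x' := by rw [← h1]
  have hvM : x⁻¹ * x' ∈ M := by
    have h1 : x⁻¹ * x' = (x⁻¹ * w * x) * (w : X)⁻¹ := by rw [hx']; group
    rw [h1]
    refine M.mul_mem ?_ (M.inv_mem hwM)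
    have := hMn.conj_mem w hwM x⁻¹
    rwa [inv_inv] at this
  have hca : (x⁻¹ * x') * a = a * (x⁻¹ * x') :=
    ((show Commute x (a : X) from hxa).inv_left.mul_left (show Commute x' (a : X) from hx'a)).eq
  have hcb : (x⁻¹ * x') * b = b * (x⁻¹ * x') :=
    ((show Commute x (b : X) from hxb).inv_left.mul_left (show Commute x' (b : X) from hx'b)).eq
  have hmul : ∀ u : X, u ∈ M → x * u ∉ M := by
    intro u hu h1
    exact hxM ((M.mul_mem_cancel_right hu).mp h1)
  have hcomm : ∀ u : X, u * a = a * u → x * u * a = a * (x * u) := by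
    intro u hu
    rw [mul_assoc, hu, ← mul_assoc, hxa, mul_assoc]
  have hconj : ∀ u v : X, (w : X) * u * (w : X)⁻¹ = v → x' * v = x * u → (w : X) * (x * u) = (x * u) * w := by
    intro u v huv h1
    apply hwi
    calc (w : X) * (x * u) * (w : X)⁻¹ = x' * (w * u * (w : X)⁻¹) := by rw [hx']; group
      _ = x * u := by rw [huv, h1]
  have hcases := hv.cent ⟨x⁻¹ * x', hvM⟩ (Subtype.ext hca) (Subtype.ext hcb)
  rcases hcases with h1 | h1 | h1 | h1
  · have h2 : x⁻¹ * x' = 1 := congrArg Subtype.val h1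
    have h3 : x' = x := (inv_mul_eq_one.mp h2).symm
    exact key x hxM hxa (hwi x h3)
  · have h2 : x⁻¹ * x' = a := congrArg Subtype.val h1
    have h3 : x' = x * a := by rw [← h2]; group
    -- `u = b`
    refine key (x * b) (hmul b b.2) (hcomm b hab.symm) (hconj b (a * b) hwb ?_)
    rw [h3, mul_assoc, ← mul_assoc (a : X), haa, one_mul]
  · have h2 : x⁻¹ * x' = b := congrArg Subtype.val h1
    have h3 : x' = x * b := by rw [← h2]; group
    -- `u = a b`
    refine key (x * (a * b)) (hmul _ (M.mul_mem a.2 b.2)) (hcomm _ (by rw [mul_assoc, ← hab, ← mul_assoc])) (hconj (a * b) a ?_ ?_)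
    · calc (w : X) * (a * b) * (w : X)⁻¹ = (w * a * (w : X)⁻¹) * (w * b * (w : X)⁻¹) := by group
        _ = b * (a * b) := by rw [hwa, hwb]
        _ = a := by rw [hab, ← mul_assoc, hbb, one_mul]
    · rw [h3, mul_assoc, ← hab]
  · have h2 : x⁻¹ * x' = a * b := congrArg Subtype.val h1
    have h3 : x' = x * (a * b) := by rw [← h2]; group
    -- `u = a`
    refine key (x * a) (hmul a a.2) (hcomm a rfl) (hconj a b hwa ?_)
    rw [h3, mul_assoc, mul_assoc, hbb, mul_one]

theorem top_of_alt6 (h5 : ∀ g : X, orderOf g ≤ 5) {M : Subgroup X} [hMn : M.Normal]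
    (e : M ≃* alternatingGroup (Fin 6)) : M = ⊤ := by
  have h := PP.of_le_five h5
  have hs : IsSimpleGroup (alternatingGroup (Fin 6)) := alternatingGroup.isSimpleGroup (by simp)
  have hMnt : Nontrivial M := e.toEquiv.nontrivial
  have hMs : IsSimpleGroup M := IsSimpleGroup.isSimpleGroup_of_surjective
    (e.symm : alternatingGroup (Fin 6) →* M) e.symm.surjective
  have hM : Nat.card M = 360 := by
    rw [Nat.card_congr e.toEquiv, nat_card_alternatingGroup]
    simp [Nat.factorial]
  have hid := index_of_360 h hM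
  rcases (Nat.dvd_prime Nat.prime_two).mp hid with hi | hi
  · exact Subgroup.index_eq_one.mp hi
  exfalso
  have := Fact.mk Nat.prime_two
  obtain ⟨a, b, w, hv⟩ := exists_VW e
  have hX : Nat.card X = 720 := by
    rw [← Subgroup.card_mul_index M, hM, hi]
  have haa : (a : X) * a = 1 := congrArg Subtype.val hv.pair.haa
  have hbb : (b : X) * b = 1 := congrArg Subtype.val hv.pair.hbb
  have hab : (a : X) * b = b * a := congrArg Subtype.val hv.pair.hcomm
  have hP : H17.FourGrp.IsPair (a : X) b := ⟨fun h1 => hv.pair.ha (Subtype.ext h1),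
    fun h1 => hv.pair.hb (Subtype.ext h1), fun h1 => hv.pair.hab (Subtype.ext h1), haa, hbb, hab⟩
  set V := H17.FourGrp.four (a : X) b hP with hVdef
  have hV4 : Nat.card V = 4 := H17.FourGrp.card_four hP
  have hVP : IsPGroup 2 V := IsPGroup.of_card (n := 2) (by rw [hV4]; norm_num)
  obtain ⟨S, hVS⟩ := hVP.exists_le_sylow
  have hS : Nat.card (S : Subgroup X) = 16 := by
    rw [S.card_eq_multiplicity, hX]
    have : (720 : ℕ) = 2 ^ 4 * 45 := by norm_num
    rw [this, Nat.factorization_mul (by norm_num) (by norm_num), Finsupp.add_apply,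
      Nat.prime_two.factorization_pow, Finsupp.single_eq_same,
      Nat.factorization_eq_zero_of_not_dvd (by norm_num : ¬ 2 ∣ 45)]
    norm_num
  have ha : (a : X) ∈ V := Or.inr (Or.inl rfl)
  have hb : (b : X) ∈ V := Or.inr (Or.inr (Or.inl rfl))
  have hmem : ∀ x : X, x * a = a * x → x * b = b * x → x ∈ V := fun x h1 h2 => hv.lift h h1 h2
  -- central element
  have hcen : Nontrivial (center (S : Subgroup X)) := by
    have : Nontrivial (S : Subgroup X) := by
      rw [← Finite.one_lt_card_iff_nontrivial, hS]; norm_num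
    exact S.isPGroup'.center_nontrivial
  obtain ⟨⟨z, hz⟩, hz1⟩ := exists_ne (1 : center (S : Subgroup X))
  have hz1' : (z : X) ≠ 1 := fun h1 => hz1 (Subtype.ext (Subtype.ext h1))
  have hzc : ∀ s ∈ S, s * (z : X) = z * s := by
    intro s hs
    exact congrArg Subtype.val (Subgroup.mem_center_iff.mp hz ⟨s, hs⟩)
  have hzV : (z : X) ∈ V := hmem z (hzc a (hVS ha)).symm (hzc b (hVS hb)).symm
  -- a noncentral involution of `V`
  obtain ⟨v, hvV, hv1, hvz⟩ : ∃ v ∈ V, v ≠ 1 ∧ v ≠ (z : X) := by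
    by_cases h1 : (a : X) = z
    · exact ⟨b, hb, hP.hb, fun h2 => hP.hab (h1.trans h2.symm)⟩
    · exact ⟨a, ha, hP.ha, h1⟩
  have hsq : ∀ x ∈ V, x * x = 1 := by
    rintro x (rfl | rfl | rfl | rfl)
    · exact mul_one 1
    · exact haa
    · exact hbb
    · exact hP.abab
  have hVg : ∀ x ∈ V, x = 1 ∨ x = v ∨ x = z ∨ x = v * z := by
    have hP2 : H17.FourGrp.IsPair v (z : X) := ⟨hv1, hz1', hvz, hsq v hvV, hsq z hzV,
      hzc v (hVS hvV)⟩
    have h1 : H17.FourGrp.four v (z : X) hP2 ≤ V := by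
      rintro x (rfl | rfl | rfl | rfl)
      · exact V.one_mem
      · exact hvV
      · exact hzV
      · exact V.mul_mem hvV hzV
    have h2 : H17.FourGrp.four v (z : X) hP2 = V := by
      apply Subgroup.eq_of_le_of_card_ge h1
      rw [hV4, H17.FourGrp.card_four hP2]
    intro x hx
    rw [← h2] at hx
    exact hx
  have hcentS : ∀ s ∈ S, s * v = v * s → s ∈ V := by
    intro s hs hsv
    have hsz := hzc s hs
    have hall : ∀ x ∈ V, s * x = x * s := by
      intro x hx
      rcases hVg x hx with rfl | rfl | rfl | rfl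
      · rw [mul_one, one_mul]
      · exact hsv
      · exact hsz
      · rw [← mul_assoc, hsv, mul_assoc, hsz, mul_assoc]
    exact hmem s (hall a ha) (hall b hb)
  have hv2 : orderOf v = 2 := orderOf_eq_prime (by rw [pow_two]; exact hsq v hvV) hv1
  let vS : (S : Subgroup X) := ⟨v, hVS hvV⟩
  have hvS2 : orderOf vS = 2 := by rw [Subgroup.orderOf_mk, hv2]
  have hC : Nat.card (centralizer ({vS} : Set (S : Subgroup X))) = 4 := by
    rw [← Subgroup.card_map_of_injective (f := (S : Subgroup X).subtype) Subtype.val_injective, ← hV4]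
    congr 1
    have : (centralizer ({vS} : Set (S : Subgroup X))).map (S : Subgroup X).subtype = V := by
      ext x
      constructor
      · rintro ⟨⟨y, hy⟩, hy2, rfl⟩
        exact hcentS y hy (congrArg Subtype.val (mem_centralizer_singleton_iff.mp hy2))
      · intro hx
        refine ⟨⟨x, hVS hx⟩, mem_centralizer_singleton_iff.mpr (Subtype.ext ?_), rfl⟩
        change x * v = v * x
        rcases hVg x hx with rfl | rfl | rfl | rfl
        · rw [mul_one, one_mul]
        · rfl
        · exact (hzc v (hVS hvV)).symm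
        · rw [mul_assoc, ← hzc v (hVS hvV)]
    rw [this]
  rcases Cfsg.Agent.S3224.result S.isPGroup' vS hvS2 hC with ⟨n, ⟨f⟩⟩ | ⟨n, hn, hc, x, y, hx, -, -⟩ | h4
  · have hn : n = 8 := by
      have h1 := Nat.card_congr f.toEquiv
      rw [hS, DihedralGroup.nat_card] at h1
      omega
    subst hn
    have h1 : orderOf (f.symm (DihedralGroup.r 1)) = 8 := by
      rw [MulEquiv.orderOf_eq, DihedralGroup.orderOf_r_one]
    have h2 := h5 ((f.symm (DihedralGroup.r 1) : (S : Subgroup X)) : X)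
    rw [Subgroup.orderOf_coe, h1] at h2
    omega
  · have h1 : n = 3 := by
      rw [hS] at hc
      have : (2 : ℕ) ^ 4 = 2 ^ (n + 1) := by rw [← hc]; norm_num
      have := Nat.pow_right_injective le_rfl this
      omega
    subst h1
    have h2 := h5 (x : X)
    rw [Subgroup.orderOf_coe, hx] at h2
    omega
  · rw [hS] at h4
    omega

end

end H11.Eppo
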