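import Cfsg.Agent.Lib.H11.Eppo1
import Cfsg.Agent.Lib.H46.PSL2Orders
import Cfsg.Agent.Lib.H6.SmallIsoA
import Cfsg.Agent.Lib.H6.SmallIsoB
import Cfsg.Prelude

/-! The CIT list restricted to groups with few element orders. -/

open Subgroup

namespace H11.Eppo

/-- the conclusion of the CIT theorem (S0348) -/
def CITList (G : Type*) [Group G] : Prop :=
    (∃ (F : Type) (_ : Field F) (_ : Fintype F),
        (Fintype.card F = 9 ∨ (∃ n : ℕ, Fintype.card F = 2 ^ n) ∨
          ((Fintype.card F).Prime ∧ ∃ k : ℕ, Fintype.card F = 2 ^ k + 1 ∨ Fintype.card F + 1 = 2 ^ k)) ∧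
        Nonempty (G ≃* Matrix.ProjectiveSpecialLinearGroup (Fin 2) F)) ∨
    (∃ (F : Type) (_ : Field F) (_ : Fintype F), Fintype.card F = 4 ∧
        Nonempty (G ≃* Matrix.ProjectiveSpecialLinearGroup (Fin 3) F)) ∨
    Cfsg.IsSuzuki G

section
variable {M : Type*} [Group M]

theorem psl_orders {F : Type*} [Field F] [Fintype F] (p : ℕ) [Fact p.Prime] [CharP F p]
    (e : M ≃* Matrix.ProjectiveSpecialLinearGroup (Fin 2) F) {m : ℕ}
    (hm : m ∣ p ∨ m ∣ (Fintype.card F - 1) / Nat.gcd 2 (Fintype.card F - 1) ∨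
      m ∣ (Fintype.card F + 1) / Nat.gcd 2 (Fintype.card F - 1)) : ∃ g : M, orderOf g = m := by
  have h := H46.PSL2Orders.spectrum (F := F) p
  rw [Nat.card_eq_fintype_card] at h
  have h1 : m ∈ Set.range (orderOf : Matrix.ProjectiveSpecialLinearGroup (Fin 2) F → ℕ) := by
    rw [h]; exact hm
  obtain ⟨g, hg⟩ := h1
  exact ⟨e.symm g, by rw [MulEquiv.orderOf_eq, hg]⟩

theorem psl_orders_even {F : Type*} [Field F] [Fintype F] {n : ℕ} (hF : Fintype.card F = 2 ^ n)
    (e : M ≃* Matrix.ProjectiveSpecialLinearGroup (Fin 2) F) {m : ℕ}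
    (hm : m ∣ 2 ∨ m ∣ 2 ^ n - 1 ∨ m ∣ 2 ^ n + 1) : ∃ g : M, orderOf g = m := by
  have hn : n ≠ 0 := by
    rintro rfl
    have := Fintype.one_lt_card (α := F)
    omega
  have := Fact.mk Nat.prime_two
  have hc : CharP F 2 := by
    obtain ⟨p, hp⟩ := CharP.exists F
    have := Fact.mk (CharP.char_is_prime F p)
    obtain ⟨k, hk⟩ := FiniteField.card F p
    have h1 : p ∣ 2 ^ n := by
      rw [← hF, hk.2]; exact dvd_pow_self p k.ne_zero
    have h2 := (Nat.prime_dvd_prime_iff_eq hk.1 Nat.prime_two).mp (hk.1.dvd_of_dvd_pow h1)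
    rwa [h2] at hp
  have hg : Nat.gcd 2 (Fintype.card F - 1) = 1 := by
    rw [hF]
    have h1 : Odd (2 ^ n - 1) := Nat.Even.sub_odd Nat.one_le_two_pow
      (Nat.even_pow.mpr ⟨even_two, hn⟩) odd_one
    exact (Nat.coprime_two_left.mpr h1)
  refine psl_orders 2 e ?_
  rw [hg, Nat.div_one, Nat.div_one, hF]
  exact hm

theorem psl_orders_prime {F : Type*} [Field F] [Fintype F] {p : ℕ} (hp : p.Prime) (hF : Fintype.card F = p)
    (hp2 : p ≠ 2) (e : M ≃* Matrix.ProjectiveSpecialLinearGroup (Fin 2) F) {m : ℕ}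
    (hm : m ∣ p ∨ m ∣ (p - 1) / 2 ∨ m ∣ (p + 1) / 2) : ∃ g : M, orderOf g = m := by
  have := Fact.mk hp
  have hc : CharP F p := by
    obtain ⟨r, hr⟩ := CharP.exists F
    have := Fact.mk (CharP.char_is_prime F r)
    obtain ⟨k, hk⟩ := FiniteField.card F r
    have h1 : r ∣ p := by
      rw [← hF, hk.2]; exact dvd_pow_self r k.ne_zero
    have h2 := (Nat.prime_dvd_prime_iff_eq hk.1 hp).mp h1
    rwa [h2] at hr
  have hg : Nat.gcd 2 (Fintype.card F - 1) = 2 := by
    rw [hF]
    have h1 := hp.eq_two_or_odd'.resolve_left hp2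
    have h2 : 2 ∣ p - 1 := by obtain ⟨a, ha⟩ := h1; exact ⟨a, by omega⟩
    exact Nat.gcd_eq_left h2
  refine psl_orders p e ?_
  rw [hg, hF]
  exact hm

theorem card_psl_two {F : Type*} [Field F] [Fintype F] (hF : Fintype.card F = 2)
    (e : M ≃* Matrix.ProjectiveSpecialLinearGroup (Fin 2) F) : Nat.card M = 6 := by
  have h := H6.SmallIsoA.card_psl2 (F := F)
  rw [hF] at h
  rw [Nat.card_congr e.toEquiv]
  norm_num at h
  omega

theorem card_psl_three {F : Type*} [Field F] [Fintype F] (hF : Fintype.card F = 3)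
    (e : M ≃* Matrix.ProjectiveSpecialLinearGroup (Fin 2) F) : Nat.card M = 12 := by
  have h := H6.SmallIsoA.card_psl2 (F := F)
  rw [hF] at h
  rw [Nat.card_congr e.toEquiv]
  norm_num at h
  omega

theorem card_psl_seven {F : Type*} [Field F] [Fintype F] (hF : Fintype.card F = 7)
    (e : M ≃* Matrix.ProjectiveSpecialLinearGroup (Fin 2) F) : Nat.card M = 168 := by
  have h := H6.SmallIsoA.card_psl2 (F := F)
  rw [hF] at h
  rw [Nat.card_congr e.toEquiv]
  norm_num at h
  omega

theorem card_psl3_four {F : Type*} [Field F] [Fintype F] (hF : Fintype.card F = 4)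
    (e : M ≃* Matrix.ProjectiveSpecialLinearGroup (Fin 3) F) : Nat.card M = 20160 := by
  have h := H6.SLCard.card_psl (F := F) (n := 3) (by norm_num)
  rw [Fin.prod_univ_three, hF] at h
  rw [Nat.card_congr e.toEquiv]
  norm_num at h
  omega

variable [Finite M]

theorem false_of_solvable_card [IsSimpleGroup M] (hna : ∃ a b : M, a * b ≠ b * a) {p q a b : ℕ}
    (hp : p.Prime) (hq : q.Prime) (h : Nat.card M = p ^ a * q ^ b) : False := by
  have hs : Group.IsSolvable M := H4.Burnside.isSolvable_of_card_eq p q hp hq _ M rfl ⟨a, b, h⟩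
  obtain ⟨x, y, hxy⟩ := hna
  exact hxy (IsSimpleGroup.comm_iff_isSolvable.mpr hs x y)

theorem exists_order_prime {r : ℕ} (hr : r.Prime) (h : r ∣ Nat.card M) : ∃ g : M, orderOf g = r := by
  have := Fact.mk hr
  exact exists_prime_orderOf_dvd_card' r h

theorem odd_ne_two_pow {m : ℕ} (hm : Odd m) (h1 : m ≠ 1) : ¬ ∃ k, m = 2 ^ k := by
  rintro ⟨k, hk⟩
  rcases Nat.eq_zero_or_pos k with h0 | h0
  · rw [h0, pow_zero] at hk; exact h1 hk
  · rw [hk] at hm
    exact (Nat.not_odd_iff_even.mpr (Nat.even_pow.mpr ⟨even_two, h0.ne'⟩)) hm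

/-- only `PSL₂(7)` -/
theorem list_seven [IsSimpleGroup M] (hna : ∃ a b : M, a * b ≠ b * a) (hl : CITList M)
    (hord : ∀ g : M, g ≠ 1 → (∃ k : ℕ, orderOf g = 2 ^ k) ∨ ((orderOf g).Prime ∧ orderOf g ≠ 5)) :
    ∃ (F : Type) (_ : Field F) (_ : Fintype F), Fintype.card F = 7 ∧
      Nonempty (M ≃* Matrix.ProjectiveSpecialLinearGroup (Fin 2) F) := by
  -- odd orders are primes other than `5`
  have hodd : ∀ m : ℕ, Odd m → m ≠ 1 → (∃ g : M, orderOf g = m) → m.Prime ∧ m ≠ 5 := by
    rintro m hm h1 ⟨g, hg⟩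
    have hg1 : g ≠ 1 := by rintro rfl; rw [orderOf_one] at hg; exact h1 hg.symm
    have := hord g hg1
    rw [hg] at this
    exact this.resolve_left (odd_ne_two_pow hm h1)
  have h3 : ∀ m : ℕ, Odd m → m ≠ 1 → 3 ∣ m → (∃ g : M, orderOf g = m) → m = 3 := by
    intro m hm h1 h3 hg
    exact ((Nat.prime_dvd_prime_iff_eq Nat.prime_three (hodd m hm h1 hg).1).mp h3).symm
  have h5 : ¬ 5 ∣ Nat.card M := by
    intro h
    exact (hodd 5 (by decide) (by norm_num) (exists_order_prime Nat.prime_five h)).2 rfl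
  rcases hl with ⟨F, _, _, hF, ⟨e⟩⟩ | ⟨F, _, _, hF, ⟨e⟩⟩ | ⟨-, m, hm, hcard⟩
  · rcases hF with hF | ⟨n, hF⟩ | ⟨hp, k, hF | hF⟩
    · exfalso
      apply h5
      obtain ⟨e2⟩ := H6.SmallIsoB.psl2_nine hF
      rw [Nat.card_congr (e.trans e2).toEquiv, nat_card_alternatingGroup]
      simp [Nat.factorial]
    · exfalso
      have hn : n ≠ 0 := by
        rintro rfl
        have := Fintype.one_lt_card (α := F)
        omega
      have hn1 : n ≠ 1 := by
        rintro rfl
        have h6 := card_psl_two hF e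
        exact false_of_solvable_card hna Nat.prime_two Nat.prime_three (a := 1) (b := 1) (by rw [h6]; norm_num)
      have h4 : 4 ≤ 2 ^ n := by
        calc 4 = 2 ^ 2 := by norm_num
          _ ≤ 2 ^ n := Nat.pow_le_pow_right (by norm_num) (by omega)
      have hev : Even (2 ^ n) := Nat.even_pow.mpr ⟨even_two, hn⟩
      have g1 := psl_orders_even hF e (m := 2 ^ n - 1) (Or.inr (Or.inl dvd_rfl))
      have g2 := psl_orders_even hF e (m := 2 ^ n + 1) (Or.inr (Or.inr dvd_rfl))
      have o1 : Odd (2 ^ n - 1) := Nat.Even.sub_odd Nat.one_le_two_pow hev odd_one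
      have o2 : Odd (2 ^ n + 1) := hev.add_one
      have d3 : ¬ 3 ∣ 2 ^ n := by
        intro h
        have := Nat.prime_three.dvd_of_dvd_pow h
        omega
      have : 3 ∣ 2 ^ n - 1 ∨ 3 ∣ 2 ^ n + 1 := by omega
      rcases this with h | h
      · have := h3 _ o1 (by omega) h g1
        exact (hodd _ o2 (by omega) g2).2 (by omega)
      · have := h3 _ o2 (by omega) h g2
        omega
    · -- `q = 2^k + 1`
      exfalso
      by_cases hq2 : Fintype.card F = 2
      · have h6 := card_psl_two hq2 e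
        exact false_of_solvable_card hna Nat.prime_two Nat.prime_three (a := 1) (b := 1) (by rw [h6]; norm_num)
      by_cases hq3 : Fintype.card F = 3
      · have h6 := card_psl_three hq3 e
        exact false_of_solvable_card hna Nat.prime_two Nat.prime_three (a := 2) (b := 1) (by rw [h6]; norm_num)
      have g0 := psl_orders_prime hp rfl hq2 e (m := Fintype.card F) (Or.inl dvd_rfl)
      have h7 := hodd _ (hp.odd_of_ne_two hq2) hp.one_lt.ne' g0
      have hk : 3 ≤ k := by
        by_contra h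
        have : k = 0 ∨ k = 1 ∨ k = 2 := by omega
        rcases this with rfl | rfl | rfl
        · norm_num at hF; exact hq2 hF
        · norm_num at hF; exact hq3 hF
        · norm_num at hF; exact h7.2 hF
      obtain ⟨j, rfl⟩ : ∃ j, k = j + 3 := ⟨k - 3, by omega⟩
      have d3 : ¬ 3 ∣ 2 ^ (j + 3) := by
        intro h
        have := Nat.prime_three.dvd_of_dvd_pow h
        omega
      have d3' : ¬ 3 ∣ Fintype.card F := by
        intro h
        exact hq3 ((Nat.prime_dvd_prime_iff_eq Nat.prime_three hp).mp h).symm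
      have g2 := psl_orders_prime hp rfl hq2 e (m := (Fintype.card F + 1) / 2) (Or.inr (Or.inr dvd_rfl))
      have hpow : 2 ^ (j + 3) = 8 * 2 ^ j := by ring
      have hj : 1 ≤ 2 ^ j := Nat.one_le_two_pow
      have o2 : Odd ((Fintype.card F + 1) / 2) := by
        rw [Nat.odd_iff]; omega
      have h33 : 3 ∣ (Fintype.card F + 1) / 2 := by
        rcases (by omega : 2 ^ j % 3 = 0 ∨ 2 ^ j % 3 = 1 ∨ 2 ^ j % 3 = 2) with h | h | h <;> omega
      have := h3 _ o2 (by omega) h33 g2
      omega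
    · -- `q + 1 = 2^k`
      by_cases hq2 : Fintype.card F = 2
      · have h6 := card_psl_two hq2 e
        exact (false_of_solvable_card hna Nat.prime_two Nat.prime_three (a := 1) (b := 1) (by rw [h6]; norm_num)).elim
      by_cases hq3 : Fintype.card F = 3
      · have h6 := card_psl_three hq3 e
        exact (false_of_solvable_card hna Nat.prime_two Nat.prime_three (a := 2) (b := 1) (by rw [h6]; norm_num)).elim
      refine ⟨F, inferInstance, inferInstance, ?_, ⟨e⟩⟩
      have hp4 := hp.two_le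
      have hk : 3 ≤ k := by
        by_contra h
        have : k = 0 ∨ k = 1 ∨ k = 2 := by omega
        rcases this with rfl | rfl | rfl <;> norm_num at hF <;> omega
      obtain ⟨j, rfl⟩ : ∃ j, k = j + 3 := ⟨k - 3, by omega⟩
      have d3 : ¬ 3 ∣ 2 ^ (j + 3) := by
        intro h
        have := Nat.prime_three.dvd_of_dvd_pow h
        omega
      have d3' : ¬ 3 ∣ Fintype.card F := by
        intro h
        exact hq3 ((Nat.prime_dvd_prime_iff_eq Nat.prime_three hp).mp h).symm
      have g2 := psl_orders_prime hp rfl hq2 e (m := (Fintype.card F - 1) / 2) (Or.inr (Or.inl dvd_rfl))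
      have hpow : 2 ^ (j + 3) = 8 * 2 ^ j := by ring
      have hj : 1 ≤ 2 ^ j := Nat.one_le_two_pow
      have o2 : Odd ((Fintype.card F - 1) / 2) := by
        rw [Nat.odd_iff]; omega
      have h33 : 3 ∣ (Fintype.card F - 1) / 2 := by
        rcases (by omega : 2 ^ j % 3 = 0 ∨ 2 ^ j % 3 = 1 ∨ 2 ^ j % 3 = 2) with h | h | h <;> omega
      have := h3 _ o2 (by omega) h33 g2
      omega
  · exfalso
    apply h5
    rw [card_psl3_four hF e]
    norm_num
  · exfalso
    apply h5
    rw [hcard]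
    apply Dvd.dvd.mul_right
    apply Dvd.dvd.mul_left
    have h1 : (2 ^ (2 * m + 1)) ^ 2 = 4 * 16 ^ m := by
      rw [← pow_mul, show (2 * m + 1) * 2 = 2 + 4 * m by ring, pow_add, pow_mul]; norm_num
    rw [h1]
    have h2 : 16 ^ m ≡ 1 ^ m [MOD 5] := Nat.ModEq.pow m (by decide)
    rw [one_pow] at h2
    have h3 : (4 * 16 ^ m + 1) ≡ 4 * 1 + 1 [MOD 5] := (h2.mul_left 4).add_right 1
    exact (Nat.modEq_zero_iff_dvd.mp (h3.trans (by decide)))

/-- only `A₅` and `A₆` -/
theorem list_five [IsSimpleGroup M] (hna : ∃ a b : M, a * b ≠ b * a) (hl : CITList M)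
    (hord : ∀ g : M, orderOf g ≤ 5) :
    Nonempty (M ≃* alternatingGroup (Fin 5)) ∨ Nonempty (M ≃* alternatingGroup (Fin 6)) := by
  rcases hl with ⟨F, _, _, hF, ⟨e⟩⟩ | ⟨F, _, _, hF, ⟨e⟩⟩ | ⟨-, m, hm, hcard⟩
  · have hq2 : Fintype.card F ≠ 2 := by
      intro hq2
      have h6 := card_psl_two hq2 e
      exact false_of_solvable_card hna Nat.prime_two Nat.prime_three (a := 1) (b := 1) (by rw [h6]; norm_num)
    have hq3 : Fintype.card F ≠ 3 := by
      intro hq3
      have h6 := card_psl_three hq3 e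
      exact false_of_solvable_card hna Nat.prime_two Nat.prime_three (a := 2) (b := 1) (by rw [h6]; norm_num)
    have hF' : Fintype.card F = 9 ∨ (∃ n : ℕ, Fintype.card F = 2 ^ n) ∨ (Fintype.card F).Prime := by
      rcases hF with h | h | ⟨h, -⟩
      · exact Or.inl h
      · exact Or.inr (Or.inl h)
      · exact Or.inr (Or.inr h)
    rcases hF' with hF | ⟨n, hF⟩ | hp
    · right
      obtain ⟨e2⟩ := H6.SmallIsoB.psl2_nine hF
      exact ⟨e.trans e2⟩
    · left
      obtain ⟨g, hg⟩ := psl_orders_even hF e (m := 2 ^ n + 1) (Or.inr (Or.inr dvd_rfl))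
      have h1 := hord g
      rw [hg] at h1
      have hn2 : n ≤ 2 := by
        by_contra h
        have : 2 ^ 3 ≤ 2 ^ n := Nat.pow_le_pow_right (by norm_num) (by omega)
        omega
      have h4 : Fintype.card F = 4 := by
        have := Fintype.one_lt_card (α := F)
        have : n = 0 ∨ n = 1 ∨ n = 2 := by omega
        rcases this with rfl | rfl | rfl
        · omega
        · omega
        · rw [hF]; norm_num
      obtain ⟨e2⟩ := H6.SmallIsoA.psl2_four h4
      exact ⟨e.trans e2⟩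
    · left
      obtain ⟨g, hg⟩ := psl_orders_prime hp rfl hq2 e (m := Fintype.card F) (Or.inl dvd_rfl)
      have h1 := hord g
      rw [hg] at h1
      have h2 := hp.two_le
      have h4 : Fintype.card F = 5 := by
        have h5 : Fintype.card F ≠ 4 := by
          intro h
          rw [h] at hp
          exact absurd hp (by norm_num)
        omega
      obtain ⟨e2⟩ := H6.SmallIsoA.psl2_five h4
      exact ⟨e.trans e2⟩
  · exfalso
    obtain ⟨g, hg⟩ := exists_order_prime (M := M) (r := 7) (by norm_num)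
      (by rw [card_psl3_four hF e]; norm_num)
    have := hord g
    omega
  · exfalso
    set q := 2 ^ (2 * m + 1) with hq
    have hq8 : 8 ≤ q := by
      rw [hq]
      calc 8 = 2 ^ 3 := by norm_num
        _ ≤ 2 ^ (2 * m + 1) := Nat.pow_le_pow_right (by norm_num) (by omega)
    obtain ⟨r, hr, hrq⟩ := Nat.exists_prime_and_dvd (n := q - 1) (by omega)
    obtain ⟨g, hg⟩ := exists_order_prime (M := M) hr (by rw [hcard]; exact hrq.mul_left _)
    have h5 := hord g
    rw [hg] at h5
    have hq' : q = 2 * 4 ^ m := by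
      rw [hq, pow_add, pow_mul]; norm_num [mul_comm]
    have m3 : 2 * 4 ^ m ≡ 2 [MOD 3] := by
      have h2 : 4 ^ m ≡ 1 ^ m [MOD 3] := Nat.ModEq.pow m (by decide)
      rw [one_pow] at h2
      exact h2.mul_left 2
    have m5 : 2 * 4 ^ m ≡ 2 [MOD 5] ∨ 2 * 4 ^ m ≡ 3 [MOD 5] := by
      rcases Nat.even_or_odd' m with ⟨j, rfl | rfl⟩
      · left
        rw [pow_mul]
        have h2 : (4 ^ 2) ^ j ≡ 1 ^ j [MOD 5] := Nat.ModEq.pow j (by decide)
        rw [one_pow] at h2
        exact h2.mul_left 2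
      · right
        rw [pow_succ, pow_mul]
        have h2 : (4 ^ 2) ^ j ≡ 1 ^ j [MOD 5] := Nat.ModEq.pow j (by decide)
        rw [one_pow] at h2
        exact (h2.mul_right 4).mul_left 2
    rw [← hq'] at m3 m5
    have hr2 := hr.two_le
    have hr4 : r ≠ 4 := by rintro rfl; exact absurd hr (by norm_num)
    have : r = 2 ∨ r = 3 ∨ r = 5 := by omega
    rcases this with rfl | rfl | rfl
    · omega
    · unfold Nat.ModEq at m3; omega
    · unfold Nat.ModEq at m5; omega

end

end H11.Eppo
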