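import Cfsg.Agent.Lib.H11.Eppo3
import Cfsg.Agent.Lib.H11.Eppo4
import Cfsg.Agent.Lib.H1.Cores
import Cfsg.Agent.Lib.H58.PSL2V4
import Cfsg.Agent.Lib.H21.PSLTransport

/-! Lifting subgroups modulo a normal subgroup of coprime order, and the `PSL₂(7)` theorem. -/

open Subgroup

universe u

namespace H11.Eppo

section
variable {G : Type u} [Group G] [Finite G]

theorem exists_lift {R : Subgroup G} [hR : R.Normal] (B : Subgroup (G ⧸ R))
    (hcop : (Nat.card R).Coprime (Nat.card B)) :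
    ∃ B' : Subgroup G, B'.map (QuotientGroup.mk' R) = B ∧ B' ⊓ R = ⊥ ∧ Nat.card B' = Nat.card B := by
  set K := B.comap (QuotientGroup.mk' R) with hK
  have hRK : R ≤ K := by
    intro x hx
    rw [hK, Subgroup.mem_comap]
    have : QuotientGroup.mk' R x = 1 := by
      rw [QuotientGroup.mk'_apply, QuotientGroup.eq_one_iff]; exact hx
    rw [this]; exact B.one_mem
  have hKc : Nat.card K = Nat.card R * Nat.card B := H1.Cores.card_comap_mk' R B
  let N := R.subgroupOf K
  have hNc : Nat.card N = Nat.card R := Nat.card_congr (Subgroup.subgroupOfEquivOfLe hRK).toEquiv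
  have hNi : N.index = Nat.card B := by
    have h1 := Subgroup.card_mul_index N
    rw [hNc, hKc] at h1
    exact Nat.eq_of_mul_eq_mul_left Nat.card_pos h1
  obtain ⟨H, hH⟩ := Subgroup.exists_right_complement'_of_coprime (N := N) (by rw [hNc, hNi]; exact hcop)
  have hcard : Nat.card (H.map K.subtype) = Nat.card B := by
    rw [Subgroup.card_map_of_injective Subtype.val_injective]
    have h1 := hH.card_mul_card
    rw [hNc, hKc] at h1
    exact Nat.eq_of_mul_eq_mul_left Nat.card_pos h1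
  have hinf : H.map K.subtype ⊓ R = ⊥ := by
    rw [Subgroup.eq_bot_iff_forall]
    rintro x ⟨⟨y, hy, rfl⟩, hx⟩
    have h1 : y ∈ N ⊓ H := ⟨hx, hy⟩
    rw [hH.disjoint.eq_bot, Subgroup.mem_bot] at h1
    rw [h1]; rfl
  refine ⟨H.map K.subtype, ?_, hinf, hcard⟩
  apply Subgroup.eq_of_le_of_card_ge
  · rw [Subgroup.map_map]
    rintro _ ⟨y, hy, rfl⟩
    exact y.2
  · rw [← hcard]
    apply le_of_eq
    have hinj : Function.Injective ((QuotientGroup.mk' R).comp (H.map K.subtype).subtype) := by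
      rw [injective_iff_map_eq_one]
      rintro ⟨x, hx⟩ h1
      have h2 : x ∈ R := (QuotientGroup.eq_one_iff x).mp h1
      have h3 : x ∈ H.map K.subtype ⊓ R := ⟨hx, h2⟩
      rw [hinf, Subgroup.mem_bot] at h3
      exact Subtype.ext h3
    have h1 := Nat.card_congr (MonoidHom.ofInjective hinj).toEquiv
    rw [h1]
    congr 1
    have h2 : ((QuotientGroup.mk' R).comp (H.map K.subtype).subtype).range =
        (H.map K.subtype).map (QuotientGroup.mk' R) := by
      rw [MonoidHom.range_comp, Subgroup.range_subtype]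
    rw [h2]

/-- commuting involutions modulo a normal subgroup of odd order lift to commuting involutions -/
theorem exists_lift_four {R : Subgroup G} [hR : R.Normal] (hodd : Odd (Nat.card R))
    {v w : G ⧸ R} (hv : v * v = 1) (hw : w * w = 1) (hv1 : v ≠ 1) (hw1 : w ≠ 1) (hvw : v ≠ w)
    (hc : v * w = w * v) : ∃ a b : G, orderOf a = 2 ∧ orderOf b = 2 ∧ a ≠ b ∧ a * b = b * a := by
  have := Fact.mk Nat.prime_two
  have hP : H17.FourGrp.IsPair v w := ⟨hv1, hw1, hvw, hv, hw, hc⟩
  have h4 := H17.FourGrp.card_four hP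
  obtain ⟨B', hB', hB'R, hcard⟩ := exists_lift (R := R) (H17.FourGrp.four v w hP) (by
    rw [h4]
    exact (Nat.coprime_two_right.mpr hodd).pow_right 2)
  have hvm : v ∈ B'.map (QuotientGroup.mk' R) := by rw [hB']; exact Or.inr (Or.inl rfl)
  have hwm : w ∈ B'.map (QuotientGroup.mk' R) := by rw [hB']; exact Or.inr (Or.inr (Or.inl rfl))
  obtain ⟨a, ha, hav⟩ := hvm
  obtain ⟨b, hb, hbw⟩ := hwm
  have hone : ∀ x ∈ B', QuotientGroup.mk' R x = 1 → x = 1 := by
    intro x hx h1
    have h2 : x ∈ R := (QuotientGroup.eq_one_iff x).mp h1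
    have h3 : x ∈ B' ⊓ R := ⟨hx, h2⟩
    rwa [hB'R, Subgroup.mem_bot] at h3
  have haa : a * a = 1 := hone _ (B'.mul_mem ha ha) (by rw [map_mul, hav, hv])
  have hbb : b * b = 1 := hone _ (B'.mul_mem hb hb) (by rw [map_mul, hbw, hw])
  have ha1 : a ≠ 1 := by rintro rfl; rw [map_one] at hav; exact hv1 hav.symm
  have hb1 : b ≠ 1 := by rintro rfl; rw [map_one] at hbw; exact hw1 hbw.symm
  refine ⟨a, b, orderOf_eq_prime (by rw [pow_two]; exact haa) ha1,
    orderOf_eq_prime (by rw [pow_two]; exact hbb) hb1, ?_, ?_⟩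
  · rintro rfl
    exact hvw (hav.symm.trans hbw)
  · have h1 : (b * a)⁻¹ * (a * b) = 1 := by
      apply hone _ (B'.mul_mem (B'.inv_mem (B'.mul_mem hb ha)) (B'.mul_mem ha hb))
      rw [map_mul, map_inv, map_mul, map_mul, hav, hbw, hc, inv_mul_cancel]
    exact (inv_mul_eq_one.mp h1).symm

/-- the radical has no odd part when there is a four-group above -/
theorem PP.eq_bot_of_odd (h : PP G) {R : Subgroup G} [hR : R.Normal] {p : ℕ} (hp : p.Prime)
    (hRp : IsPGroup p R) (hp2 : p ≠ 2)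
    (hV : ∃ v w : G ⧸ R, v * v = 1 ∧ w * w = 1 ∧ v ≠ 1 ∧ w ≠ 1 ∧ v ≠ w ∧ v * w = w * v) :
    R = ⊥ := by
  obtain ⟨v, w, hv, hw, hv1, hw1, hvw, hc⟩ := hV
  have := Fact.mk hp
  have hodd : Odd (Nat.card R) := by
    obtain ⟨n, hn⟩ := IsPGroup.iff_card.mp hRp
    rw [hn]
    exact (hp.odd_of_ne_two hp2).pow
  obtain ⟨a, b, ha, hb, hab, hcc⟩ := exists_lift_four hodd hv hw hv1 hw1 hvw hc
  exact h.no_four hp hp2 hRp ha hb hab hcc (by rw [Subgroup.normalizer_eq_top]; trivial)
    (by rw [Subgroup.normalizer_eq_top]; trivial)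

/-- universe-uniform hypothesis: the CIT theorem -/
def CITHyp : Prop := ∀ (M : Type u) [Group M] [Finite M] [IsSimpleGroup M],
  (∃ a b : M, a * b ≠ b * a) →
  (∀ t : M, orderOf t = 2 → IsPGroup 2 (centralizer ({t} : Set M))) → CITList M

theorem main_seven (hCIT : CITHyp.{u}) {F : Type*} [Field F] [Fintype F] (hF : Fintype.card F = 7)
    (h3 : 3 ≤ (Nat.card G).primeFactors.card)
    (hord : ∀ g : G, g ≠ 1 → (∃ k : ℕ, orderOf g = 2 ^ k) ∨ ((orderOf g).Prime ∧ orderOf g ≠ 5)) :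
    Nonempty (G ≃* Matrix.ProjectiveSpecialLinearGroup (Fin 2) F) := by
  have h : PP G := by
    intro g hg
    rcases hord g hg with ⟨k, hk⟩ | ⟨hp, -⟩
    · rw [hk]
      refine Nat.prime_two.isPrimePow.pow ?_
      rintro rfl
      rw [pow_zero, orderOf_eq_one_iff] at hk
      exact hg hk
    · exact hp.isPrimePow
  obtain ⟨R, hR, p, M, hp, hRp, hM, hMs, hMc⟩ := exists_struct h h3
  have hX : PP (G ⧸ R) := h.quotient R
  have hna : ∃ a b : M, a * b ≠ b * a := by
    by_contra hcon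
    push Not at hcon
    exact hMc ⟨⟨hcon⟩⟩
  -- orders in the section
  have hordX : ∀ g : G ⧸ R, g ≠ 1 → (∃ k : ℕ, orderOf g = 2 ^ k) ∨ ((orderOf g).Prime ∧ orderOf g ≠ 5) := by
    intro g hg
    obtain ⟨x, rfl⟩ := QuotientGroup.mk'_surjective R g
    have hx : x ≠ 1 := by rintro rfl; exact hg (map_one _)
    have hd : orderOf (QuotientGroup.mk' R x) ∣ orderOf x := orderOf_map_dvd _ x
    rcases hord x hx with ⟨k, hk⟩ | ⟨hp, hp5⟩
    · left
      rw [hk] at hd
      obtain ⟨j, -, hj⟩ := (Nat.dvd_prime_pow Nat.prime_two).mp hd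
      exact ⟨j, hj⟩
    · right
      rcases (Nat.dvd_prime hp).mp hd with h1 | h1
      · exact absurd (orderOf_eq_one_iff.mp h1) hg
      · rw [h1]; exact ⟨hp, hp5⟩
  have hordM : ∀ g : M, g ≠ 1 → (∃ k : ℕ, orderOf g = 2 ^ k) ∨ ((orderOf g).Prime ∧ orderOf g ≠ 5) := by
    intro g hg
    rw [← Subgroup.orderOf_coe]
    exact hordX g (fun h1 => hg (Subtype.ext h1))
  obtain ⟨K, _, _, hK, ⟨e⟩⟩ := list_seven hna (hCIT M hna (hX.subgroup M).cit) hordM
  have hMcard := card_psl_seven hK e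
  have hMtop := top_of_168 hX hMcard
  subst hMtop
  let e2 : (G ⧸ R) ≃* Matrix.ProjectiveSpecialLinearGroup (Fin 2) K := Subgroup.topEquiv.symm.trans e
  have hXcard : Nat.card (G ⧸ R) = 168 := by rw [← hMcard]; exact (Nat.card_congr Subgroup.topEquiv.toEquiv).symm
  -- `R = 1`
  have hRbot : R = ⊥ := by
    by_cases hp2 : p = 2
    · subst hp2
      by_contra hRne
      have p3 : Nat.Prime 3 := Nat.prime_three
      have p7 : Nat.Prime 7 := by norm_num
      have := Fact.mk p7
      -- a subgroup of order 21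
      obtain ⟨P⟩ : Nonempty (Sylow 7 (⊤ : Subgroup (G ⧸ R))) := inferInstance
      have hM7 : Nat.card (⊤ : Subgroup (G ⧸ R)) = 7 ^ 1 * 24 := by rw [hMcard]; norm_num
      obtain ⟨-, a1, a2, a3⟩ := sylow_data p7 hM7 (by norm_num) P
      have a4 := not_normal_sylow (M := (⊤ : Subgroup (G ⧸ R))) p7 hM7 (by norm_num) (by norm_num) (by norm_num)
      have hn7 : Nat.card (Sylow 7 (⊤ : Subgroup (G ⧸ R))) = 8 := by
        generalize Nat.card (Sylow 7 (⊤ : Subgroup (G ⧸ R))) = n7 at a1 a2 a3 a4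
        have h0 : n7 ≤ 24 := Nat.le_of_dvd (by norm_num) a2
        have h1 : ∀ n ∈ Finset.range 25, n ≡ 1 [MOD 7] → n ∣ 24 → n ≠ 1 → n = 8 := by decide
        exact h1 n7 (Finset.mem_range.mpr (by omega)) a1 a2 a4
      rw [hn7, hMcard] at a3
      have hB : Nat.card ((normalizer ((P : Subgroup (⊤ : Subgroup (G ⧸ R))) : Set (⊤ : Subgroup (G ⧸ R)))).map
          (⊤ : Subgroup (G ⧸ R)).subtype) = 21 := by
        rw [Subgroup.card_map_of_injective Subtype.val_injective]
        omega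
      obtain ⟨B', -, -, hB'⟩ := exists_lift (R := R) _ (by
        rw [hB]
        obtain ⟨n, hn⟩ := IsPGroup.iff_card.mp hRp
        rw [hn]
        exact Nat.Coprime.pow_left n (by norm_num))
      rw [hB] at hB'
      refine h.not_mul (A := B') (K := R) (r := 3) (s := 7) hp hRp hRne p3 p7 (by norm_num)
        (by norm_num) (by norm_num) (by rw [hB']) ?_
      rw [Subgroup.normalizer_eq_top]
      exact le_top
    · apply h.eq_bot_of_odd hp hRp hp2
      have h2 : (2 : K) ≠ 0 := by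
        intro h2
        have h7 : ((Fintype.card K : ℕ) : K) = 0 := FiniteField.cast_card_eq_zero K
        rw [hK] at h7
        have h8 : (7 : K) = 2 + 2 + 2 + 1 := by norm_num
        push_cast at h7
        rw [h8, h2] at h7
        norm_num at h7
      obtain ⟨a, w, ha, hw, ha1, hw1, haw, hc, -⟩ := H58.PSL2V4.exists_v4 (F := K) h2
      have hone : e2.symm 1 = 1 := map_one _
      refine ⟨e2.symm a, e2.symm w, ?_, ?_, ?_, ?_, ?_, ?_⟩
      · rw [← map_mul, ha, map_one]
      · rw [← map_mul, hw, map_one]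
      · rw [← hone, Ne, e2.symm.injective.eq_iff]; exact ha1
      · rw [← hone, Ne, e2.symm.injective.eq_iff]; exact hw1
      · rw [Ne, e2.symm.injective.eq_iff]; exact haw
      · rw [← map_mul, ← map_mul, hc]
  subst hRbot
  obtain ⟨e3⟩ := H21.PSLTransport.psl_congr_card (K := K) (L := F) (by rw [hK, hF]) (Fin 2)
  exact ⟨(QuotientGroup.quotientBot.symm.trans e2).trans e3⟩

end

end H11.Eppo
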