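import Cfsg.Agent.Lib.H11.Eppo5
import Cfsg.Agent.Lib.H11.Eppo6

/-! Groups whose element orders are at most five. -/

open Subgroup

universe u

namespace H11.Eppo

open Equiv in
theorem alt5_facts :
    let A : Perm (Fin 5) := swap 0 1 * swap 2 3
    let W : Perm (Fin 5) := swap 1 2 * swap 2 3
    Perm.sign A = 1 ∧ Perm.sign W = 1 ∧ A ≠ 1 ∧ A * A = 1 ∧ W ≠ 1 ∧ W ^ 3 = 1 ∧ W⁻¹ * A ≠ 1 ∧
    (W⁻¹ * A) ^ 3 = 1 ∧ W * A ≠ 1 ∧ (W * A) ^ 3 = 1 ∧ (W⁻¹ * A * W)⁻¹ * (W * A * W⁻¹) * A = 1 ∧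
    A * W ≠ 1 ∧ (A * W) ^ 3 = 1 ∧ W⁻¹ * A * W * W ≠ 1 ∧ (W⁻¹ * A * W * W) ^ 3 = 1 ∧
    (A * (W * A * W⁻¹))⁻¹ * (W⁻¹ * A * W) = 1 := by
  decide +kernel

section
variable {G : Type u} [Group G] [Finite G]

theorem elemAb_of_A5 (h : PP G) {R : Subgroup G} [hRn : R.Normal] (hR : IsPGroup 2 R)
    (e : G ⧸ R ≃* alternatingGroup (Fin 5)) : Cfsg.IsElementaryAbelian 2 R := by
  obtain ⟨f1, f2, f3, f4, f5, f6, f7, f8, f9, f10, f11, f12, f13, f14, f15, f16⟩ := alt5_facts
  have hs : IsSimpleGroup (alternatingGroup (Fin 5)) := alternatingGroup.isSimpleGroup (by simp)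
  have hnt : Nontrivial (G ⧸ R) := e.toEquiv.nontrivial
  have hsim : IsSimpleGroup (G ⧸ R) := IsSimpleGroup.isSimpleGroup_of_surjective
    (e.symm : alternatingGroup (Fin 5) →* G ⧸ R) e.symm.surjective
  let φ : G →* Equiv.Perm (Fin 5) := ((alternatingGroup (Fin 5)).subtype.comp (e : G ⧸ R →* alternatingGroup (Fin 5))).comp
    (QuotientGroup.mk' R)
  have hmem : ∀ x : G, x ∈ R ↔ φ x = 1 := by
    intro x
    constructor
    · intro hx
      have h1 : QuotientGroup.mk' R x = 1 := (QuotientGroup.eq_one_iff x).mpr hx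
      change ((e (QuotientGroup.mk' R x) : alternatingGroup (Fin 5)) : Equiv.Perm (Fin 5)) = 1
      rw [h1, map_one]; rfl
    · intro hx
      have h1 : e (QuotientGroup.mk' R x) = 1 := Subtype.ext hx
      rw [map_eq_one_iff e e.injective] at h1
      exact (QuotientGroup.eq_one_iff x).mp h1
  have hsurj : ∀ p : Equiv.Perm (Fin 5), Equiv.Perm.sign p = 1 → ∃ x : G, φ x = p := by
    intro p hp
    obtain ⟨y, hy⟩ := e.surjective ⟨p, hp⟩
    obtain ⟨x, rfl⟩ := QuotientGroup.mk'_surjective R y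
    exact ⟨x, congrArg Subtype.val hy⟩
  obtain ⟨a, ha⟩ := hsurj _ f1
  obtain ⟨w, hw⟩ := hsurj _ f2
  have hd : A4 R a w := by
    constructor
    · rw [hmem, ha]; exact f3
    · rw [hmem, map_mul, ha]; exact f4
    · rw [hmem, hw]; exact f5
    · rw [hmem, map_pow, hw]; exact f6
    · rw [hmem, map_mul, map_inv, ha, hw]; exact f7
    · rw [hmem, map_pow, map_mul, map_inv, ha, hw]; exact f8
    · rw [hmem, map_mul, ha, hw]; exact f9
    · rw [hmem, map_pow, map_mul, ha, hw]; exact f10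
    · rw [hmem]; simp only [map_mul, map_inv, ha, hw]; exact f11
  have hcomm := higman_comm h hR hd
  have t0 : T3 R (a * w) := T3.of h hR (by rw [hmem, map_mul, ha, hw]; exact f12)
    (by rw [hmem, map_pow, map_mul, ha, hw]; exact f13)
  have t1 : T3 R (w⁻¹ * a * w * w) := T3.of h hR (by rw [hmem]; simp only [map_mul, map_inv, ha, hw]; exact f14)
    (by rw [hmem]; simp only [map_mul, map_inv, map_pow, ha, hw]; exact f15)
  have hsq := higman_sq h hR hd hcomm t0 t1 (by rw [hmem]; simp only [map_mul, map_inv, ha, hw]; exact f16)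
  exact ⟨⟨⟨fun x y => Subtype.ext (hcomm x x.2 y y.2)⟩⟩, fun x hx => by rw [pow_two]; exact hsq x hx⟩

theorem elemAb_bot : Cfsg.IsElementaryAbelian 2 (⊥ : Subgroup G) :=
  ⟨⟨⟨fun x y => Subsingleton.elim _ _⟩⟩, fun x hx => by rw [Subgroup.mem_bot.mp hx, one_pow]⟩

theorem alt_four6 : ∃ v w : alternatingGroup (Fin 6), v * v = 1 ∧ w * w = 1 ∧
    v ≠ 1 ∧ w ≠ 1 ∧ v ≠ w ∧ v * w = w * v := by
  obtain ⟨a, b, _, h⟩ := exists_VW_alt
  exact ⟨a, b, h.pair.haa, h.pair.hbb, h.pair.ha, h.pair.hb, h.pair.hab, h.pair.hcomm⟩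

open Equiv in
theorem alt5_four_facts : Perm.sign (swap 0 1 * swap 2 3 : Perm (Fin 5)) = 1 ∧
    Perm.sign (swap 0 2 * swap 1 3 : Perm (Fin 5)) = 1 ∧
    (swap 0 1 * swap 2 3 : Perm (Fin 5)) * (swap 0 1 * swap 2 3) = 1 ∧
    (swap 0 2 * swap 1 3 : Perm (Fin 5)) * (swap 0 2 * swap 1 3) = 1 ∧
    (swap 0 1 * swap 2 3 : Perm (Fin 5)) ≠ 1 ∧ (swap 0 2 * swap 1 3 : Perm (Fin 5)) ≠ 1 ∧
    (swap 0 1 * swap 2 3 : Perm (Fin 5)) ≠ (swap 0 2 * swap 1 3) ∧
    (swap 0 1 * swap 2 3 : Perm (Fin 5)) * (swap 0 2 * swap 1 3) =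
      (swap 0 2 * swap 1 3) * (swap 0 1 * swap 2 3) := by
  decide +kernel

theorem alt_four5 : ∃ v w : alternatingGroup (Fin 5), v * v = 1 ∧ w * w = 1 ∧
    v ≠ 1 ∧ w ≠ 1 ∧ v ≠ w ∧ v * w = w * v := by
  obtain ⟨f6, f7, f8, f9, f11, f12, f13, f10⟩ := alt5_four_facts
  exact ⟨⟨_, f6⟩, ⟨_, f7⟩, Subtype.ext f8, Subtype.ext f9, fun h => f11 (congrArg Subtype.val h),
    fun h => f12 (congrArg Subtype.val h), fun h => f13 (congrArg Subtype.val h), Subtype.ext f10⟩

/-- groups with all element orders at most five and order divisible by three primes -/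
theorem main_five (hCIT : CITHyp.{u}) (h5 : ∀ g : G, orderOf g ≤ 5)
    (h3 : 3 ≤ (Nat.card G).primeFactors.card) :
    Nonempty (G ≃* ↥(alternatingGroup (Fin 6))) ∨
      ∃ (N : Subgroup G) (_ : N.Normal), Cfsg.IsElementaryAbelian 2 N ∧
        Nonempty (G ⧸ N ≃* ↥(alternatingGroup (Fin 5))) := by
  have h : PP G := PP.of_le_five h5
  obtain ⟨R, hR, p, M, hp, hRp, hM, hMs, hMc⟩ := exists_struct h h3
  have hX : PP (G ⧸ R) := h.quotient R
  have hX5 : ∀ g : G ⧸ R, orderOf g ≤ 5 := by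
    intro g
    obtain ⟨x, rfl⟩ := QuotientGroup.mk'_surjective R g
    exact (Nat.le_of_dvd (orderOf_pos x) (orderOf_map_dvd _ x)).trans (h5 x)
  have hna : ∃ a b : M, a * b ≠ b * a := by
    by_contra hcon
    push Not at hcon
    exact hMc ⟨⟨hcon⟩⟩
  have hM5 : ∀ g : M, orderOf g ≤ 5 := by
    intro g
    rw [← Subgroup.orderOf_coe]
    exact hX5 g
  rcases list_five hna (hCIT M hna (hX.subgroup M).cit) hM5 with ⟨⟨e⟩⟩ | ⟨⟨e⟩⟩
  · -- `A₅`
    have hMcard : Nat.card M = 60 := by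
      rw [Nat.card_congr e.toEquiv, nat_card_alternatingGroup]
      simp [Nat.factorial]
    have hMtop := top_of_60 hX hMcard
    subst hMtop
    let e2 : (G ⧸ R) ≃* alternatingGroup (Fin 5) := Subgroup.topEquiv.symm.trans e
    right
    refine ⟨R, hR, ?_, ⟨e2⟩⟩
    by_cases hp2 : p = 2
    · subst hp2
      exact elemAb_of_A5 h hRp e2
    · have hbot : R = ⊥ := by
        apply h.eq_bot_of_odd hp hRp hp2
        obtain ⟨a, w, ha, hw, ha1, hw1, haw, hc⟩ := alt_four5
        have hone : e2.symm 1 = 1 := map_one _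
        refine ⟨e2.symm a, e2.symm w, ?_, ?_, ?_, ?_, ?_, ?_⟩
        · rw [← map_mul, ha, map_one]
        · rw [← map_mul, hw, map_one]
        · rw [← hone, Ne, e2.symm.injective.eq_iff]; exact ha1
        · rw [← hone, Ne, e2.symm.injective.eq_iff]; exact hw1
        · rw [Ne, e2.symm.injective.eq_iff]; exact haw
        · rw [← map_mul, ← map_mul, hc]
      rw [hbot]
      exact elemAb_bot
  · -- `A₆`
    left
    have hMtop := top_of_alt6 hX5 e
    subst hMtop
    let e2 : (G ⧸ R) ≃* alternatingGroup (Fin 6) := Subgroup.topEquiv.symm.trans e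
    have hXcard : Nat.card (G ⧸ R) = 360 := by
      rw [Nat.card_congr e2.toEquiv, nat_card_alternatingGroup]
      simp [Nat.factorial]
    have hbot : R = ⊥ := by
      by_cases hp2 : p = 2
      · subst hp2
        by_contra hRne
        have p3 : Nat.Prime 3 := Nat.prime_three
        have := Fact.mk p3
        obtain ⟨Q⟩ : Nonempty (Sylow 3 G) := inferInstance
        obtain ⟨n, hn⟩ := IsPGroup.iff_card.mp hRp
        have hG : Nat.card G = 3 ^ 2 * (2 ^ n * 40) := by
          have h1 := Subgroup.card_eq_card_quotient_mul_card_subgroup R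
          rw [hXcard, hn] at h1
          rw [h1]; ring
        have hnd : ¬ 3 ∣ 2 ^ n * 40 := by
          intro h1
          rcases (p3.dvd_mul).mp h1 with h2 | h2
          · have := p3.dvd_of_dvd_pow h2; omega
          · omega
        have hQ : Nat.card (Q : Subgroup G) = 9 := by
          rw [Q.card_eq_multiplicity, hG, Nat.factorization_mul (by norm_num) (by positivity),
            Finsupp.add_apply, p3.factorization_pow, Finsupp.single_eq_same,
            Nat.factorization_eq_zero_of_not_dvd hnd]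
          norm_num
        have hcyc : IsCyclic (Q : Subgroup G) := h.isCyclic (A := (Q : Subgroup G)) (K := R) hp hRp hRne p3 (by norm_num)
          (by norm_num) Q.isPGroup' (by rw [Subgroup.normalizer_eq_top]; exact le_top)
        obtain ⟨g, hg⟩ := hcyc.exists_generator
        have h9 : orderOf g = 9 := by rw [← hQ]; exact orderOf_eq_card_of_forall_mem_zpowers hg
        have h10 := h5 (g : G)
        rw [Subgroup.orderOf_coe, h9] at h10
        omega
      · apply h.eq_bot_of_odd hp hRp hp2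
        obtain ⟨a, w, ha, hw, ha1, hw1, haw, hc⟩ := alt_four6
        have hone : e2.symm 1 = 1 := map_one _
        refine ⟨e2.symm a, e2.symm w, ?_, ?_, ?_, ?_, ?_, ?_⟩
        · rw [← map_mul, ha, map_one]
        · rw [← map_mul, hw, map_one]
        · rw [← hone, Ne, e2.symm.injective.eq_iff]; exact ha1
        · rw [← hone, Ne, e2.symm.injective.eq_iff]; exact hw1
        · rw [Ne, e2.symm.injective.eq_iff]; exact haw
        · rw [← map_mul, ← map_mul, hc]
    subst hbot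
    exact ⟨QuotientGroup.quotientBot.symm.trans e2⟩

theorem three_primes_of_range (h : Set.range (orderOf : G → ℕ) = {k : ℕ | 1 ≤ k ∧ k ≤ 5}) :
    3 ≤ (Nat.card G).primeFactors.card := by
  have h1 : ∀ r : ℕ, r.Prime → 1 ≤ r ∧ r ≤ 5 → r ∈ (Nat.card G).primeFactors := by
    intro r hr hr5
    have h2 : r ∈ Set.range (orderOf : G → ℕ) := by rw [h]; exact hr5
    obtain ⟨g, hg⟩ := h2
    rw [Nat.mem_primeFactors]
    refine ⟨hr, ?_, Nat.card_pos.ne'⟩
    rw [← hg]
    exact orderOf_dvd_natCard g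
  have h2 : ({2, 3, 5} : Finset ℕ) ⊆ (Nat.card G).primeFactors := by
    intro r hr
    simp only [Finset.mem_insert, Finset.mem_singleton] at hr
    rcases hr with rfl | rfl | rfl
    · exact h1 2 Nat.prime_two (by norm_num)
    · exact h1 3 Nat.prime_three (by norm_num)
    · exact h1 5 Nat.prime_five (by norm_num)
  exact (Finset.card_le_card h2)

theorem le_five_of_range (h : Set.range (orderOf : G → ℕ) = {k : ℕ | 1 ≤ k ∧ k ≤ 5}) (g : G) :
    orderOf g ≤ 5 := by
  have h2 : orderOf g ∈ Set.range (orderOf : G → ℕ) := ⟨g, rfl⟩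
  rw [h] at h2
  exact h2.2

end

end H11.Eppo
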