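import Cfsg.Agent.Lib.H11.Eppo7
import Cfsg.Agent.Lib.H11.SL24b
import Cfsg.Agent.Lib.H2.Gaschutz
import Cfsg.Agent.Lib.H25.SL2Card

/-! The critical groups for the orders `1, 2, 3, 4, 5`. -/

open Subgroup Matrix

universe u

namespace H11.Eppo

open H98.DicksonField H11.SL24

section
variable {K : Type} [Field K] [Fintype K] {A : Type*} [AddCommGroup A]
  (ρ : Matrix.SpecialLinearGroup (Fin 2) K →* AddMonoid.End A)

omit [Fintype K] in
theorem exists_up_fixed [Finite K] (h2 : (2 : K) = 0) (hA : ∀ a : A, a + a = 0) {a : A} (ha : a ≠ 0) :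
    ∃ e : A, e ≠ 0 ∧ ∀ l, ρ (up l) e = e := by
  classical
  have := Fintype.ofFinite K
  have key : ∀ S : Finset K, ∃ e : A, e ≠ 0 ∧ ∀ l ∈ S, ρ (up l) e = e := by
    intro S
    induction S using Finset.induction_on with
    | empty => exact ⟨a, ha, fun l hl => absurd hl (Finset.notMem_empty l)⟩
    | insert l S hl ih =>
      obtain ⟨e, he0, he⟩ := ih
      have hll : ρ (up l) (ρ (up l) e) = e := by
        have h11 : l + l = 0 := by rw [← two_mul, h2, zero_mul]
        rw [← rho_mul, up_mul, h11, up_zero, rho_one]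
      by_cases h1 : e + ρ (up l) e = 0
      · refine ⟨e, he0, fun k hk => ?_⟩
        rcases Finset.mem_insert.mp hk with rfl | hk
        · have h3 := hA e
          rw [← h3] at h1
          exact add_left_cancel h1
        · exact he k hk
      · refine ⟨_, h1, fun k hk => ?_⟩
        rcases Finset.mem_insert.mp hk with rfl | hk
        · rw [map_add, hll, add_comm]
        · have hc : ρ (up k) (ρ (up l) e) = ρ (up l) (ρ (up k) e) := by
            rw [← rho_mul, ← rho_mul, up_mul, up_mul, add_comm]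
          rw [map_add, hc, he k hk]
  obtain ⟨e, he0, he⟩ := key Finset.univ
  exact ⟨e, he0, fun l => he l (Finset.mem_univ l)⟩

end

section
variable {K : Type} [Field K] [Fintype K]

theorem exists_zeta (hK : Fintype.card K = 4) : ∃ z : K, z ≠ 0 ∧ z ≠ 1 ∧ z ^ 2 + z + 1 = 0 := by
  classical
  obtain ⟨z, hz⟩ : ∃ z : K, z ∉ ({0, 1} : Finset K) := by
    by_contra hcon
    push Not at hcon
    have h1 : (Finset.univ : Finset K) ⊆ {0, 1} := fun x _ => hcon x
    have h2 := Finset.card_le_card h1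
    have h3 : ({0, 1} : Finset K).card ≤ 2 := Finset.card_le_two
    rw [Finset.card_univ, hK] at h2
    omega
  have h0 : z ≠ 0 := fun h => hz (by rw [h]; simp)
  have h1 : z ≠ 1 := fun h => hz (by rw [h]; simp)
  refine ⟨z, h0, h1, ?_⟩
  have h3 := pow_three hK h0
  have h4 : (z - 1) * (z ^ 2 + z + 1) = 0 := by linear_combination h3
  exact (mul_eq_zero.mp h4).resolve_left (sub_ne_zero.mpr h1)

theorem dg_cube (hK : Fintype.card K = 4) (z : K) (hz : z ≠ 0) : dg z hz ^ 3 = 1 := by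
  rw [pow_succ, pow_two, dg_mul, dg_mul]
  have h := pow_three hK hz
  have h1 : z * z * z = 1 := by linear_combination h
  apply sl_ext
  rw [coe_dg, h1, Matrix.SpecialLinearGroup.coe_one]
  ext i j
  fin_cases i <;> fin_cases j <;> simp

theorem dg_ne (z : K) (hz : z ≠ 0) (h1 : z ≠ 1) : dg z hz ≠ 1 := by
  intro h
  have h2 := congrArg (fun M : Matrix.SpecialLinearGroup (Fin 2) K => (M : Matrix (Fin 2) (Fin 2) K) 0 0) h
  simp only [coe_dg, Matrix.SpecialLinearGroup.coe_one] at h2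
  simp at h2
  exact h1 h2

theorem up_dg_cube (hK : Fintype.card K = 4) (z : K) (hz : z ≠ 0) (hz2 : z ^ 2 + z + 1 = 0) :
    (up 1 * dg z hz) ^ 3 = 1 := by
  have h := pow_three hK hz
  rw [pow_succ, pow_two]
  have e1 : up 1 * dg z hz * (up 1 * dg z hz) * (up 1 * dg z hz) =
      up 1 * up (z ^ 2 * 1) * up (z ^ 2 * (z ^ 2 * 1)) * dg z hz ^ 3 := by
    have h2 := dg_up z hz 1
    have h3 := dg_up z hz (z ^ 2 * 1)
    calc up 1 * dg z hz * (up 1 * dg z hz) * (up 1 * dg z hz)
        = up 1 * (dg z hz * up 1) * (dg z hz * up 1) * dg z hz := by group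
      _ = up 1 * (up (z ^ 2 * 1) * dg z hz) * (up (z ^ 2 * 1) * dg z hz) * dg z hz := by rw [h2]
      _ = up 1 * up (z ^ 2 * 1) * (dg z hz * up (z ^ 2 * 1)) * dg z hz * dg z hz := by group
      _ = up 1 * up (z ^ 2 * 1) * (up (z ^ 2 * (z ^ 2 * 1)) * dg z hz) * dg z hz * dg z hz := by rw [h3]
      _ = _ := by rw [pow_succ (dg z hz) 2, pow_two (dg z hz)]; group
  rw [e1, dg_cube hK, mul_one, up_mul, up_mul]
  have e2 : 1 + z ^ 2 * 1 + z ^ 2 * (z ^ 2 * 1) = 0 := by
    linear_combination hz2 + z * h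
  rw [e2, up_zero]

theorem up_dg_ne (z : K) (hz : z ≠ 0) (h1 : z ≠ 1) : up 1 * dg z hz ≠ 1 := by
  intro h
  have h2 := congrArg (fun M : Matrix.SpecialLinearGroup (Fin 2) K => (M : Matrix (Fin 2) (Fin 2) K) 0 0) h
  simp only [Matrix.SpecialLinearGroup.coe_mul, coe_up, coe_dg, Matrix.SpecialLinearGroup.coe_one] at h2
  simp at h2
  exact h1 h2

theorem up_inj {a b : K} (h : up a = up b) : a = b := by
  have h2 := congrArg (fun M : Matrix.SpecialLinearGroup (Fin 2) K => (M : Matrix (Fin 2) (Fin 2) K) 0 1) h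
  simp only [coe_up] at h2
  simpa using h2

end

section
variable {G : Type u} [Group G] [Finite G] {N : Subgroup G} [hNn : N.Normal]
  {K : Type} [Field K] [Fintype K]

/-- a minimal normal 2-subgroup with quotient `SL₂(4)` -/
theorem critical_iso (h : PP G) (hN2 : IsPGroup 2 N)
    (hcomm : ∀ x ∈ N, ∀ y ∈ N, x * y = y * x) (hsq : ∀ x ∈ N, x * x = 1) (hNne : N ≠ ⊥)
    (hmin : ∀ L : Subgroup G, L.Normal → L ≤ N → L = ⊥ ∨ L = N) (hK : Fintype.card K = 4)
    (E : G ⧸ N ≃* Matrix.SpecialLinearGroup (Fin 2) K) :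
    Nonempty (G ≃* ↥(Subgroup.closure {M : Matrix.SpecialLinearGroup (Fin 3) K |
          (M : Matrix (Fin 3) (Fin 3) K) 2 0 = 0 ∧ (M : Matrix (Fin 3) (Fin 3) K) 2 1 = 0 ∧
          (M : Matrix (Fin 3) (Fin 3) K) 2 2 = 1})) := by
  classical
  have h2 := char_two hK
  have h11 : (1 : K) + 1 = 0 := by rw [← h2]; norm_num
  let ψ : G →* Matrix.SpecialLinearGroup (Fin 2) K := (E : G ⧸ N →* _).comp (QuotientGroup.mk' N)
  have hψs : Function.Surjective ψ := E.surjective.comp (QuotientGroup.mk'_surjective N)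
  have hψ1 : ∀ g, ψ g = 1 ↔ g ∈ N := by
    intro g
    change E (QuotientGroup.mk' N g) = 1 ↔ _
    rw [map_eq_one_iff E E.injective]
    exact QuotientGroup.eq_one_iff g
  let _ : CommGroup N := { (inferInstance : Group N) with
    mul_comm := fun x y => Subtype.ext (hcomm x x.2 y y.2) }
  -- the action on the additive group
  let f : G → AddMonoid.End (Additive N) := fun g =>
    { toFun := fun x => Additive.ofMul (⟨g * x.toMul * g⁻¹, hNn.conj_mem x.toMul x.toMul.2 g⟩ : N)
      map_zero' := congrArg Additive.ofMul (Subtype.ext (by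
        change g * 1 * g⁻¹ = 1
        group))
      map_add' := fun x y => congrArg Additive.ofMul (Subtype.ext (by
        change g * ((x.toMul : G) * (y.toMul : G)) * g⁻¹ = (g * x.toMul * g⁻¹) * (g * y.toMul * g⁻¹)
        group)) }
  let ρ₀ : G →* AddMonoid.End (Additive N) :=
    { toFun := f
      map_one' := by
        apply AddMonoidHom.ext
        intro x
        exact congrArg Additive.ofMul (Subtype.ext (by
          change 1 * (x.toMul : G) * 1⁻¹ = x.toMul
          group))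
      map_mul' := fun g g' => by
        apply AddMonoidHom.ext
        intro x
        exact congrArg Additive.ofMul (Subtype.ext (by
          change g * g' * (x.toMul : G) * (g * g')⁻¹ = g * (g' * x.toMul * g'⁻¹) * g⁻¹
          group)) }
  have hρ₀ : ∀ (g : G) (x : Additive N), ((ρ₀ g x).toMul : G) = g * x.toMul * g⁻¹ := fun g x => rfl
  have hρN : ∀ r ∈ N, ρ₀ r = 1 := by
    intro r hr
    apply AddMonoidHom.ext
    intro x
    exact congrArg Additive.ofMul (Subtype.ext (by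
      change r * (x.toMul : G) * r⁻¹ = x.toMul
      rw [hcomm r hr _ x.toMul.2, mul_inv_cancel_right]))
  let ρ₁ : G ⧸ N →* AddMonoid.End (Additive N) := QuotientGroup.lift N ρ₀ hρN
  let ρ : Matrix.SpecialLinearGroup (Fin 2) K →* AddMonoid.End (Additive N) := ρ₁.comp (E.symm : _ →* G ⧸ N)
  have hρ : ∀ g, ρ (ψ g) = ρ₀ g := by
    intro g
    change ρ₁ (E.symm (E (QuotientGroup.mk' N g))) = _
    rw [E.symm_apply_apply]
    rfl
  have hA : ∀ a : Additive N, a + a = 0 := by
    intro a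
    exact congrArg Additive.ofMul (Subtype.ext (hsq a.toMul a.toMul.2))
  have hT3 : ∀ g : G, ψ g ≠ 1 → ψ g ^ 3 = 1 → T3 N g := by
    intro g hg hg3
    refine T3.of h hN2 (fun h1 => hg ((hψ1 g).mpr h1)) ?_
    rw [← hψ1, map_pow]; exact hg3
  have hNorm : ∀ M : Matrix.SpecialLinearGroup (Fin 2) K, M ≠ 1 → M ^ 3 = 1 →
      ∀ x, x + ρ M x + ρ M (ρ M x) = 0 := by
    intro M hM hM3 x
    obtain ⟨g, rfl⟩ := hψs M
    rw [hρ]
    have hg := hT3 g hM hM3
    have h1 := H69.Engel2.norm_right N g hg.pow hg.fix x.toMul x.toMul.2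
    exact congrArg Additive.ofMul (Subtype.ext (by
      change (x.toMul : G) * (g * x.toMul * g⁻¹) * (g * (g * x.toMul * g⁻¹) * g⁻¹) = 1
      have h3 : g ^ 2 * (x.toMul : G) * (g ^ 2)⁻¹ = g * (g * x.toMul * g⁻¹) * g⁻¹ := by
        rw [pow_two]; group
      rw [h3] at h1
      exact h1))
  obtain ⟨x0, hx0N, hx01⟩ := (Subgroup.ne_bot_iff_exists_ne_one.mp hNne).elim
    (fun x hx => (⟨x.1, x.2, fun h1 => hx (Subtype.ext h1)⟩ : ∃ x : G, x ∈ N ∧ x ≠ 1))
  obtain ⟨e, he0, he⟩ := exists_up_fixed ρ h2 hA (a := Additive.ofMul (⟨x0, hx0N⟩ : N))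
    (fun h1 => hx01 (congrArg Subtype.val h1))
  obtain ⟨Φ, hΦi, hΦ⟩ := exists_natural ρ hK hA hNorm he he0
  -- surjectivity
  have hΦs : Function.Surjective Φ := by
    let L : Subgroup G :=
      { carrier := {g | ∃ v, ((Φ v).toMul : G) = g}
        one_mem' := ⟨0, by rw [map_zero]; rfl⟩
        mul_mem' := by
          rintro _ _ ⟨v, rfl⟩ ⟨w, rfl⟩
          exact ⟨v + w, by rw [map_add]; rfl⟩
        inv_mem' := by
          rintro _ ⟨v, rfl⟩
          exact ⟨-v, by rw [map_neg]; rfl⟩ }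
    have hLn : L.Normal := by
      refine ⟨?_⟩
      rintro _ ⟨v, rfl⟩ g
      refine ⟨(ψ g : Matrix (Fin 2) (Fin 2) K) *ᵥ v, ?_⟩
      rw [hΦ, hρ, hρ₀]
    have hLN : L ≤ N := by
      rintro _ ⟨v, rfl⟩
      exact (Φ v).toMul.2
    rcases hmin L hLn hLN with h1 | h1
    · exfalso
      have h3 : ((Φ (fun _ => 1)).toMul : G) ∈ L := ⟨_, rfl⟩
      rw [h1, Subgroup.mem_bot] at h3
      have h4 : Φ (fun _ => 1) = 0 := congrArg Additive.ofMul (Subtype.ext h3)
      have h5 := (injective_iff_map_eq_zero Φ).mp hΦi _ h4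
      exact one_ne_zero (congrFun h5 0)
    · intro a
      have h3 : (a.toMul : G) ∈ L := by rw [h1]; exact a.toMul.2
      obtain ⟨v, hv⟩ := h3
      exact ⟨v, congrArg Additive.ofMul (Subtype.ext hv)⟩
  -- an involution above `up 1`
  obtain ⟨t0, ht0⟩ := hψs (up 1)
  have ht0N : t0 * t0 ∈ N := by
    rw [← hψ1, map_mul, ht0, up_mul, h11, up_zero]
  obtain ⟨v, hv⟩ := hΦs (Additive.ofMul (⟨t0 * t0, ht0N⟩ : N))
  have hv1 : v 1 = 0 := by
    have h3 : ρ (up 1) (Φ v) = Φ v := by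
      rw [← ht0, hρ, hv]
      exact congrArg Additive.ofMul (Subtype.ext (by
        change t0 * (t0 * t0) * t0⁻¹ = t0 * t0
        group))
    rw [← hΦ] at h3
    have h4 := congrFun (hΦi h3) 0
    rw [coe_up] at h4
    simp [Matrix.mulVec, dotProduct, Fin.sum_univ_two] at h4
    exact h4
  let n : Additive N := Φ ![0, v 0]
  have hn : ρ (up 1) n + n = Φ v := by
    change ρ (up 1) (Φ ![0, v 0]) + Φ ![0, v 0] = Φ v
    rw [← hΦ, ← map_add]
    congr 1
    rw [coe_up]
    funext i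
    fin_cases i
    · simp
    · simp
      rw [hv1, ← two_mul, h2, zero_mul]
  let t : G := (n.toMul : G) * t0
  have htt : t * t = 1 := by
    have h3 : ((ρ₀ t0 n + n).toMul : G) = t0 * t0 := by
      rw [← hρ, ht0, hn, hv]; rfl
    have h4 : (t0 * n.toMul * t0⁻¹) * n.toMul = t0 * t0 := h3
    have h5 : (n.toMul : G) * (t0 * n.toMul * t0⁻¹) = t0 * t0 := by
      rw [← h4]
      exact hcomm _ n.toMul.2 _ (hNn.conj_mem _ n.toMul.2 _)
    have h6 : (t0 * t0) * (t0 * t0) = 1 := hsq _ ht0N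
    calc t * t = ((n.toMul : G) * (t0 * n.toMul * t0⁻¹)) * (t0 * t0) := by
          change (n.toMul : G) * t0 * (n.toMul * t0) = _
          group
      _ = 1 := by rw [h5, h6]
  have hψt : ψ t = up 1 := by
    change ψ ((n.toMul : G) * t0) = _
    rw [map_mul, (hψ1 _).mpr n.toMul.2, one_mul, ht0]
  -- the element of order three
  obtain ⟨z, hz0, hz1, hz2⟩ := exists_zeta hK
  obtain ⟨w, hw⟩ := hψs (dg z hz0)
  have hw3 : w ^ 3 = 1 := (hT3 w (by rw [hw]; exact dg_ne z hz0 hz1) (by rw [hw]; exact dg_cube hK z hz0)).pow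
  have htw3 : (t * w) ^ 3 = 1 := (hT3 (t * w) (by rw [map_mul, hw, hψt]; exact up_dg_ne z hz0 hz1)
    (by rw [map_mul, hw, hψt]; exact up_dg_cube hK z hz0 hz2)).pow
  set t2 := w * t * w⁻¹ with ht2
  have ht22 : t2 * t2 = 1 := by
    calc t2 * t2 = w * (t * t) * w⁻¹ := by rw [ht2]; group
      _ = 1 := by rw [htt]; group
  set t3 := w * t2 * w⁻¹ with ht3
  have ht33 : t3 * t3 = 1 := by
    calc t3 * t3 = w * (t2 * t2) * w⁻¹ := by rw [ht3]; group
      _ = 1 := by rw [ht22]; group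
  have hprod : t * t2 * t3 = 1 := by
    calc t * t2 * t3 = (t * w) ^ 3 * (w ^ 3)⁻¹ := by
          rw [ht3, ht2, pow_succ, pow_two, pow_succ w 2, pow_two]; group
      _ = 1 := by rw [htw3, hw3]; group
  have h12 : t * t2 = t3 := by
    have h3 : t * t2 = t3⁻¹ := eq_inv_of_mul_eq_one_left hprod
    rw [h3]; exact inv_eq_of_mul_eq_one_left ht33
  have hcomm12 : t * t2 = t2 * t := by
    have h3 : (t * t2) * (t * t2) = 1 := by rw [h12]; exact ht33
    have e1 : t⁻¹ = t := inv_eq_of_mul_eq_one_left htt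
    have e2 : t2⁻¹ = t2 := inv_eq_of_mul_eq_one_left ht22
    have e3 : (t * t2)⁻¹ = t * t2 := inv_eq_of_mul_eq_one_left h3
    rw [_root_.mul_inv_rev, e1, e2] at e3
    exact e3.symm
  have hψt2 : ψ t2 = up (z ^ 2) := by
    rw [ht2, map_mul, map_mul, map_inv, hw, hψt, dg_up, mul_one, mul_inv_cancel_right]
  have hz21 : z ^ 2 ≠ 1 := by
    intro h3
    have h4 := pow_three hK hz0
    apply hz1
    calc z = z ^ 2 * z := by rw [h3, one_mul]
      _ = z ^ 3 := by ring
      _ = 1 := h4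
  have hup1 : up (1 : K) ≠ 1 := by
    rw [← up_zero]
    exact fun h3 => one_ne_zero (up_inj h3)
  have hupz : up (z ^ 2) ≠ 1 := by
    rw [← up_zero]
    exact fun h3 => (pow_ne_zero 2 hz0) (up_inj h3)
  have hpair : H17.FourGrp.IsPair t t2 := by
    refine ⟨?_, ?_, ?_, htt, ht22, hcomm12⟩
    · intro h3
      rw [h3, map_one] at hψt
      exact hup1 hψt.symm
    · intro h3
      rw [h3, map_one] at hψt2
      exact hupz hψt2.symm
    · intro h3
      rw [← h3, hψt] at hψt2
      exact hz21 (up_inj hψt2).symm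
  let V := H17.FourGrp.four t t2 hpair
  have hVc : Nat.card V = 4 := H17.FourGrp.card_four hpair
  have hVN : V ⊓ N = ⊥ := by
    rw [Subgroup.eq_bot_iff_forall]
    rintro x ⟨hx, hxN⟩
    have hx1 := (hψ1 x).mpr hxN
    rcases hx with rfl | rfl | rfl | rfl
    · rfl
    · rw [hψt] at hx1; exact absurd hx1 hup1
    · rw [hψt2] at hx1; exact absurd hx1 hupz
    · exfalso
      rw [map_mul, hψt, hψt2, up_mul, ← up_zero] at hx1
      have h3 := up_inj hx1
      apply hz0
      linear_combination hz2 - h3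
  -- a complement
  have hNcomm : IsMulCommutative N := ⟨⟨fun x y => Subtype.ext (hcomm x x.2 y y.2)⟩⟩
  have hGc : Nat.card G = 60 * Nat.card N := by
    rw [Subgroup.card_eq_card_quotient_mul_card_subgroup N, Nat.card_congr E.toEquiv,
      H25.SL2Card.card_SL2, hK]
    norm_num
  have hUc : Nat.card (N ⊔ V : Subgroup G) = 4 * Nat.card N := by
    have h3 : N.relIndex (N ⊔ V) = 4 := by
      rw [Subgroup.relIndex_sup_left]
      have h4 : N.subgroupOf V = ⊥ := by
        rw [Subgroup.subgroupOf_eq_bot, disjoint_iff, inf_comm]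
        exact hVN
      rw [Subgroup.relIndex, h4, Subgroup.index_bot, hVc]
    have h4 := Subgroup.card_mul_index (N.subgroupOf (N ⊔ V))
    have h5 : Nat.card (N.subgroupOf (N ⊔ V)) = Nat.card N :=
      Nat.card_congr (Subgroup.subgroupOfEquivOfLe le_sup_left).toEquiv
    rw [h5] at h4
    rw [← h4]
    change Nat.card N * N.relIndex (N ⊔ V) = _
    rw [h3, mul_comm]
  have hUi : (N ⊔ V : Subgroup G).index = 15 := by
    have h3 := Subgroup.card_mul_index (N ⊔ V : Subgroup G)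
    rw [hUc, hGc] at h3
    have h4 : 0 < Nat.card N := Nat.card_pos
    have h5 : Nat.card N * (4 * (N ⊔ V : Subgroup G).index) = Nat.card N * 60 := by
      rw [← mul_assoc, mul_comm (Nat.card N) 4, h3, mul_comm]
    have h6 := Nat.eq_of_mul_eq_mul_left h4 h5
    omega
  obtain ⟨H, hH⟩ := H2.Gaschutz.exists_complement N (N ⊔ V) (by
    rw [hUi]
    obtain ⟨k, hk⟩ := IsPGroup.iff_card.mp hN2
    rw [hk]
    exact Nat.Coprime.pow_left k (by norm_num)) V le_sup_right hVN rfl
  -- the section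
  let θ : H →* Matrix.SpecialLinearGroup (Fin 2) K := ψ.comp H.subtype
  have hθ : Function.Bijective θ := by
    constructor
    · rw [injective_iff_map_eq_one]
      rintro ⟨x, hx⟩ hx1
      have h3 : x ∈ N ⊓ H := ⟨(hψ1 x).mp hx1, hx⟩
      rw [hH.disjoint.eq_bot, Subgroup.mem_bot] at h3
      exact Subtype.ext h3
    · intro M
      obtain ⟨g, rfl⟩ := hψs M
      obtain ⟨⟨x, y⟩, hxy⟩ := hH.2 g
      refine ⟨y, ?_⟩
      have h3 : (x : G) * y = g := hxy
      change ψ (y : G) = ψ g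
      rw [← h3, map_mul, (hψ1 _).mpr x.2, one_mul]
  let Θ : H ≃* Matrix.SpecialLinearGroup (Fin 2) K := MulEquiv.ofBijective θ hθ
  let σ : Matrix.SpecialLinearGroup (Fin 2) K →* G := H.subtype.comp (Θ.symm : _ →* H)
  have hσ : ∀ M, ψ (σ M) = M := by
    intro M
    change θ (Θ.symm M) = M
    exact Θ.apply_symm_apply M
  refine iso_of_split ψ (fun v => ((Φ v).toMul : G)) ?_ ?_ ?_ ?_ σ hσ
  · intro v w
    rw [map_add]; rfl
  · intro v w hvw
    exact hΦi (congrArg Additive.ofMul (Subtype.ext hvw))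
  · intro g
    rw [hψ1]
    constructor
    · intro hg
      obtain ⟨v, hv⟩ := hΦs (Additive.ofMul (⟨g, hg⟩ : N))
      exact ⟨v, by rw [hv]; rfl⟩
    · rintro ⟨v, rfl⟩
      exact (Φ v).toMul.2
  · intro g v
    change g * ((Φ v).toMul : G) * g⁻¹ = ((Φ ((ψ g : Matrix (Fin 2) (Fin 2) K) *ᵥ v)).toMul : G)
    rw [hΦ, hρ, hρ₀]

end

end H11.Eppo
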