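import Cfsg.Agent.Lib.H11.Eppo8

/-! The critical groups for the orders `1, 2, 3, 4, 5`: conclusion. -/

open Subgroup Matrix

universe u

namespace H11.Eppo

theorem exists_field_four : ∃ (K : Type) (_ : Field K) (_ : Fintype K), Fintype.card K = 4 := by
  have := Fact.mk Nat.prime_two
  have hc : Nat.card (GaloisField 2 2) = 4 := by
    rw [GaloisField.card 2 2 (by norm_num)]
    norm_num
  have : Finite (GaloisField 2 2) := Nat.finite_of_card_ne_zero (by rw [hc]; norm_num)
  let _ : Fintype (GaloisField 2 2) := Fintype.ofFinite _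
  exact ⟨GaloisField 2 2, inferInstance, inferInstance, by
    rw [← Nat.card_eq_fintype_card, hc]⟩

theorem exists_equiv_SL {Q : Type*} [Group Q] (e : Q ≃* alternatingGroup (Fin 5))
    {K : Type} [Field K] [Fintype K] (hK : Fintype.card K = 4) :
    Nonempty (Q ≃* Matrix.SpecialLinearGroup (Fin 2) K) := by
  obtain ⟨e2⟩ := H6.SmallIsoA.psl2_four hK
  have h2 := H11.SL24.char_two hK
  have hc : CharP K 2 := by
    apply CharTwo.of_one_ne_zero_of_two_eq_zero one_ne_zero h2
  have hbot := H25.SL2Card.center_SL2_char_two (K := K)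
  have e3 : Matrix.ProjectiveSpecialLinearGroup (Fin 2) K ≃* Matrix.SpecialLinearGroup (Fin 2) K :=
    (QuotientGroup.quotientMulEquivOfEq hbot).trans QuotientGroup.quotientBot
  exact ⟨(e.trans e2.symm).trans e3⟩

theorem alt5_order_four : ∀ σ : Equiv.Perm (Fin 5), Equiv.Perm.sign σ = 1 → σ ^ 4 = 1 → σ ^ 2 = 1 := by
  decide +kernel

section
variable {G : Type u} [Group G] [Finite G] {N : Subgroup G} [hNn : N.Normal]

/-- there is an element of order four modulo a smaller normal subgroup -/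
theorem exists_order_four (h : PP G) (hN2 : IsPGroup 2 N)
    (hcomm : ∀ x ∈ N, ∀ y ∈ N, x * y = y * x) (hsq : ∀ x ∈ N, x * x = 1)
    (e : G ⧸ N ≃* alternatingGroup (Fin 5)) {L : Subgroup G} [hLn : L.Normal] (hLN : L ≤ N)
    (hne : L ≠ N) : ∃ t : G, t * t ∈ N ∧ t * t ∉ L := by
  by_contra hcon
  push Not at hcon
  apply hne
  apply le_antisymm hLN
  obtain ⟨f1, f2, f3, f4, f5, f6, -⟩ := alt5_facts
  have hs : IsSimpleGroup (alternatingGroup (Fin 5)) := alternatingGroup.isSimpleGroup (by simp)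
  have hnt : Nontrivial (G ⧸ N) := e.toEquiv.nontrivial
  have hsim : IsSimpleGroup (G ⧸ N) := IsSimpleGroup.isSimpleGroup_of_surjective
    (e.symm : alternatingGroup (Fin 5) →* G ⧸ N) e.symm.surjective
  let φ : G →* Equiv.Perm (Fin 5) := ((alternatingGroup (Fin 5)).subtype.comp (e : G ⧸ N →* alternatingGroup (Fin 5))).comp
    (QuotientGroup.mk' N)
  have hmem : ∀ x : G, x ∈ N ↔ φ x = 1 := by
    intro x
    constructor
    · intro hx
      have h1 : QuotientGroup.mk' N x = 1 := (QuotientGroup.eq_one_iff x).mpr hx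
      change ((e (QuotientGroup.mk' N x) : alternatingGroup (Fin 5)) : Equiv.Perm (Fin 5)) = 1
      rw [h1, map_one]; rfl
    · intro hx
      have h1 : e (QuotientGroup.mk' N x) = 1 := Subtype.ext hx
      rw [map_eq_one_iff e e.injective] at h1
      exact (QuotientGroup.eq_one_iff x).mp h1
  have hsurj : ∀ p : Equiv.Perm (Fin 5), Equiv.Perm.sign p = 1 → ∃ x : G, φ x = p := by
    intro p hp
    obtain ⟨y, hy⟩ := e.surjective ⟨p, hp⟩
    obtain ⟨x, rfl⟩ := QuotientGroup.mk'_surjective N y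
    exact ⟨x, congrArg Subtype.val hy⟩
  obtain ⟨a, ha⟩ := hsurj _ f1
  obtain ⟨w, hw⟩ := hsurj _ f2
  have haa : a * a ∈ N := by rw [hmem, map_mul, ha]; exact f4
  have ha1 : a ∉ N := by rw [hmem, ha]; exact f3
  have hw3 : T3 N w := T3.of h hN2 (by rw [hmem, hw]; exact f5) (by rw [hmem, map_pow, hw]; exact f6)
  let C : Subgroup G :=
    { carrier := {g | ∀ n ∈ N, (g * n * g⁻¹) * n⁻¹ ∈ L}
      one_mem' := fun n _ => by
        have : 1 * n * 1⁻¹ * n⁻¹ = 1 := by group
        rw [this]; exact L.one_mem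
      mul_mem' := by
        intro g g' hg hg' n hn
        have h1 : g * g' * n * (g * g')⁻¹ * n⁻¹ =
            ((g * (g' * n * g'⁻¹) * g⁻¹) * (g' * n * g'⁻¹)⁻¹) * ((g' * n * g'⁻¹) * n⁻¹) := by group
        rw [h1]
        exact L.mul_mem (hg _ (hNn.conj_mem n hn g')) (hg' n hn)
      inv_mem' := by
        intro g hg n hn
        have h0 : g⁻¹ * n * g ∈ N := by
          have := hNn.conj_mem n hn g⁻¹
          rwa [inv_inv] at this
        have h1 : g⁻¹ * n * g⁻¹⁻¹ * n⁻¹ = ((g * (g⁻¹ * n * g) * g⁻¹) * (g⁻¹ * n * g)⁻¹)⁻¹ := by group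
        rw [h1]
        exact L.inv_mem (hg _ h0) }
  have hC : C.Normal := by
    refine ⟨fun c hc g n hn => ?_⟩
    have h0 : g⁻¹ * n * g ∈ N := by
      have := hNn.conj_mem n hn g⁻¹
      rwa [inv_inv] at this
    have h1 : g * c * g⁻¹ * n * (g * c * g⁻¹)⁻¹ * n⁻¹ =
        g * ((c * (g⁻¹ * n * g) * c⁻¹) * (g⁻¹ * n * g)⁻¹) * g⁻¹ := by group
    rw [h1]
    exact hLn.conj_mem _ (hc _ h0) g
  have hNC : N ≤ C := by
    intro g hg n hn
    rw [hcomm g hg n hn, mul_inv_cancel_right, mul_inv_cancel]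
    exact L.one_mem
  have haC : a ∈ C := by
    intro n hn
    have hna : a * n * a⁻¹ ∈ N := hNn.conj_mem n hn a
    have h1 : (n * a) * (n * a) ∈ L := by
      apply hcon
      have h2 : (n * a) * (n * a) = n * (a * n * a⁻¹) * (a * a) := by group
      rw [h2]
      exact N.mul_mem (N.mul_mem hn hna) haa
    have h2 : a * a ∈ L := hcon a haa
    have h3 : n * (a * n * a⁻¹) ∈ L := by
      have h4 : n * (a * n * a⁻¹) = (n * a) * (n * a) * (a * a)⁻¹ := by group
      rw [h4]
      exact L.mul_mem h1 (L.inv_mem h2)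
    have h4 : n⁻¹ = n := inv_eq_of_mul_eq_one_left (hsq n hn)
    rw [h4, ← hcomm n hn _ hna]
    exact h3
  have htop := eq_top_of_simple hC haC ha1 hNC
  intro x hx
  have hwC : w ∈ C := by rw [htop]; trivial
  obtain ⟨n, hn, hnx⟩ := H69.Engel2.exists_left N w hw3.fix x hx
  rw [hnx]
  exact hwC n hn

end

theorem main_critical {G : Type u} [Group G] [Finite G] (hCIT : CITHyp.{u})
    (hr : Set.range (orderOf : G → ℕ) = ({1, 2, 3, 4, 5} : Set ℕ))
    (hcrit : ∀ (H : Subgroup G) (N : Subgroup ↥H) [N.Normal], (H ≠ ⊤ ∨ N ≠ ⊥) →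
      Set.range (orderOf : (↥H ⧸ N) → ℕ) ≠ ({1, 2, 3, 4, 5} : Set ℕ)) :
    Nonempty (G ≃* alternatingGroup (Fin 6)) ∨
      ∃ (F : Type) (_ : Field F) (_ : Fintype F), Fintype.card F = 4 ∧
        Nonempty (G ≃* ↥(Subgroup.closure {M : Matrix.SpecialLinearGroup (Fin 3) F |
          (M : Matrix (Fin 3) (Fin 3) F) 2 0 = 0 ∧ (M : Matrix (Fin 3) (Fin 3) F) 2 1 = 0 ∧
          (M : Matrix (Fin 3) (Fin 3) F) 2 2 = 1})) := by
  have hset : ({1, 2, 3, 4, 5} : Set ℕ) = {k : ℕ | 1 ≤ k ∧ k ≤ 5} := by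
    ext k
    simp only [Set.mem_insert_iff, Set.mem_singleton_iff, Set.mem_ofPred_eq]
    omega
  have hr' := hr
  rw [hset] at hr'
  have h5 := le_five_of_range hr'
  have h : PP G := PP.of_le_five h5
  rcases main_five hCIT h5 (three_primes_of_range hr') with h1 | ⟨N, hNn, ⟨hNc, hNe⟩, ⟨e⟩⟩
  · exact Or.inl h1
  right
  obtain ⟨K, _, _, hK⟩ := exists_field_four
  obtain ⟨E⟩ := exists_equiv_SL e hK
  have hcomm : ∀ x ∈ N, ∀ y ∈ N, x * y = y * x := fun x hx y hy =>
    congrArg Subtype.val (hNc.is_comm.comm (⟨x, hx⟩ : N) ⟨y, hy⟩)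
  have hsq : ∀ x ∈ N, x * x = 1 := fun x hx => by rw [← pow_two]; exact hNe x hx
  have hN2 : IsPGroup 2 N := fun x => ⟨1, Subtype.ext (by
    rw [pow_one]
    exact hNe x x.2)⟩
  have hex : ∀ k : ℕ, 1 ≤ k ∧ k ≤ 5 → ∃ g : G, orderOf g = k := by
    intro k hk
    have h2 : k ∈ Set.range (orderOf : G → ℕ) := by rw [hr']; exact hk
    exact h2
  have hNne : N ≠ ⊥ := by
    obtain ⟨g, hg⟩ := hex 4 (by norm_num)
    have hg4 : g ^ 4 = 1 := by rw [← hg]; exact pow_orderOf_eq_one g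
    have h2 : ((e (QuotientGroup.mk' N g) : alternatingGroup (Fin 5)) : Equiv.Perm (Fin 5)) ^ 2 = 1 := by
      apply alt5_order_four _ (e (QuotientGroup.mk' N g)).2
      have h3 : e (QuotientGroup.mk' N g) ^ 4 = 1 := by
        rw [← map_pow, ← map_pow, hg4, map_one, map_one]
      exact congrArg Subtype.val h3
    have h3 : e (QuotientGroup.mk' N g) ^ 2 = 1 := Subtype.ext h2
    rw [← map_pow, map_eq_one_iff e e.injective, ← map_pow] at h3
    have h4 : g ^ 2 ∈ N := (QuotientGroup.eq_one_iff _).mp h3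
    intro h5
    rw [h5, Subgroup.mem_bot] at h4
    have h6 := orderOf_dvd_of_pow_eq_one h4
    rw [hg] at h6
    omega
  have hmin : ∀ L : Subgroup G, L.Normal → L ≤ N → L = ⊥ ∨ L = N := by
    intro L hL hLN
    by_contra hcon
    push Not at hcon
    obtain ⟨hL1, hL2⟩ := hcon
    obtain ⟨t, htN, htL⟩ := exists_order_four h hN2 hcomm hsq e hLN hL2
    have hLtop : (L.subgroupOf ⊤) ≠ ⊥ := by
      intro h1
      apply hL1
      rw [Subgroup.eq_bot_iff_forall]
      intro x hx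
      have h2 : (⟨x, trivial⟩ : (⊤ : Subgroup G)) ∈ L.subgroupOf ⊤ := hx
      rw [h1, Subgroup.mem_bot] at h2
      exact congrArg Subtype.val h2
    have hcr := hcrit ⊤ (L.subgroupOf ⊤) (Or.inr hLtop)
    apply hcr
    rw [hset]
    let π : G →* (↥(⊤ : Subgroup G) ⧸ L.subgroupOf ⊤) :=
      (QuotientGroup.mk' (L.subgroupOf ⊤)).comp
        ((Subgroup.topEquiv.symm : G ≃* (⊤ : Subgroup G)) : G →* (⊤ : Subgroup G))
    have hπs : Function.Surjective π :=
      (QuotientGroup.mk'_surjective _).comp Subgroup.topEquiv.symm.surjective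
    have hπ1 : ∀ g, π g = 1 ↔ g ∈ L := fun g => QuotientGroup.eq_one_iff _
    have hodd : ∀ g : G, ∀ p : ℕ, p.Prime → p ≠ 2 → orderOf g = p → orderOf (π g) = p := by
      intro g p hp hp2 hg
      have h1 : orderOf (π g) ∣ p := by rw [← hg]; exact orderOf_map_dvd π g
      rcases (Nat.dvd_prime hp).mp h1 with h2 | h2
      · exfalso
        rw [orderOf_eq_one_iff, hπ1] at h2
        have h3 := hsq g (hLN h2)
        rw [← pow_two] at h3
        have h4 := orderOf_dvd_of_pow_eq_one h3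
        rw [hg] at h4
        exact hp2 ((Nat.prime_dvd_prime_iff_eq hp Nat.prime_two).mp h4)
      · exact h2
    have h4 : orderOf (π t) = 4 := by
      have h1 : orderOf (π t) ∣ 2 ^ 2 := by
        apply orderOf_dvd_of_pow_eq_one
        rw [← map_pow]
        have h2 : t ^ (2 ^ 2) = 1 := by
          rw [show (2 : ℕ) ^ 2 = 2 + 2 by norm_num, pow_add, pow_two]
          exact hsq _ htN
        rw [h2, map_one]
      obtain ⟨k, hk, hk2⟩ := (Nat.dvd_prime_pow Nat.prime_two).mp h1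
      have h3 : ¬ k ≤ 1 := by
        intro h3
        apply htL
        rw [← hπ1, ← pow_two, map_pow]
        apply orderOf_dvd_iff_pow_eq_one.mp
        rw [hk2]
        exact (pow_dvd_pow 2 h3).trans (by norm_num)
      have h5 : k = 2 := by omega
      rw [hk2, h5]
      norm_num
    ext k
    constructor
    · rintro ⟨q, rfl⟩
      obtain ⟨g, rfl⟩ := hπs q
      exact ⟨orderOf_pos _, (Nat.le_of_dvd (orderOf_pos g) (orderOf_map_dvd π g)).trans (h5 g)⟩
    · rintro ⟨hk1, hk5⟩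
      have hk : k = 1 ∨ k = 2 ∨ k = 3 ∨ k = 4 ∨ k = 5 := by omega
      rcases hk with rfl | rfl | rfl | rfl | rfl
      · exact ⟨1, orderOf_one⟩
      · refine ⟨π t ^ 2, ?_⟩
        rw [orderOf_pow, h4]
        norm_num
      · obtain ⟨g, hg⟩ := hex 3 (by norm_num)
        exact ⟨π g, hodd g 3 Nat.prime_three (by norm_num) hg⟩
      · exact ⟨π t, h4⟩
      · obtain ⟨g, hg⟩ := hex 5 (by norm_num)
        exact ⟨π g, hodd g 5 Nat.prime_five (by norm_num) hg⟩
  exact ⟨K, inferInstance, inferInstance, hK, critical_iso h hN2 hcomm hsq hNne hmin hK E⟩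

end H11.Eppo
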