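import Mathlib
import Cfsg.Prelude.Def_CaseTheorems
import Cfsg.Agent.Lib.H11.FourConn

set_option autoImplicit false

/-!
The 2-generated core and connectivity of the commuting graph on four-subgroups.
-/

namespace H11.FourCore

open Subgroup H11.SubnormalJoin H11.FourConn
open scoped Pointwise

universe u v

/-- a `p`-subgroup `A` of `M ≥ S` (`S` Sylow) is contained in an `M`-conjugate of `S` -/
theorem exists_conj_le_of_sylow_le {G : Type u} [Group G] [Finite G] {p : ℕ} [Fact p.Prime]
    (S : Sylow p G) (M : Subgroup G) (hSM : (S : Subgroup G) ≤ M) (A : Subgroup G)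
    (hA : IsPGroup p A) (hAM : A ≤ M) : ∃ m ∈ M, A ≤ MulAut.conj m • (S : Subgroup G) := by
  have h1 : IsPGroup p (A.subgroupOf M) := hA.comap_subtype
  obtain ⟨T, hT⟩ := h1.exists_le_sylow
  obtain ⟨m, hm⟩ := MulAction.exists_smul_eq M (S.subtype hSM) T
  refine ⟨(m : G), m.2, ?_⟩
  intro a ha
  have h2 : (⟨a, hAM ha⟩ : M) ∈ (T : Subgroup M) := hT (by rw [mem_subgroupOf]; exact ha)
  rw [← hm] at h2
  have h3 : ((m • S.subtype hSM : Sylow p M) : Subgroup M) =
      MulAut.conj m • ((S : Subgroup G).subgroupOf M) := rfl
  rw [h3, Subgroup.conj_smul_subgroupOf hSM m, mem_subgroupOf] at h2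
  exact h2

/-- transport of a chain under conjugation -/
theorem rtg_conj {G : Type u} [Group G] (g : G) {A B : Subgroup G}
    (h : Relation.ReflTransGen (Rel (S := G)) A B) :
    Relation.ReflTransGen (Rel (S := G)) (MulAut.conj g • A) (MulAut.conj g • B) := by
  induction h with
  | refl => exact .refl
  | tail _ h2 ih =>
    rename_i B C _
    refine ih.tail ⟨isKleinFour_conj h2.1 g, isKleinFour_conj h2.2.1 g, ?_⟩
    intro a ha b hb
    rw [Subgroup.mem_pointwise_smul_iff_inv_smul_mem] at ha hb
    have ha' : g⁻¹ * a * g ∈ B := by simpa [MulAut.smul_def] using ha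
    have hb' : g⁻¹ * b * g ∈ C := by simpa [MulAut.smul_def] using hb
    have h3 := h2.2.2 _ ha' _ hb'
    calc a * b = g * ((g⁻¹ * a * g) * (g⁻¹ * b * g)) * g⁻¹ := by group
      _ = g * ((g⁻¹ * b * g) * (g⁻¹ * a * g)) * g⁻¹ := by rw [h3]
      _ = b * a := by group

theorem rtg_map {G : Type u} {H : Type v} [Group G] [Group H] {f : H →* G}
    (hf : Function.Injective f) {A B : Subgroup H} (h : Relation.ReflTransGen (Rel (S := H)) A B) :
    Relation.ReflTransGen (Rel (S := G)) (A.map f) (B.map f) := by
  induction h with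
  | refl => exact .refl
  | tail _ h2 ih =>
    refine ih.tail ⟨isKleinFour_map hf h2.1, isKleinFour_map hf h2.2.1, ?_⟩
    rintro _ ⟨a, ha, rfl⟩ _ ⟨b, hb, rfl⟩
    rw [← map_mul, ← map_mul, h2.2.2 a ha b hb]

theorem core_iff {G : Type u} [Group G] [Finite G] (h2 : ¬ Cfsg.PRankLE 2 1 G)
    (S : Sylow 2 G) (hS : Cfsg.IsFourConnected (S : Subgroup G)) :
    ¬ Cfsg.IsFourConnected G ↔
      (⨆ Q : {Q : Subgroup G // Q ≤ (S : Subgroup G) ∧ ¬ Cfsg.PRankLE 2 1 Q},
          Subgroup.normalizer ((Q : Subgroup G) : Set G)) ≠ ⊤ := by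
  have hf : Fact (Nat.Prime 2) := ⟨Nat.prime_two⟩
  set M := (⨆ Q : {Q : Subgroup G // Q ≤ (S : Subgroup G) ∧ ¬ Cfsg.PRankLE 2 1 Q},
          Subgroup.normalizer ((Q : Subgroup G) : Set G)) with hM
  have hNM : ∀ Q : Subgroup G, Q ≤ (S : Subgroup G) → (∃ V ≤ Q, IsKleinFour V) →
      normalizer (Q : Set G) ≤ M := by
    intro Q hQS hQV
    exact le_iSup (fun Q : {Q : Subgroup G // Q ≤ (S : Subgroup G) ∧ ¬ Cfsg.PRankLE 2 1 Q} =>
      Subgroup.normalizer ((Q : Subgroup G) : Set G)) ⟨Q, hQS, (not_pRankLE_subgroup_iff Q).mpr hQV⟩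
  -- a four-group in S
  obtain ⟨V0, hV0⟩ := not_pRankLE_iff.mp h2
  obtain ⟨g0, -, hg0⟩ := exists_conj_le_of_sylow_le S ⊤ le_top V0 (isPGroup_of_isKleinFour hV0) le_top
  set U := MulAut.conj g0⁻¹ • V0 with hU
  have hUk : IsKleinFour U := isKleinFour_conj hV0 _
  have hUS : U ≤ (S : Subgroup G) := by
    rw [hU, map_inv, Subgroup.pointwise_smul_subset_iff, inv_inv]; exact hg0
  clear_value U
  have hSM : (S : Subgroup G) ≤ M := Subgroup.le_normalizer.trans (hNM S le_rfl ⟨U, hUS, hUk⟩)
  -- four-groups inside S are connected in G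
  have hSconn : ∀ A B : Subgroup G, A ≤ (S : Subgroup G) → B ≤ (S : Subgroup G) → IsKleinFour A →
      IsKleinFour B → Relation.ReflTransGen (Rel (S := G)) A B := by
    intro A B hAS hBS hA hB
    have h1 := hS (A.subgroupOf S) (B.subgroupOf S) (isKleinFour_subgroupOf hAS hA)
      (isKleinFour_subgroupOf hBS hB)
    have h3 := rtg_map (S : Subgroup G).subtype_injective h1
    rwa [subgroupOf_map_subtype, subgroupOf_map_subtype, inf_eq_left.mpr hAS, inf_eq_left.mpr hBS] at h3
  rw [not_iff_comm, not_ne_iff]
  constructor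
  · -- M = ⊤ → connected
    intro hMt
    let C : Subgroup G :=
      { carrier := {g | Relation.ReflTransGen (Rel (S := G)) U (MulAut.conj g • U)}
        mul_mem' := by
          intro a b ha hb
          have h1 := rtg_conj a (show Relation.ReflTransGen (Rel (S := G)) U (MulAut.conj b • U) from hb)
          rw [← mul_smul, ← map_mul] at h1
          exact Relation.ReflTransGen.trans ha h1
        one_mem' := by
          change Relation.ReflTransGen (Rel (S := G)) U (MulAut.conj (1 : G) • U)
          rw [map_one, one_smul]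
        inv_mem' := by
          intro a ha
          have h1 := rtg_conj a⁻¹ (show Relation.ReflTransGen (Rel (S := G)) U (MulAut.conj a • U) from ha)
          rw [← mul_smul, ← map_mul, inv_mul_cancel, map_one, one_smul] at h1
          exact rtg_symm h1 }
    have hCt : C = ⊤ := by
      rw [eq_top_iff, ← hMt]
      refine iSup_le ?_
      rintro ⟨Q, hQS, hQ⟩
      obtain ⟨V, hVQ, hV⟩ := (not_pRankLE_subgroup_iff Q).mp hQ
      intro g hg
      change Relation.ReflTransGen (Rel (S := G)) U (MulAut.conj g • U)
      have h1 := hSconn U V hUS (hVQ.trans hQS) hUk hV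
      have h3 : MulAut.conj g • V ≤ (S : Subgroup G) := by
        refine le_trans ?_ hQS
        have hg' : g ∈ normalizer (Q : Set G) := hg
        rw [← mem_normalizer_iff_conj.mp hg']
        exact Subgroup.pointwise_smul_le_pointwise_smul_iff.mpr hVQ
      have h4 := hSconn U (MulAut.conj g • V) hUS h3 hUk (isKleinFour_conj hV g)
      exact h4.trans (rtg_symm (rtg_conj g h1))
    have hall : ∀ A : Subgroup G, IsKleinFour A → Relation.ReflTransGen (Rel (S := G)) U A := by
      intro A hA
      obtain ⟨g, -, hg⟩ := exists_conj_le_of_sylow_le S ⊤ le_top A (isPGroup_of_isKleinFour hA) le_top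
      have h1 : MulAut.conj g⁻¹ • A ≤ (S : Subgroup G) := by
        rw [map_inv, Subgroup.pointwise_smul_subset_iff, inv_inv]; exact hg
      have h3 := rtg_conj g (hSconn U _ hUS h1 hUk (isKleinFour_conj hA _))
      rw [← mul_smul, ← map_mul, mul_inv_cancel, map_one, one_smul] at h3
      have h4 : g ∈ C := by rw [hCt]; trivial
      exact Relation.ReflTransGen.trans h4 h3
    rw [isFourConnected_iff]
    intro A B hA hB
    exact (rtg_symm (hall A hA)).trans (hall B hB)
  · -- connected → M = ⊤
    intro hconn
    rw [isFourConnected_iff] at hconn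
    -- every four-group lies in an M-conjugate of S
    have hD : ∀ V : Subgroup G, IsKleinFour V → ∃ m ∈ M, V ≤ MulAut.conj m • (S : Subgroup G) := by
      intro V hV
      have h1 := hconn U V hUk hV
      clear hV
      induction h1 with
      | refl => exact ⟨1, one_mem _, by rw [map_one, one_smul]; exact hUS⟩
      | tail _ hr ih =>
        rename_i B C' _
        obtain ⟨m, hm, hBm⟩ := ih
        -- C' centralizes B
        have h3 : MulAut.conj m⁻¹ • B ≤ (S : Subgroup G) := by
          rw [map_inv, Subgroup.pointwise_smul_subset_iff, inv_inv]; exact hBm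
        have h4 := hNM _ h3 ⟨_, le_rfl, isKleinFour_conj hr.1 m⁻¹⟩
        have h5 : C' ≤ M := by
          intro c hc
          have h6 : m⁻¹ * c * m ∈ normalizer ((MulAut.conj m⁻¹ • B : Subgroup G) : Set G) := by
            apply Subgroup.centralizer_le_normalizer
            rw [Subgroup.mem_centralizer_iff]
            intro x hx
            rw [SetLike.mem_coe, Subgroup.mem_pointwise_smul_iff_inv_smul_mem] at hx
            have hx' : m * x * m⁻¹ ∈ B := by simpa [MulAut.smul_def] using hx
            have h7 := hr.2.2 _ hx' c hc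
            calc x * (m⁻¹ * c * m) = m⁻¹ * ((m * x * m⁻¹) * c) * m := by group
              _ = m⁻¹ * (c * (m * x * m⁻¹)) * m := by rw [h7]
              _ = m⁻¹ * c * m * x := by group
          have h8 := h4 h6
          have h9 : c = m * (m⁻¹ * c * m) * m⁻¹ := by group
          rw [h9]
          exact mul_mem (mul_mem hm h8) (inv_mem hm)
        exact exists_conj_le_of_sylow_le S M hSM C' (isPGroup_of_isKleinFour hr.2.1) h5
    -- the intersection argument
    have hI : ∀ k : ℕ, ∀ y : G, (∃ V : Subgroup G, IsKleinFour V ∧ V ≤ (S : Subgroup G) ⊓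
        (MulAut.conj y • (S : Subgroup G))) →
        Nat.card G - Nat.card ((S : Subgroup G) ⊓ (MulAut.conj y • (S : Subgroup G)) : Subgroup G) = k →
        y ∈ M := by
      intro k
      induction k using Nat.strong_induction_on with
      | _ k ih =>
        rintro y ⟨V, hV, hVS⟩ hk
        set D := (S : Subgroup G) ⊓ (MulAut.conj y • (S : Subgroup G)) with hDdef
        have hNDM : normalizer (D : Set G) ≤ M := hNM D inf_le_left ⟨V, hVS, hV⟩
        set T := MulAut.conj y • (S : Subgroup G) with hT
        have hTc : Nat.card T = Nat.card (S : Subgroup G) :=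
          (Nat.card_congr (Subgroup.equivSMul (MulAut.conj y) (S : Subgroup G)).toEquiv).symm
        by_cases hDT : D = T
        · -- then T = S
          have h1 : T ≤ (S : Subgroup G) := hDT ▸ inf_le_left
          have h3 : T = (S : Subgroup G) := Subgroup.eq_of_le_of_card_ge h1 hTc.ge
          exact hNM S le_rfl ⟨U, hUS, hUk⟩ (mem_normalizer_iff_conj.mpr h3)
        · have hTp : IsPGroup 2 T := S.isPGroup'.map _
          have hTn : Group.IsNilpotent T := hTp.isNilpotent
          have hDleT : D ≤ T := inf_le_right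
          have h1 : D.subgroupOf T < ⊤ := by
            rw [lt_top_iff_ne_top, Ne, Subgroup.subgroupOf_eq_top]
            intro h; exact hDT (le_antisymm hDleT h)
          have h3 := Group.normalizerCondition_of_isNilpotent _ h1
          obtain ⟨x, hx, hxD⟩ := SetLike.exists_of_lt h3
          have hxN : (x : G) ∈ normalizer (D : Set G) := by
            rw [Subgroup.mem_normalizer_iff] at hx ⊢
            intro z
            constructor
            · intro hz
              have := (hx ⟨z, hDleT hz⟩).mp (by rw [mem_subgroupOf]; exact hz)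
              exact mem_subgroupOf.mp this
            · intro hz
              have hzT : z ∈ T := by
                have h12 : (x : G) * z * (x : G)⁻¹ ∈ T := hDleT hz
                have : z = (x : G)⁻¹ * ((x : G) * z * (x : G)⁻¹) * x := by group
                rw [this]
                exact mul_mem (mul_mem (inv_mem x.2) h12) x.2
              have := (hx ⟨z, hzT⟩).mpr (by rw [mem_subgroupOf]; exact hz)
              exact mem_subgroupOf.mp this
          set A := T ⊓ normalizer (D : Set G) with hA
          have hDA : D < A := by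
            refine lt_of_le_of_ne (le_inf hDleT Subgroup.le_normalizer) ?_
            intro he
            apply hxD
            rw [mem_subgroupOf, he]
            exact ⟨x.2, hxN⟩
          have hAM : A ≤ M := inf_le_right.trans hNDM
          obtain ⟨m, hm, hAm⟩ := exists_conj_le_of_sylow_le S M hSM A (hTp.to_le inf_le_left) hAM
          have h4 : MulAut.conj m⁻¹ • A ≤ (S : Subgroup G) ⊓ (MulAut.conj (m⁻¹ * y) • (S : Subgroup G)) := by
            refine le_inf ?_ ?_
            · rw [map_inv, Subgroup.pointwise_smul_subset_iff, inv_inv]; exact hAm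
            · rw [map_mul, mul_smul]
              exact Subgroup.pointwise_smul_le_pointwise_smul_iff.mpr inf_le_left
          have h5 : Nat.card D < Nat.card ((S : Subgroup G) ⊓
              (MulAut.conj (m⁻¹ * y) • (S : Subgroup G)) : Subgroup G) := by
            have h6 : Nat.card D < Nat.card A := by
              refine lt_of_le_of_ne (Subgroup.card_le_of_le hDA.le) ?_
              intro h
              exact hDA.ne (Subgroup.eq_of_le_of_card_ge hDA.le h.ge)
            have h7 : Nat.card (MulAut.conj m⁻¹ • A : Subgroup G) = Nat.card A :=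
              (Nat.card_congr (Subgroup.equivSMul (MulAut.conj m⁻¹) A).toEquiv).symm
            rw [← h7] at h6
            exact lt_of_lt_of_le h6 (Subgroup.card_le_of_le h4)
          have h6 : Nat.card ((S : Subgroup G) ⊓
              (MulAut.conj (m⁻¹ * y) • (S : Subgroup G)) : Subgroup G) ≤ Nat.card G :=
            Nat.le_of_dvd Nat.card_pos (Subgroup.card_subgroup_dvd_card _)
          have h7 := ih _ (by omega) (m⁻¹ * y) ⟨MulAut.conj m⁻¹ • V, isKleinFour_conj hV _,
            le_trans (Subgroup.pointwise_smul_le_pointwise_smul_iff.mpr (hVS.trans hDA.le)) h4⟩ rfl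
          have h8 : y = m * (m⁻¹ * y) := by group
          rw [h8]
          exact mul_mem hm h7
    rw [eq_top_iff]
    intro g _
    obtain ⟨m, hm, hgm⟩ := hD (MulAut.conj g • U) (isKleinFour_conj hUk g)
    have h1 : g⁻¹ * m ∈ M := by
      refine hI _ (g⁻¹ * m) ⟨U, hUk, le_inf hUS ?_⟩ rfl
      rw [map_mul, mul_smul, map_inv, Subgroup.subset_pointwise_smul_iff, inv_inv]
      exact hgm
    have h3 : g = m * (g⁻¹ * m)⁻¹ := by group
    rw [h3]
    exact mul_mem hm (inv_mem h1)

end H11.FourCore
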