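import Mathlib
import Cfsg.Agent.Lib.H98.Dickson

set_option autoImplicit false

/-! Subgroups of `GL₂(p)` containing scalars, the quaternion group and its rotations. -/

namespace H11.FrTRa

open Matrix
open scoped H98.Moebius

universe u

lemma dih_no {n : ℕ} (i j c : DihedralGroup n) (hii : i * i = 1) (hij : i * j = j * i) (hne : i ≠ j)
    (hc : c * i = j * c) (hc3 : c * c * c = 1) : False := by
  rcases c with a | b
  · rcases i with x | x
    · rcases j with y | y
      · simp only [DihedralGroup.r_mul_r, DihedralGroup.r.injEq] at hc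
        apply hne
        have : x = y := by
          have h := hc
          rw [add_comm] at h
          exact add_right_cancel h
        rw [this]
      · simp at hc
    · rcases j with y | y
      · simp at hc
      · simp only [DihedralGroup.r_mul_sr, DihedralGroup.sr_mul_r, DihedralGroup.sr.injEq] at hc
        simp only [DihedralGroup.sr_mul_sr, DihedralGroup.r.injEq] at hij
        simp only [DihedralGroup.r_mul_r, DihedralGroup.one_def, DihedralGroup.r.injEq] at hc3
        -- hc : x - a = y + a ; hij : y - x = x - y ; hc3 : a + a + a = 0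
        have h1 : x = y + a + a := by rw [← hc]; abel
        have h2 : a + a + a + a = 0 := by
          have h3 : x - y = a + a := by rw [h1]; abel
          have h4 : y - x = -(a + a) := by rw [h1]; abel
          rw [h3, h4] at hij
          calc a + a + a + a = (a + a) - (-(a + a)) := by abel
            _ = 0 := by rw [hij]; abel
        have h5 : a = 0 := by
          have : a + a + a + a = a := by rw [hc3]; abel
          rw [this] at h2; exact h2
        apply hne
        rw [h1, h5]; simp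
  · exfalso
    rw [DihedralGroup.sr_mul_self, one_mul, DihedralGroup.one_def] at hc3
    cases hc3

lemma a4_no : ∀ x : alternatingGroup (Fin 4), x * x * (x * x) = 1 → x * x = 1 := by decide

set_option maxRecDepth 100000 in
lemma a5_no : ∀ x : alternatingGroup (Fin 5), x * x * (x * x) = 1 → x * x = 1 := by decide

set_option maxRecDepth 100000 in
set_option synthInstance.maxHeartbeats 400000 in
set_option synthInstance.maxSize 1000 in
lemma s4_dec : ∀ a : Equiv.Perm (Fin 4), (a * a = 1 ∧ Equiv.Perm.sign a = 1 ∧ a ≠ 1) →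
    ∀ b : Equiv.Perm (Fin 4), (b * b = 1 ∧ Equiv.Perm.sign b = 1 ∧ b ≠ 1 ∧ b ≠ a) →
    ∀ x : Equiv.Perm (Fin 4), (x * x = 1 ∧ Equiv.Perm.sign x = 1 ∧ x ≠ 1) → x = a ∨ x = b ∨ x = a * b := by decide

lemma s4_norm {G : Type*} [Group G] (f : G ≃* Equiv.Perm (Fin 4)) (i j c : G) (hii : i * i = 1) (hi1 : i ≠ 1)
    (hjj : j * j = 1) (hj1 : j ≠ 1) (hne : i ≠ j) (hc : c * i = j * c)
    (hcj : c * j = i * j * c) (x v : G) (hv : v * v = 1) (hv1 : v ≠ 1) (hv' : v = i ∨ v = j ∨ v = i * j) :
    x * v * x⁻¹ = i ∨ x * v * x⁻¹ = j ∨ x * v * x⁻¹ = i * j := by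
  let ψ : G →* ℤˣ := (Equiv.Perm.sign (α := Fin 4)).comp f.toMonoidHom
  have e1 : ψ i = ψ j := by
    have h := congrArg ψ hc
    rw [map_mul, map_mul, mul_comm] at h
    exact mul_right_cancel h
  have e2 : ψ i = 1 := by
    have h := congrArg ψ hcj
    rw [map_mul, map_mul, map_mul, mul_comm] at h
    have h3 := mul_right_cancel h
    exact (mul_eq_right.mp h3.symm)
  have e3 : ψ j = 1 := by rw [← e1]; exact e2
  have hv3 : ψ v = 1 := by
    rcases hv' with h | h | h
    · rw [h]; exact e2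
    · rw [h]; exact e3
    · rw [h, map_mul, e2, e3, one_mul]
  have hy : (x * v * x⁻¹) * (x * v * x⁻¹) = 1 := by
    calc (x * v * x⁻¹) * (x * v * x⁻¹) = x * (v * v) * x⁻¹ := by group
      _ = 1 := by rw [hv]; group
  have hy1 : x * v * x⁻¹ ≠ 1 := by
    intro h; apply hv1
    calc v = x⁻¹ * (x * v * x⁻¹) * x := by group
      _ = 1 := by rw [h]; group
  have hy3 : ψ (x * v * x⁻¹) = 1 := by
    rw [map_mul, map_mul, hv3, mul_one, ← map_mul, mul_inv_cancel, map_one]
  have key := s4_dec (f i) ⟨by rw [← map_mul, hii, map_one], e2, fun h => hi1 (f.injective (by rw [h, map_one]))⟩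
    (f j) ⟨by rw [← map_mul, hjj, map_one], e3, fun h => hj1 (f.injective (by rw [h, map_one])),
      fun h => hne (f.injective h).symm⟩
    (f (x * v * x⁻¹)) ⟨by rw [← map_mul, hy, map_one], hy3, fun h => hy1 (f.injective (by rw [h, map_one]))⟩
  rw [← map_mul] at key
  exact key.imp (fun h => f.injective h) (fun h => h.imp (fun h => f.injective h) (fun h => f.injective h))

variable {F : Type*} [Field F]

/-- quaternion unit -/
def mI : Matrix (Fin 2) (Fin 2) F := !![0, 1; -1, 0]
/-- quaternion unit -/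
def mJ (α β : F) : Matrix (Fin 2) (Fin 2) F := !![α, β; β, -α]
/-- quaternion unit -/
def mK (α β : F) : Matrix (Fin 2) (Fin 2) F := !![β, -α; -α, -β]

section rel
variable {α β : F} (hab : α * α + β * β = -1)

lemma II : (mI : Matrix (Fin 2) (Fin 2) F) * mI = -1 := by
  ext i j; fin_cases i <;> fin_cases j <;> simp [mI]
include hab in
lemma JJ : mJ α β * mJ α β = -1 := by
  ext i j; fin_cases i <;> fin_cases j <;> simp [mJ] <;> first | ring1 | linear_combination hab | linear_combination (-1:F) * hab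
include hab in
lemma KK : mK α β * mK α β = -1 := by
  ext i j; fin_cases i <;> fin_cases j <;> simp [mK] <;> first | ring1 | linear_combination hab | linear_combination (-1:F) * hab
lemma IJ : mI * mJ α β = mK α β := by
  ext i j; fin_cases i <;> fin_cases j <;> simp [mI, mJ, mK]
lemma JI : mJ α β * mI = - mK α β := by
  ext i j; fin_cases i <;> fin_cases j <;> simp [mI, mJ, mK]
lemma KI : mK α β * mI = mJ α β := by
  ext i j; fin_cases i <;> fin_cases j <;> simp [mI, mJ, mK]
lemma IK : mI * mK α β = - mJ α β := by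
  ext i j; fin_cases i <;> fin_cases j <;> simp [mI, mJ, mK]
include hab in
lemma JK : mJ α β * mK α β = mI := by
  ext i j; fin_cases i <;> fin_cases j <;> simp [mI, mJ, mK] <;> first | ring1 | linear_combination hab | linear_combination (-1:F) * hab
include hab in
lemma KJ : mK α β * mJ α β = - mI := by
  ext i j; fin_cases i <;> fin_cases j <;> simp [mI, mJ, mK] <;> first | ring1 | linear_combination hab | linear_combination (-1:F) * hab
end rel

abbrev pmk : GL (Fin 2) F →* ProjGenLinGroup (Fin 2) F := ProjGenLinGroup.mk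

lemma mk_eq {X Y : GL (Fin 2) F} {c : F} (h : (Y : Matrix (Fin 2) (Fin 2) F) = c • (X : Matrix (Fin 2) (Fin 2) F)) :
    pmk X = pmk Y := by
  have hc : c ≠ 0 := by
    rintro rfl
    rw [zero_smul] at h
    exact Y.ne_zero h
  rw [ProjGenLinGroup.mk_eq_mk_iff]
  refine ⟨Units.mk0 c hc, Units.ext ?_⟩
  rw [Units.val_mul, GeneralLinearGroup.coe_scalar, h]
  ext i j; fin_cases i <;> fin_cases j <;> simp [mul_comm]

lemma of_mk_eq {X Y : GL (Fin 2) F} (h : pmk X = pmk Y) :
    ∃ c : F, c ≠ 0 ∧ (Y : Matrix (Fin 2) (Fin 2) F) = c • (X : Matrix (Fin 2) (Fin 2) F) := by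
  rw [ProjGenLinGroup.mk_eq_mk_iff] at h
  obtain ⟨u, hu⟩ := h
  refine ⟨u, u.ne_zero, ?_⟩
  rw [← hu, Units.val_mul, GeneralLinearGroup.coe_scalar]
  ext i j; fin_cases i <;> fin_cases j <;> simp [mul_comm]

/-- the main dichotomy for subgroups of `GL₂(p)` -/
theorem dick [Fintype F] (hp : (Fintype.card F).Prime) (h2 : (2:F) ≠ 0) {α β : F} (hab : α * α + β * β = -1)
    (H : Subgroup (GL (Fin 2) F))
    (hs : ∀ A B : GL (Fin 2) F, ∀ c : F, A ∈ H → (B : Matrix (Fin 2) (Fin 2) F) = c • (A : Matrix (Fin 2) (Fin 2) F) → B ∈ H)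
    (hI : ∃ A ∈ H, (A : Matrix (Fin 2) (Fin 2) F) = mI) (hJ : ∃ A ∈ H, (A : Matrix (Fin 2) (Fin 2) F) = mJ α β)
    (hC : ∃ A ∈ H, (A : Matrix (Fin 2) (Fin 2) F) = 1 + mI + mJ α β + mK α β)
    (hT : ∃ A ∈ H, (A : Matrix (Fin 2) (Fin 2) F) = 1 + mK α β) :
    (∀ A : GL (Fin 2) F, (A : Matrix (Fin 2) (Fin 2) F).det = 1 → A ∈ H) ∨
    (∀ A ∈ H, ∀ B : Matrix (Fin 2) (Fin 2) F, (B = mI ∨ B = mJ α β ∨ B = mK α β) →
      ∃ (l : F) (B' : Matrix (Fin 2) (Fin 2) F), l ≠ 0 ∧ (B' = mI ∨ B' = mJ α β ∨ B' = mK α β) ∧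
        (A : Matrix (Fin 2) (Fin 2) F) * B = l • (B' * (A : Matrix (Fin 2) (Fin 2) F))) := by
  classical
  obtain ⟨AI, hAI, eI⟩ := hI
  obtain ⟨AJ, hAJ, eJ⟩ := hJ
  obtain ⟨AC, hAC, eC⟩ := hC
  obtain ⟨AT, hAT, eT⟩ := hT
  have : Fact (Fintype.card F).Prime := ⟨hp⟩
  have : CharP F (Fintype.card F) := by
    obtain ⟨q, hq⟩ := CharP.exists F
    obtain ⟨n, hq1, hn⟩ := FiniteField.card F q
    have : q = Fintype.card F := by
      have h1 : q ∣ Fintype.card F := by rw [hn]; exact dvd_pow_self q n.pos.ne'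
      exact (Nat.prime_dvd_prime_iff_eq hq1 hp).mp h1
    rw [← this]; exact hq
  let Hb : Subgroup (ProjGenLinGroup (Fin 2) F) := H.map pmk
  have : Finite (ProjGenLinGroup (Fin 2) F) := Finite.of_surjective _ ProjGenLinGroup.mk_surjective
  have memH : ∀ A : GL (Fin 2) F, pmk A ∈ Hb → A ∈ H := by
    intro A hA
    obtain ⟨B, hB, hBA⟩ := Subgroup.mem_map.mp hA
    obtain ⟨c, -, hc⟩ := of_mk_eq hBA
    exact hs B A c hB hc
  have memHb : ∀ A : GL (Fin 2) F, A ∈ H → pmk A ∈ Hb := fun A hA => Subgroup.mem_map_of_mem _ hA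
  -- relations
  have r1 : pmk AI * pmk AI = 1 := by
    rw [← map_mul, ← map_one pmk]
    exact (mk_eq (c := -1) (by rw [Units.val_mul, eI, II]; simp)).symm
  have r2 : pmk AJ * pmk AJ = 1 := by
    rw [← map_mul, ← map_one pmk]
    exact (mk_eq (c := -1) (by rw [Units.val_mul, eJ, JJ hab]; simp)).symm
  have r3 : pmk AI * pmk AJ = pmk AJ * pmk AI := by
    rw [← map_mul, ← map_mul]
    exact (mk_eq (c := -1) (by rw [Units.val_mul, Units.val_mul, eI, eJ, IJ, JI]; simp))
  have r4 : pmk AC * pmk AI = pmk AJ * pmk AC := by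
    rw [← map_mul, ← map_mul]
    congr 1
    apply Units.ext
    rw [Units.val_mul, Units.val_mul, eI, eJ, eC]
    simp only [add_mul, mul_add, one_mul, mul_one, II, JJ hab, IJ, JI, KI, JK hab]
    abel
  have r5 : pmk AC * pmk AJ = pmk AI * pmk AJ * pmk AC := by
    rw [← map_mul, ← map_mul, ← map_mul]
    congr 1
    apply Units.ext
    rw [Units.val_mul, Units.val_mul, Units.val_mul, eI, eJ, eC, IJ]
    simp only [add_mul, mul_add, one_mul, mul_one, II, JJ hab, IJ, JI, KI, JK hab, KJ hab, KK hab]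
    abel
  have r6 : pmk AC * pmk AC * pmk AC = 1 := by
    rw [← map_mul, ← map_mul, ← map_one pmk]
    refine (mk_eq (c := -8) ?_).symm
    rw [Units.val_mul, Units.val_mul, eC]
    have h1 : (1 + mI + mJ α β + mK α β) * (1 + mI + mJ α β + mK α β) = (-2 : F) • 1 + (2 : F) • mI + (2 : F) • mJ α β + (2 : F) • mK α β := by
      simp only [add_mul, mul_add, one_mul, mul_one, II, JJ hab, IJ, JI, KI, IK, JK hab, KJ hab, KK hab, two_smul, neg_smul]
      abel
    rw [h1]
    simp only [add_mul, mul_add, one_mul, mul_one, II, JJ hab, IJ, JI, KI, IK, JK hab, KJ hab, KK hab, smul_mul_assoc, smul_neg]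
    rw [Units.val_one]
    module
  have r7 : pmk AT * pmk AT = pmk AI * pmk AJ := by
    rw [← map_mul, ← map_mul]
    refine (mk_eq (c := 2) ?_).symm
    rw [Units.val_mul, Units.val_mul, eT, eI, eJ, IJ]
    simp only [add_mul, mul_add, one_mul, mul_one, KK hab]
    module
  have hne1 : pmk AI ≠ 1 := by
    intro h
    rw [← map_one pmk] at h
    obtain ⟨c, -, hc⟩ := of_mk_eq h.symm
    rw [eI, Units.val_one] at hc
    have := congrFun (congrFun hc 0) 1
    simp [mI] at this
  have hab0 : ¬ (α = 0 ∧ β = 0) := by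
    rintro ⟨h, h'⟩
    rw [h, h'] at hab
    simp at hab
  have hz : ∀ x : F, x = - x → x = 0 := by
    intro x hx
    have : 2 * x = 0 := by linear_combination hx
    exact (mul_eq_zero.mp this).resolve_left h2
  have hne2 : pmk AI ≠ pmk AJ := by
    intro h
    obtain ⟨c, -, hc⟩ := of_mk_eq h
    rw [eI, eJ] at hc
    have h00 := congrFun (congrFun hc 0) 0
    have h01 := congrFun (congrFun hc 0) 1
    have h10 := congrFun (congrFun hc 1) 0
    simp [mI, mJ] at h00 h01 h10
    exact hab0 ⟨h00, hz β (by linear_combination h10 + h01)⟩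
  have hne3 : pmk AJ ≠ 1 := by
    intro h
    rw [← map_one pmk] at h
    obtain ⟨c, -, hc⟩ := of_mk_eq h.symm
    rw [eJ, Units.val_one] at hc
    have h00 := congrFun (congrFun hc 0) 0
    have h01 := congrFun (congrFun hc 0) 1
    have h11 := congrFun (congrFun hc 1) 1
    simp [mJ] at h00 h01 h11
    exact hab0 ⟨hz α (by rw [h11, h00]), h01⟩
  have hne4 : pmk AI * pmk AJ ≠ 1 := by
    intro h
    apply hne2
    calc pmk AI = pmk AI * (pmk AJ * pmk AJ) := by rw [r2, mul_one]
      _ = pmk AJ := by rw [← mul_assoc, h, one_mul]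
  let i : Hb := ⟨pmk AI, memHb _ hAI⟩
  let j : Hb := ⟨pmk AJ, memHb _ hAJ⟩
  let c : Hb := ⟨pmk AC, memHb _ hAC⟩
  let t : Hb := ⟨pmk AT, memHb _ hAT⟩
  have s1 : i * i = 1 := Subtype.ext r1
  have s2 : j * j = 1 := Subtype.ext r2
  have s3 : i * j = j * i := Subtype.ext r3
  have s4 : c * i = j * c := Subtype.ext r4
  have s5 : c * j = i * j * c := Subtype.ext r5
  have s6 : c * c * c = 1 := Subtype.ext r6
  have s7 : t * t = i * j := Subtype.ext r7
  have n1 : i ≠ 1 := fun h => hne1 (congrArg Subtype.val h)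
  have n2 : i ≠ j := fun h => hne2 (congrArg Subtype.val h)
  have n3 : j ≠ 1 := fun h => hne3 (congrArg Subtype.val h)
  have n4 : i * j ≠ 1 := fun h => hne4 (congrArg Subtype.val h)
  have s8 : t * t * (t * t) = 1 := by
    rw [s7]
    calc i * j * (i * j) = i * j * (j * i) := by rw [s3]
      _ = i * (j * j) * i := by group
      _ = 1 := by rw [s2, mul_one, s1]
  have n5 : t * t ≠ 1 := by rw [s7]; exact n4
  rcases H98.Dickson.dickson_pgl (Fintype.card F) Hb.subtype Hb.subtype_injective with ⟨-, hcyc⟩ | ⟨c', -, -, -, ⟨f⟩⟩ |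
    ⟨-, x₀, hfix, -⟩ | ⟨-, -, ⟨f⟩⟩ | ⟨-, -, ⟨f⟩⟩ | ⟨-, -, ⟨f⟩⟩ | ⟨P, K, h, hK, hcase⟩
  · exfalso
    obtain ⟨g, hg⟩ := hcyc.exists_generator
    have hcomm : c * i = i * c := by
      obtain ⟨m, hm⟩ := Subgroup.mem_zpowers_iff.mp (hg c)
      obtain ⟨n, hn⟩ := Subgroup.mem_zpowers_iff.mp (hg i)
      rw [← hm, ← hn, ← _root_.zpow_add, ← _root_.zpow_add, add_comm]
    apply n2
    have h := s4
    rw [hcomm] at h
    exact mul_right_cancel h
  · exfalso
    exact dih_no (f i) (f j) (f c) (by rw [← map_mul, s1, map_one]) (by rw [← map_mul, s3, map_mul])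
      (fun h => n2 (f.injective h)) (by rw [← map_mul, s4, map_mul]) (by rw [← map_mul, ← map_mul, s6, map_one])
  · exfalso
    have f1 : AI • x₀ = x₀ := hfix i
    have f2 : AJ • x₀ = x₀ := hfix j
    cases x₀ with
    | infty =>
      rw [OnePoint.smul_infty_eq_self_iff, eI] at f1
      simp [mI] at f1
    | coe z =>
      rw [OnePoint.smul_some_eq_ite, eI] at f1
      rw [OnePoint.smul_some_eq_ite, eJ] at f2
      simp [mI, mJ] at f1 f2
      have hz0 : z ≠ 0 := by
        intro h0; rw [if_pos h0] at f1; exact OnePoint.infty_ne_coe _ f1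
      rw [if_neg hz0] at f1
      have g1 : -z⁻¹ = z := OnePoint.coe_injective f1
      have hw0 : β * z + -α ≠ 0 := by
        intro h0; rw [if_pos h0] at f2; exact OnePoint.infty_ne_coe _ f2
      rw [if_neg hw0] at f2
      have g2 : (α * z + β) / (β * z + -α) = z := OnePoint.coe_injective f2
      rw [div_eq_iff hw0] at g2
      have g3 : z * z = -1 := by
        have : z * z⁻¹ = 1 := mul_inv_cancel₀ hz0
        linear_combination (-z) * g1 - this
      have g4 : α * z = - β := by
        have h5 : 2 * (α * z + β) = 0 := by linear_combination g2 + β * g3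
        have h6 := (mul_eq_zero.mp h5).resolve_left h2
        linear_combination h6
      have g5 : (1 : F) = 0 := by
        linear_combination hab - α * α * g3 + (α * z - β) * g4
      exact one_ne_zero g5
  · exfalso
    have h := a4_no (f t) (by rw [← map_mul, ← map_mul, s8, map_one])
    rw [← map_mul] at h
    exact n5 (f.injective (by rw [h, map_one]))
  · right
    intro A hA B hB
    obtain ⟨AB, hAB, eB, hv⟩ : ∃ AB ∈ H, (AB : Matrix (Fin 2) (Fin 2) F) = B ∧ (pmk AB = pmk AI ∨ pmk AB = pmk AJ ∨ pmk AB = pmk AI * pmk AJ) := by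
      rcases hB with rfl | rfl | rfl
      · exact ⟨AI, hAI, eI, Or.inl rfl⟩
      · exact ⟨AJ, hAJ, eJ, Or.inr (Or.inl rfl)⟩
      · exact ⟨AI * AJ, mul_mem hAI hAJ, by rw [Units.val_mul, eI, eJ, IJ], Or.inr (Or.inr (map_mul _ _ _))⟩
    let v : Hb := ⟨pmk AB, memHb _ hAB⟩
    let x : Hb := ⟨pmk A, memHb _ hA⟩
    have hv' : v = i ∨ v = j ∨ v = i * j := hv.imp (fun h => Subtype.ext h) (fun h => h.imp (fun h => Subtype.ext h) (fun h => Subtype.ext h))
    have hvv : v * v = 1 := by
      rcases hv' with h | h | h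
      · rw [h, s1]
      · rw [h, s2]
      · rw [h, ← s7, s8]
    have hv1 : v ≠ 1 := by
      rcases hv' with h | h | h
      · rw [h]; exact n1
      · rw [h]; exact n3
      · rw [h]; exact n4
    have key := s4_norm f i j c s1 n1 s2 n3 n2 s4 s5 x v hvv hv1 hv'
    have fin : ∀ (W : GL (Fin 2) F), pmk A * pmk AB * (pmk A)⁻¹ = pmk W → ∃ l : F, l ≠ 0 ∧
        (A : Matrix (Fin 2) (Fin 2) F) * B = l • ((W : Matrix (Fin 2) (Fin 2) F) * (A : Matrix (Fin 2) (Fin 2) F)) := by
      intro W hW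
      have h1 : pmk (W * A) = pmk (A * AB) := by
        rw [map_mul, map_mul, ← hW]; group
      obtain ⟨l, hl, hl'⟩ := of_mk_eq h1
      exact ⟨l, hl, by rw [← eB, ← Units.val_mul, hl', Units.val_mul]⟩
    rcases key with k | k | k
    · obtain ⟨l, hl, hl'⟩ := fin AI (congrArg Subtype.val k)
      exact ⟨l, mI, hl, Or.inl rfl, by rw [hl', eI]⟩
    · obtain ⟨l, hl, hl'⟩ := fin AJ (congrArg Subtype.val k)
      exact ⟨l, mJ α β, hl, Or.inr (Or.inl rfl), by rw [hl', eJ]⟩
    · obtain ⟨l, hl, hl'⟩ := fin (AI * AJ) ((congrArg Subtype.val k).trans (map_mul _ _ _).symm)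
      exact ⟨l, mK α β, hl, Or.inr (Or.inr rfl), by rw [hl', Units.val_mul, eI, eJ, IJ]⟩
  · exfalso
    have h := a5_no (f t) (by rw [← map_mul, ← map_mul, s8, map_one])
    rw [← map_mul] at h
    exact n5 (f.injective (by rw [h, map_one]))
  · left
    intro A hA
    apply memH
    have hKtop : ∀ x : F, x ∈ K := by
      intro x
      have : K.toAddSubgroup = ⊤ := by
        haveI : Fact (Nat.card F).Prime := ⟨by rw [Nat.card_eq_fintype_card]; exact hp⟩
        rcases AddSubgroup.eq_bot_or_eq_top_of_prime_card K.toAddSubgroup with h | h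
        · exfalso
          have h1 : (1 : F) ∈ K.toAddSubgroup := K.one_mem
          rw [h, AddSubgroup.mem_bot] at h1
          exact one_ne_zero h1
        · exact h
      have h1 : x ∈ K.toAddSubgroup := by rw [this]; trivial
      exact h1
    have hlift : ∀ B : GL (Fin 2) F, (B : Matrix (Fin 2) (Fin 2) F).det = 1 → ∃ S : SpecialLinearGroup (Fin 2) K,
        ProjGenLinGroup.map K.subtype (ProjectiveSpecialLinearGroup.toPGL (S : ProjectiveSpecialLinearGroup (Fin 2) K)) = pmk B := by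
      intro B hB
      obtain ⟨S, hS⟩ : ∃ S : SpecialLinearGroup (Fin 2) K, ∀ a b, (((S : Matrix (Fin 2) (Fin 2) K) a b : K) : F) =
          (B : Matrix (Fin 2) (Fin 2) F) a b := by
        refine ⟨⟨Matrix.of fun a b => ⟨(B : Matrix (Fin 2) (Fin 2) F) a b, hKtop _⟩, ?_⟩, fun a b => rfl⟩
        rw [Matrix.det_fin_two] at hB ⊢
        exact Subtype.ext hB
      refine ⟨S, ?_⟩
      rw [ProjectiveSpecialLinearGroup.toPGL_mk, ProjGenLinGroup.map_mk]
      congr 1
      apply Units.ext
      ext a b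
      exact hS a b
    obtain ⟨hg, hhg⟩ := ProjGenLinGroup.mk_surjective h
    have hdet : ((hg * A * hg⁻¹ : GL (Fin 2) F) : Matrix (Fin 2) (Fin 2) F).det = 1 := by
      rw [Units.val_mul, Units.val_mul, Matrix.det_mul, Matrix.det_mul, hA, mul_one, ← Matrix.det_mul, ← Units.val_mul, mul_inv_cancel,
        Units.val_one, Matrix.det_one]
    obtain ⟨S, hS⟩ := hlift _ hdet
    have hin : h * pmk A * h⁻¹ ∈ Hb.subtype.range.map (MulAut.conj h).toMonoidHom := by
      have e1 : h * pmk A * h⁻¹ = ProjGenLinGroup.map K.subtype (ProjectiveSpecialLinearGroup.toPGL (S : ProjectiveSpecialLinearGroup (Fin 2) K)) := by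
        rw [hS, map_mul, map_mul, map_inv, ← hhg]
      rw [e1]
      rcases hcase with hc | ⟨-, hc⟩
      · rw [hc]; exact ⟨_, rfl⟩
      · rw [hc]; exact ⟨(S : ProjectiveSpecialLinearGroup (Fin 2) K), rfl⟩
    obtain ⟨y, hy, hy2⟩ := Subgroup.mem_map.mp hin
    have hy3 : h * y * h⁻¹ = h * pmk A * h⁻¹ := hy2
    have hy4 : y = pmk A := mul_left_cancel (mul_right_cancel hy3)
    rw [← hy4]
    obtain ⟨z, hz2⟩ := hy
    rw [← hz2]
    exact z.2

end H11.FrTRa
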