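import Cfsg.Agent.Lib.H96.FrDef
import Cfsg.Agent.Lib.H11.FrTRa
import Cfsg.Agent.Lib.H25.FrTr
import Cfsg.Agent.Lib.H19.So3
import Cfsg.Agent.Lib.H64.P11M

set_option autoImplicit false

/-! FRAMES, piece P11: transitivity of the 3-coordinate subgroups. -/

namespace H11.FrTR

open Matrix H96.Fr H11.FrTRa

variable {ι F : Type*} [Fintype ι] [DecidableEq ι] [Field F] {K : Subgroup ((ι → F) ≃ₗ[F] (ι → F))}

/-- pure quaternions -/
def Mt (α β a b c : F) : Matrix (Fin 2) (Fin 2) F := a • mI + b • mJ α β + c • mK α β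

lemma Mt_Q (α β : F) (x : Fin 3 → F) : H19.So3.Q α β x = Mt α β (x 0) (x 1) (x 2) := rfl

lemma Mt_tr (α β a b c : F) : (Mt α β a b c).trace = 0 := by
  rw [Matrix.trace_fin_two]; simp [Mt, mI, mJ, mK]; ring

lemma Mt_det {α β : F} (hab : α * α + β * β = -1) (a b c : F) : (Mt α β a b c).det = a * a + b * b + c * c := by
  rw [Matrix.det_fin_two]; simp [Mt, mI, mJ, mK]
  linear_combination (-(b * b) - c * c) * hab

lemma Mt_inj {α β : F} (hab : α * α + β * β = -1) (h2 : (2:F) ≠ 0) {a b c a' b' c' : F} (h : Mt α β a b c = Mt α β a' b' c') :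
    a = a' ∧ b = b' ∧ c = c' := by
  have h1 : H19.So3.Q α β ![a, b, c] = H19.So3.Q α β ![a', b', c'] := h
  have h3 := H19.So3.Q_inj hab h2 h1
  exact ⟨congrFun h3 0, congrFun h3 1, congrFun h3 2⟩

/-- intertwining relation -/
def Rel (α β : F) (i1 i2 i3 : ι) (A : GL (Fin 2) F) (g : (ι → F) ≃ₗ[F] (ι → F)) (ε : F) : Prop :=
  ∀ y : ι → F, (A : Matrix (Fin 2) (Fin 2) F) * Mt α β (y i1) (y i2) (y i3) =
    ε • (Mt α β (g y i1) (g y i2) (g y i3) * (A : Matrix (Fin 2) (Fin 2) F))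

variable {α β : F} {i1 i2 i3 : ι}

lemma Rel.mul {A B : GL (Fin 2) F} {g h : (ι → F) ≃ₗ[F] (ι → F)} {ε δ : F} (hA : Rel α β i1 i2 i3 A g ε)
    (hB : Rel α β i1 i2 i3 B h δ) : Rel α β i1 i2 i3 (A * B) (g * h) (ε * δ) := by
  intro y
  have h1 := hB y
  have h2 := hA (h y)
  rw [Units.val_mul, Matrix.mul_assoc, h1, Matrix.mul_smul, ← Matrix.mul_assoc, h2, Matrix.smul_mul, smul_smul, mul_comm δ ε,
    Matrix.mul_assoc]
  rfl

lemma Rel.one : Rel α β i1 i2 i3 (1 : GL (Fin 2) F) (1 : (ι → F) ≃ₗ[F] (ι → F)) 1 := by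
  intro y
  rw [Units.val_one, one_mul, mul_one, one_smul]; rfl

lemma Rel.inv {A : GL (Fin 2) F} {g : (ι → F) ≃ₗ[F] (ι → F)} {ε : F} (hA : Rel α β i1 i2 i3 A g ε) (hε : ε * ε = 1) :
    Rel α β i1 i2 i3 A⁻¹ g⁻¹ ε := by
  intro y
  have h1 := hA (g⁻¹ y)
  have h2 : g (g⁻¹ y) = y := by
    show (g * g⁻¹) y = y
    rw [mul_inv_cancel]; rfl
  rw [h2] at h1
  have h3 : ((A⁻¹ : GL (Fin 2) F) : Matrix (Fin 2) (Fin 2) F) * (A : Matrix (Fin 2) (Fin 2) F) = 1 := by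
    rw [← Units.val_mul, inv_mul_cancel, Units.val_one]
  have h4 : (A : Matrix (Fin 2) (Fin 2) F) * ((A⁻¹ : GL (Fin 2) F) : Matrix (Fin 2) (Fin 2) F) = 1 := by
    rw [← Units.val_mul, mul_inv_cancel, Units.val_one]
  calc ((A⁻¹ : GL (Fin 2) F) : Matrix (Fin 2) (Fin 2) F) * Mt α β (y i1) (y i2) (y i3)
      = ((A⁻¹ : GL (Fin 2) F) : Matrix (Fin 2) (Fin 2) F) * ((ε * ε) • (Mt α β (y i1) (y i2) (y i3) * ((A : Matrix (Fin 2) (Fin 2) F) * ((A⁻¹ : GL (Fin 2) F) : Matrix (Fin 2) (Fin 2) F)))) := by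
        rw [h4, mul_one, hε, one_smul]
    _ = ε • (((A⁻¹ : GL (Fin 2) F) : Matrix (Fin 2) (Fin 2) F) * (ε • (Mt α β (y i1) (y i2) (y i3) * (A : Matrix (Fin 2) (Fin 2) F))) * ((A⁻¹ : GL (Fin 2) F) : Matrix (Fin 2) (Fin 2) F)) := by
        simp only [Matrix.mul_smul, Matrix.smul_mul, smul_smul, Matrix.mul_assoc]
    _ = _ := by
        rw [← h1, ← Matrix.mul_assoc, h3, one_mul]

/-- the big subgroup of `GL₂` -/
def HH (K : Subgroup ((ι → F) ≃ₗ[F] (ι → F))) (α β : F) (i1 i2 i3 j1 j2 : ι) (hj1 : j1 ≠ i1 ∧ j1 ≠ i2 ∧ j1 ≠ i3)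
    (hj2 : j2 ≠ i1 ∧ j2 ≠ i2 ∧ j2 ≠ i3) : Subgroup (GL (Fin 2) F) where
  carrier := {A | ∃ g ∈ K, ∃ ε : F, ε * ε = 1 ∧ Rel α β i1 i2 i3 A g ε ∧
    ((∀ k, k ≠ i1 → k ≠ i2 → k ≠ i3 → g (e k) = e k) ∨
      (∀ k, k ≠ i1 → k ≠ i2 → k ≠ i3 → g (e k) = e (Equiv.swap j1 j2 k)))}
  one_mem' := ⟨1, one_mem _, 1, one_mul 1, Rel.one, Or.inl fun k _ _ _ => rfl⟩
  mul_mem' := by
    rintro A B ⟨g, hg, ε, hε, hr, hc⟩ ⟨h, hh, δ, hδ, hs, hd⟩
    have hsw : ∀ k, k ≠ i1 → k ≠ i2 → k ≠ i3 → Equiv.swap j1 j2 k ≠ i1 ∧ Equiv.swap j1 j2 k ≠ i2 ∧ Equiv.swap j1 j2 k ≠ i3 := by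
      intro k h1 h2 h3
      by_cases e1 : k = j1
      · rw [e1, Equiv.swap_apply_left]; exact hj2
      · by_cases e2 : k = j2
        · rw [e2, Equiv.swap_apply_right]; exact hj1
        · rw [Equiv.swap_apply_of_ne_of_ne e1 e2]; exact ⟨h1, h2, h3⟩
    refine ⟨g * h, mul_mem hg hh, ε * δ, by rw [mul_mul_mul_comm, hε, hδ, one_mul], hr.mul hs, ?_⟩
    rcases hc with hc | hc <;> rcases hd with hd | hd
    · left; intro k h1 h2 h3
      show g (h (e k)) = e k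
      rw [hd k h1 h2 h3, hc k h1 h2 h3]
    · right; intro k h1 h2 h3
      show g (h (e k)) = _
      obtain ⟨k1, k2, k3⟩ := hsw k h1 h2 h3
      rw [hd k h1 h2 h3, hc _ k1 k2 k3]
    · right; intro k h1 h2 h3
      show g (h (e k)) = _
      rw [hd k h1 h2 h3, hc k h1 h2 h3]
    · left; intro k h1 h2 h3
      show g (h (e k)) = _
      obtain ⟨k1, k2, k3⟩ := hsw k h1 h2 h3
      rw [hd k h1 h2 h3, hc _ k1 k2 k3, Equiv.swap_apply_self]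
  inv_mem' := by
    rintro A ⟨g, hg, ε, hε, hr, hc⟩
    have hsw : ∀ k, k ≠ i1 → k ≠ i2 → k ≠ i3 → Equiv.swap j1 j2 k ≠ i1 ∧ Equiv.swap j1 j2 k ≠ i2 ∧ Equiv.swap j1 j2 k ≠ i3 := by
      intro k h1 h2 h3
      by_cases e1 : k = j1
      · rw [e1, Equiv.swap_apply_left]; exact hj2
      · by_cases e2 : k = j2
        · rw [e2, Equiv.swap_apply_right]; exact hj1
        · rw [Equiv.swap_apply_of_ne_of_ne e1 e2]; exact ⟨h1, h2, h3⟩
    have hi : ∀ x, g⁻¹ (g x) = x := fun x => by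
      show (g⁻¹ * g) x = x
      rw [inv_mul_cancel]; rfl
    refine ⟨g⁻¹, inv_mem hg, ε, hε, hr.inv hε, ?_⟩
    rcases hc with hc | hc
    · left; intro k h1 h2 h3
      have := hi (e k)
      rw [hc k h1 h2 h3] at this
      exact this
    · right; intro k h1 h2 h3
      obtain ⟨k1, k2, k3⟩ := hsw k h1 h2 h3
      have := hi (e (Equiv.swap j1 j2 k))
      rw [hc _ k1 k2 k3, Equiv.swap_apply_self] at this
      exact this

/-- the small subgroup -/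
def H2 (K : Subgroup ((ι → F) ≃ₗ[F] (ι → F))) (α β : F) (i1 i2 i3 : ι) : Subgroup (GL (Fin 2) F) where
  carrier := {A | ∃ g ∈ K, Rel α β i1 i2 i3 A g 1 ∧ (∀ k, k ≠ i1 → k ≠ i2 → k ≠ i3 → g (e k) = e k)}
  one_mem' := ⟨1, one_mem _, Rel.one, fun k _ _ _ => rfl⟩
  mul_mem' := by
    rintro A B ⟨g, hg, hr, hc⟩ ⟨h, hh, hs, hd⟩
    refine ⟨g * h, mul_mem hg hh, ?_, ?_⟩
    · have := hr.mul hs
      rwa [mul_one] at this
    · intro k h1 h2 h3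
      show g (h (e k)) = e k
      rw [hd k h1 h2 h3, hc k h1 h2 h3]
  inv_mem' := by
    rintro A ⟨g, hg, hr, hc⟩
    have hi : ∀ x, g⁻¹ (g x) = x := fun x => by
      show (g⁻¹ * g) x = x
      rw [inv_mul_cancel]; rfl
    refine ⟨g⁻¹, inv_mem hg, hr.inv (one_mul 1), ?_⟩
    intro k h1 h2 h3
    have := hi (e k)
    rw [hc k h1 h2 h3] at this
    exact this

lemma ext_lin {g h : (ι → F) ≃ₗ[F] (ι → F)} (H : ∀ i, g (e i) = h (e i)) (y : ι → F) : g y = h y := by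
  have : (g : (ι → F) →ₗ[F] (ι → F)) = h := by
    apply (Pi.basisFun F ι).ext
    intro i
    rw [Pi.basisFun_apply]
    exact H i
  exact congrFun (congrArg DFunLike.coe this) y

lemma memI (D : Dat K) {j1 j2 : ι} (hj1 : j1 ≠ i1 ∧ j1 ≠ i2 ∧ j1 ≠ i3)
    (hj2 : j2 ≠ i1 ∧ j2 ≠ i2 ∧ j2 ≠ i3) (h12 : i1 ≠ i2) (h13 : i1 ≠ i3) (h23 : i2 ≠ i3) (A : GL (Fin 2) F)
    (hA : (A : Matrix (Fin 2) (Fin 2) F) = mI) : A ∈ HH K α β i1 i2 i3 j1 j2 hj1 hj2 := by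
  refine ⟨sg i2 i3, D.sg _ _ h23, 1, one_mul 1, ?_, Or.inl ?_⟩
  · intro y
    rw [hA, sg_apply, sg_apply, sg_apply, if_neg (by simp [h12, h13]), if_pos (by simp), if_pos (by simp)]
    simp only [Mt, mul_add, add_mul, Matrix.mul_smul, Matrix.smul_mul, II, IJ, IK, JI, KI]
    module
  · intro k h1 h2 h3
    funext l
    rw [sg_apply]
    by_cases h : l = i2 ∨ l = i3
    · rw [if_pos h]
      have : (e k : ι → F) l = 0 := by
        rw [e, Pi.single_apply, if_neg]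
        rintro rfl
        exact h.elim h2 h3
      rw [this, neg_zero]
    · rw [if_neg h]

lemma memJ (D : Dat K) (hab : α * α + β * β = -1) {j1 j2 : ι} (hj1 : j1 ≠ i1 ∧ j1 ≠ i2 ∧ j1 ≠ i3)
    (hj2 : j2 ≠ i1 ∧ j2 ≠ i2 ∧ j2 ≠ i3) (h12 : i1 ≠ i2) (h13 : i1 ≠ i3) (h23 : i2 ≠ i3) (A : GL (Fin 2) F)
    (hA : (A : Matrix (Fin 2) (Fin 2) F) = mJ α β) : A ∈ HH K α β i1 i2 i3 j1 j2 hj1 hj2 := by
  refine ⟨sg i1 i3, D.sg _ _ h13, 1, one_mul 1, ?_, Or.inl ?_⟩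
  · intro y
    rw [hA, sg_apply, sg_apply, sg_apply, if_pos (by simp), if_neg (by simp [h12.symm, h23]), if_pos (by simp)]
    simp only [Mt, mul_add, add_mul, Matrix.mul_smul, Matrix.smul_mul, JJ hab, IJ, JK hab, JI, KJ hab]
    module
  · intro k h1 h2 h3
    funext l
    rw [sg_apply]
    by_cases h : l = i1 ∨ l = i3
    · rw [if_pos h]
      have : (e k : ι → F) l = 0 := by
        rw [e, Pi.single_apply, if_neg]
        rintro rfl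
        exact h.elim h1 h3
      rw [this, neg_zero]
    · rw [if_neg h]

lemma memC (D : Dat K) (hab : α * α + β * β = -1) {j1 j2 : ι} (hj1 : j1 ≠ i1 ∧ j1 ≠ i2 ∧ j1 ≠ i3)
    (hj2 : j2 ≠ i1 ∧ j2 ≠ i2 ∧ j2 ≠ i3) (h12 : i1 ≠ i2) (h13 : i1 ≠ i3) (h23 : i2 ≠ i3) (A : GL (Fin 2) F)
    (hA : (A : Matrix (Fin 2) (Fin 2) F) = 1 + mI + mJ α β + mK α β) : A ∈ HH K α β i1 i2 i3 j1 j2 hj1 hj2 := by
  refine ⟨pm (Equiv.swap i1 i2 * Equiv.swap i2 i3), D.pm _ ?_, 1, one_mul 1, ?_, Or.inl ?_⟩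
  · rw [map_mul, Equiv.Perm.sign_swap h12, Equiv.Perm.sign_swap h23]; rfl
  · intro y
    have e2 : (Equiv.swap i1 i2 * Equiv.swap i2 i3).symm i2 = i1 := by
      rw [Equiv.symm_apply_eq, Equiv.Perm.mul_apply, Equiv.swap_apply_of_ne_of_ne h12 h13, Equiv.swap_apply_left]
    have e3 : (Equiv.swap i1 i2 * Equiv.swap i2 i3).symm i3 = i2 := by
      rw [Equiv.symm_apply_eq, Equiv.Perm.mul_apply, Equiv.swap_apply_left, Equiv.swap_apply_of_ne_of_ne h13.symm h23.symm]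
    have e1 : (Equiv.swap i1 i2 * Equiv.swap i2 i3).symm i1 = i3 := by
      rw [Equiv.symm_apply_eq, Equiv.Perm.mul_apply, Equiv.swap_apply_right, Equiv.swap_apply_right]
    rw [hA, pm_apply, pm_apply, pm_apply, e1, e2, e3]
    simp only [Mt, mul_add, add_mul, one_mul, mul_one, Matrix.mul_smul, Matrix.smul_mul, II, JJ hab, KK hab, IJ, JK hab, JI, KJ hab, IK, KI]
    module
  · intro k h1 h2 h3
    rw [pm_e, Equiv.Perm.mul_apply, Equiv.swap_apply_of_ne_of_ne h2 h3, Equiv.swap_apply_of_ne_of_ne h1 h2]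

lemma memT (D : Dat K) (hab : α * α + β * β = -1) {j1 j2 : ι} (hj1 : j1 ≠ i1 ∧ j1 ≠ i2 ∧ j1 ≠ i3)
    (hj2 : j2 ≠ i1 ∧ j2 ≠ i2 ∧ j2 ≠ i3) (hj : j1 ≠ j2) (h12 : i1 ≠ i2) (h13 : i1 ≠ i3) (h23 : i2 ≠ i3) (A : GL (Fin 2) F)
    (hA : (A : Matrix (Fin 2) (Fin 2) F) = 1 + mK α β) : A ∈ HH K α β i1 i2 i3 j1 j2 hj1 hj2 := by
  refine ⟨pm (Equiv.swap i1 i2 * Equiv.swap j1 j2) * sg i1 i3, mul_mem (D.pm _ ?_) (D.sg _ _ h13), -1, by ring, ?_, Or.inr ?_⟩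
  · rw [map_mul, Equiv.Perm.sign_swap h12, Equiv.Perm.sign_swap hj]; rfl
  · intro y
    have e2 : (Equiv.swap i1 i2 * Equiv.swap j1 j2).symm i2 = i1 := by
      rw [Equiv.symm_apply_eq, Equiv.Perm.mul_apply, Equiv.swap_apply_of_ne_of_ne hj1.1.symm hj2.1.symm, Equiv.swap_apply_left]
    have e3 : (Equiv.swap i1 i2 * Equiv.swap j1 j2).symm i3 = i3 := by
      rw [Equiv.symm_apply_eq, Equiv.Perm.mul_apply, Equiv.swap_apply_of_ne_of_ne hj1.2.2.symm hj2.2.2.symm, Equiv.swap_apply_of_ne_of_ne h13.symm h23.symm]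
    have e1 : (Equiv.swap i1 i2 * Equiv.swap j1 j2).symm i1 = i2 := by
      rw [Equiv.symm_apply_eq, Equiv.Perm.mul_apply, Equiv.swap_apply_of_ne_of_ne hj1.2.1.symm hj2.2.1.symm, Equiv.swap_apply_right]
    have f : ∀ k, (pm (Equiv.swap i1 i2 * Equiv.swap j1 j2) * sg i1 i3 : (ι → F) ≃ₗ[F] (ι → F)) y k =
        (sg i1 i3 y) ((Equiv.swap i1 i2 * Equiv.swap j1 j2).symm k) := fun k => rfl
    have s1 : sg i1 i3 y i1 = - y i1 := by rw [sg_apply, if_pos (by simp)]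
    have s2 : sg i1 i3 y i2 = y i2 := by rw [sg_apply, if_neg (by simp [h12.symm, h23])]
    have s3 : sg i1 i3 y i3 = - y i3 := by rw [sg_apply, if_pos (by simp)]
    rw [hA, f, f, f, e1, e2, e3, s1, s2, s3]
    simp only [Mt, mul_add, add_mul, one_mul, mul_one, Matrix.mul_smul, Matrix.smul_mul, II, JJ hab, KK hab, IJ, JK hab, JI, KJ hab, IK, KI]
    module
  · intro k h1 h2 h3
    have f : sg i1 i3 (e k) = (e k : ι → F) := by
      funext l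
      rw [sg_apply]
      by_cases h : l = i1 ∨ l = i3
      · rw [if_pos h]
        have : (e k : ι → F) l = 0 := by
          rw [e, Pi.single_apply, if_neg]
          rintro rfl
          exact h.elim h1 h3
        rw [this, neg_zero]
      · rw [if_neg h]
    show pm _ (sg i1 i3 (e k)) = _
    have hsw : Equiv.swap j1 j2 k ≠ i1 ∧ Equiv.swap j1 j2 k ≠ i2 := by
      by_cases e1 : k = j1
      · rw [e1, Equiv.swap_apply_left]; exact ⟨hj2.1, hj2.2.1⟩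
      · by_cases e2 : k = j2
        · rw [e2, Equiv.swap_apply_right]; exact ⟨hj1.1, hj1.2.1⟩
        · rw [Equiv.swap_apply_of_ne_of_ne e1 e2]; exact ⟨h1, h2⟩
    rw [f, pm_e, Equiv.Perm.mul_apply, Equiv.swap_apply_of_ne_of_ne hsw.1 hsw.2]

end H11.FrTR
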