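import Mathlib
import Cfsg.Prelude
import Cfsg.Agent.Lib.H30.PStab
import Cfsg.Agent.Lib.H1.Frat
import Cfsg.Agent.Lib.H1.Solv
import Cfsg.Agent.Lib.H1.Coprime2
import Cfsg.Agent.Lib.H11.CyclicNormal

/-!
Applications of `p`-stability of groups of odd order: elements acting quadratically on
`O_p(G) / Φ(O_p(G))`.
-/

set_option autoImplicit false

namespace H11.PStabApp

open Subgroup Cfsg

universe u

/-- `p`-elements outside: any finite group element splits off a `p'`-power -/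
theorem exists_pow_coprime {G : Type u} [Group G] [Finite G] (p : ℕ) [hp : Fact p.Prime] (x : G) :
    ∃ k : ℕ, (orderOf (x ^ p ^ k)).Coprime p := by
  obtain ⟨k, m, hm, hk⟩ := Nat.exists_eq_pow_mul_and_not_dvd (orderOf_pos x).ne' p hp.out.ne_one
  refine ⟨k, ?_⟩
  have h3 : orderOf (x ^ p ^ k) = m := by
    rw [orderOf_pow_of_dvd (pow_ne_zero _ hp.out.ne_zero) (by rw [hk]; exact dvd_mul_right _ _), hk,
      Nat.mul_div_cancel_left _ (pow_pos hp.out.pos _)]
  rw [h3]
  exact ((Nat.Prime.coprime_iff_not_dvd hp.out).2 hm).symm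

/-- the image in `G` of the Frattini subgroup of a normal subgroup is normal -/
theorem map_frattini_normal {G : Type u} [Group G] (P : Subgroup G) [hP : P.Normal] :
    ((frattini P).map P.subtype).Normal := by
  have : (frattini P).Characteristic := inferInstance
  exact inferInstance

/-- If `C_G(O_p(G)) ≤ O_p(G)`, the elements acting trivially on `O_p(G) / Φ(O_p(G))` lie in
`O_p(G)`. -/
theorem mem_pCore_of_trivial {G : Type u} [Group G] [Finite G] (p : ℕ) [hp : Fact p.Prime]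
    (hC : centralizer (pCore p G : Set G) ≤ pCore p G) (C : Subgroup G) [hCn : C.Normal]
    (h : ∀ x ∈ C, ∀ n ∈ pCore p G, x * n * x⁻¹ * n⁻¹ ∈ (frattini (pCore p G)).map (pCore p G).subtype) :
    C ≤ pCore p G := by
  set P := pCore p G with hP
  have hPp : IsPGroup p P := H1.Cores.isPGroup_pCore p
  have hFp : IsPGroup p (frattini P) := hPp.to_subgroup _
  apply H1.Cores.le_pCore hCn
  intro x
  obtain ⟨x, hx⟩ := x
  obtain ⟨k, hk⟩ := exists_pow_coprime p x
  have h1 : zpowers (x ^ p ^ k) ≤ centralizer (P : Set G) := by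
    apply H1.Coprime2.le_centralizer_of_frattini
    · rw [Nat.card_zpowers]
      obtain ⟨n, hn⟩ := IsPGroup.iff_card.mp hFp
      rw [hn]
      exact Nat.Coprime.pow_right _ hk
    · intro a ha n hn
      have : a ∈ C := by
        have : zpowers (x ^ p ^ k) ≤ C := by
          rw [zpowers_le]
          exact pow_mem hx _
        exact this ha
      exact h a this n hn
  have h2 : x ^ p ^ k ∈ P := hC (h1 (mem_zpowers _))
  obtain ⟨j, hj⟩ := hPp ⟨_, h2⟩
  have hj' : (x ^ p ^ k) ^ p ^ j = 1 := congrArg Subtype.val hj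
  have h3 : orderOf (x ^ p ^ k) ∣ p ^ j := orderOf_dvd_of_pow_eq_one hj'
  have h4 : orderOf (x ^ p ^ k) = 1 := Nat.Coprime.eq_one_of_dvd (Nat.Coprime.pow_right _ hk) h3
  refine ⟨k, Subtype.ext ?_⟩
  exact orderOf_eq_one_iff.mp h4

/-- In a group `G` of odd order with `C_G(O_p(G)) ≤ O_p(G)`, elements acting quadratically on
`O_p(G) / Φ(O_p(G))` lie in `O_p(G)`. -/
theorem mem_pCore_of_quadratic {G : Type u} [Group G] [Finite G] (hodd : Odd (Nat.card G)) (p : ℕ)
    [hp : Fact p.Prime] (hp2 : p ≠ 2) (hC : centralizer (pCore p G : Set G) ≤ pCore p G) (a : G)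
    (ha : ∀ n ∈ pCore p G, a * (a * n * a⁻¹ * n⁻¹) * a⁻¹ * (a * n * a⁻¹ * n⁻¹)⁻¹ ∈
      (frattini (pCore p G)).map (pCore p G).subtype) : a ∈ pCore p G := by
  set P := pCore p G with hP
  have hPp : IsPGroup p P := H1.Cores.isPGroup_pCore p
  set F := (frattini P).map P.subtype with hF
  have hFn : F.Normal := map_frattini_normal P
  set q := QuotientGroup.mk' F with hq
  have hqs : Function.Surjective q := QuotientGroup.mk'_surjective F
  have hq1 : ∀ x : G, q x = 1 ↔ x ∈ F := fun x => QuotientGroup.eq_one_iff x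
  have hPn : (P.map q).Normal := (inferInstance : P.Normal).map q hqs
  have hPq : IsPGroup p (P.map q) := hPp.map q
  have hoddq : Odd (Nat.card (G ⧸ F)) := by
    apply hodd.of_dvd_nat
    exact Subgroup.card_quotient_dvd_card F
  have h1 := H30.PStab.quad_mem_pCore hoddq p hp2 (P.map q) hPq (q a) (by
    rintro _ ⟨n, hn, rfl⟩
    have h := ha n hn
    rw [← hq1] at h
    simp only [map_mul, map_inv] at h ⊢
    exact mul_inv_eq_one.mp h)
  set Z := centralizer ((P.map q : Subgroup (G ⧸ F)) : Set (G ⧸ F)) with hZ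
  have hCZ : Z.comap q ≤ P := by
    refine mem_pCore_of_trivial p hC (Z.comap q) ?_
    intro x hx n hn
    have hx' : q x ∈ Z := hx
    rw [hZ, mem_centralizer_iff] at hx'
    have h2 := hx' (q n) ⟨n, hn, rfl⟩
    change x * n * x⁻¹ * n⁻¹ ∈ F
    rw [← hq1]
    simp only [map_mul, map_inv]
    rw [← h2]
    group
  -- the preimage of `O_p`
  set D := (pCore p ((G ⧸ F) ⧸ Z)).comap ((QuotientGroup.mk' Z).comp q) with hD
  have hDP : D ≤ P := by
    apply H1.Cores.le_pCore inferInstance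
    intro x
    obtain ⟨x, hx⟩ := x
    obtain ⟨k, hk⟩ := H1.Cores.isPGroup_pCore (G := (G ⧸ F) ⧸ Z) p ⟨_, hx⟩
    have hk' : ((QuotientGroup.mk' Z) (q x)) ^ p ^ k = 1 := congrArg Subtype.val hk
    have h3 : x ^ p ^ k ∈ Z.comap q := by
      rw [← map_pow, ← map_pow] at hk'
      exact (QuotientGroup.eq_one_iff (N := Z) (q (x ^ p ^ k))).mp hk'
    obtain ⟨j, hj⟩ := hPp ⟨_, hCZ h3⟩
    have hj' : (x ^ p ^ k) ^ p ^ j = 1 := congrArg Subtype.val hj
    refine ⟨k + j, Subtype.ext ?_⟩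
    rw [← pow_mul, ← pow_add] at hj'
    exact hj'
  exact hDP h1

/-- a `p`-group acts trivially on a cyclic normal subgroup modulo `p`-th powers -/
theorem exists_zpow_modEq {S : Type u} [Group S] [Finite S] {p : ℕ} [hp : Fact p.Prime] (hS : IsPGroup p S)
    (C : Subgroup S) [C.Normal] [hC : IsCyclic C] (g : S) :
    ∃ m : ℤ, ∀ c ∈ C, g * c * g⁻¹ * c⁻¹ = (c ^ m) ^ p := by
  obtain ⟨m, hm⟩ := H11.CyclicNormal.exists_zpow_of_cyclic_normal C g
  by_cases hbot : C = ⊥
  · refine ⟨0, fun c hc => ?_⟩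
    rw [hbot, mem_bot] at hc
    subst hc
    simp
  obtain ⟨⟨d, hd⟩, hgen⟩ := hC.exists_generator
  have hd1 : d ≠ 1 := by
    rintro rfl
    apply hbot
    rw [eq_bot_iff]
    intro c hc
    obtain ⟨j, hj⟩ := hgen ⟨c, hc⟩
    have : (1 : S) ^ j = c := congrArg Subtype.val hj
    rw [← this]; simp
  obtain ⟨j, hj⟩ := hS.exists_orderOf_eq_pow d
  have hj0 : j ≠ 0 := by
    rintro rfl
    rw [pow_zero, orderOf_eq_one_iff] at hj
    exact hd1 hj
  obtain ⟨k, hk⟩ := hS g
  have hiter : ∀ n : ℕ, g ^ n * d * (g ^ n)⁻¹ = d ^ (m ^ n) := by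
    intro n
    induction n with
    | zero => simp
    | succ n ih =>
      have : g ^ (n + 1) * d * (g ^ (n + 1))⁻¹ = g * (g ^ n * d * (g ^ n)⁻¹) * g⁻¹ := by
        rw [pow_succ']; group
      rw [this, ih, hm _ (zpow_mem hd _), ← zpow_mul, pow_succ]
  have h1 := hiter (p ^ k)
  rw [hk, one_mul, inv_one, mul_one] at h1
  have h2 : (orderOf d : ℤ) ∣ m ^ p ^ k - 1 := by
    rw [orderOf_dvd_sub_iff_zpow_eq_zpow, ← h1, zpow_one]
  have h3 : (p : ℤ) ∣ m ^ p ^ k - 1 := by
    refine dvd_trans ?_ h2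
    rw [hj]
    exact_mod_cast dvd_pow_self p hj0
  have h4 : (p : ℤ) ∣ m - 1 := by
    have h5 : ((m ^ p ^ k - 1 : ℤ) : ZMod p) = 0 := (ZMod.intCast_zmod_eq_zero_iff_dvd _ p).mpr h3
    push_cast at h5
    rw [ZMod.pow_card_pow] at h5
    rw [← ZMod.intCast_zmod_eq_zero_iff_dvd]
    push_cast
    exact h5
  obtain ⟨r, hr⟩ := h4
  refine ⟨r, fun c hc => ?_⟩
  rw [hm c hc]
  have : m = p * r + 1 := by linarith
  rw [this, zpow_add_one, mul_inv_cancel_right, ← zpow_natCast, ← zpow_mul, mul_comm]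

end H11.PStabApp
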