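import Mathlib
import Cfsg.Prelude
import Cfsg.Agent.Lib.H26.SolvBal
import Cfsg.Agent.Lib.H11.PStabApp

/-!
Invariant `p'`-subgroups in solvable groups: `A` a self-centralizing abelian normal subgroup of a Sylow
`p`-subgroup, `Q` an `A`-invariant `p'`-subgroup; then `Q ≤ O_{p'}(H)`.
-/

set_option autoImplicit false

namespace H11.InvSub

open Subgroup Cfsg H1.Coprime
open scoped commutatorElement

universe u

/-- if `A` acts trivially on `R / K` so does `⁅Q, A⁆`, where `Q` also acts -/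
theorem commutator_commutator_le {G : Type u} [Group G] (A Q R K : Subgroup G)
    (hAR : A ≤ normalizer (R : Set G)) (hQR : Q ≤ normalizer (R : Set G))
    (hAK : A ≤ normalizer (K : Set G)) (hQK : Q ≤ normalizer (K : Set G))
    (h : ∀ a ∈ A, ∀ r ∈ R, a * r * a⁻¹ * r⁻¹ ∈ K) : ⁅R, ⁅Q, A⁆⁆ ≤ K := by
  let C : Subgroup G :=
    { carrier := {w | w ∈ normalizer (R : Set G) ⊓ normalizer (K : Set G) ∧ ∀ r ∈ R, w * r * w⁻¹ * r⁻¹ ∈ K}
      one_mem' := by
        refine ⟨one_mem _, fun r _ => ?_⟩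
        simp
      mul_mem' := by
        rintro v w ⟨hv, hv'⟩ ⟨hw, hw'⟩
        refine ⟨mul_mem hv hw, fun r hr => ?_⟩
        have h1 : v * w * r * (v * w)⁻¹ * r⁻¹ = (v * (w * r * w⁻¹ * r⁻¹) * v⁻¹) * (v * r * v⁻¹ * r⁻¹) := by
          group
        rw [h1]
        exact mul_mem ((Subgroup.mem_normalizer_iff.mp hv.2 _).mp (hw' r hr)) (hv' r hr)
      inv_mem' := by
        rintro w ⟨hw, hw'⟩
        refine ⟨inv_mem hw, fun r hr => ?_⟩
        have hr' : w⁻¹ * r * w ∈ R := (Subgroup.mem_normalizer_iff''.mp hw.1 r).mp hr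
        have h1 := inv_mem (hw' _ hr')
        have h2 : (w * (w⁻¹ * r * w) * w⁻¹ * (w⁻¹ * r * w)⁻¹)⁻¹ = w⁻¹ * r * w⁻¹⁻¹ * r⁻¹ := by group
        rwa [h2] at h1 }
  have hC : ∀ w, w ∈ C ↔ (w ∈ normalizer (R : Set G) ⊓ normalizer (K : Set G) ∧ ∀ r ∈ R, w * r * w⁻¹ * r⁻¹ ∈ K) :=
    fun w => Iff.rfl
  have hAC : A ≤ C := fun a ha => ⟨⟨hAR ha, hAK ha⟩, h a ha⟩
  have hQC : ∀ x ∈ Q, ∀ w ∈ C, x * w * x⁻¹ ∈ C := by
    intro x hx w hw
    refine ⟨mul_mem (mul_mem ⟨hQR hx, hQK hx⟩ hw.1) (inv_mem ⟨hQR hx, hQK hx⟩), fun r hr => ?_⟩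
    have hr' : x⁻¹ * r * x ∈ R := (Subgroup.mem_normalizer_iff''.mp (hQR hx) r).mp hr
    have h1 := hw.2 _ hr'
    have h2 := (Subgroup.mem_normalizer_iff.mp (hQK hx) _).mp h1
    have h3 : x * (w * (x⁻¹ * r * x) * w⁻¹ * (x⁻¹ * r * x)⁻¹) * x⁻¹ = x * w * x⁻¹ * r * (x * w * x⁻¹)⁻¹ * r⁻¹ := by
      group
    rwa [h3] at h2
  have hle : ⁅Q, A⁆ ≤ C := by
    rw [Subgroup.commutator_le]
    intro x hx a ha
    rw [commutatorElement_def]
    exact mul_mem (hQC x hx a (hAC ha)) (inv_mem (hAC ha))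
  rw [Subgroup.commutator_le]
  intro r hr d hd
  rw [commutatorElement_def]
  have h1 := inv_mem ((hle hd).2 r hr)
  have h2 : (d * r * d⁻¹ * r⁻¹)⁻¹ = r * d * r⁻¹ * d⁻¹ := by group
  rwa [h2] at h1

theorem coprime_of_pgroup {G : Type u} [Group G] [Finite G] {p : ℕ} [hp : Fact p.Prime] {R Q : Subgroup G}
    (hR : IsPGroup p R) (hQ : (Nat.card Q).Coprime p) : (Nat.card Q).Coprime (Nat.card R) := by
  obtain ⟨n, hn⟩ := IsPGroup.iff_card.mp hR
  rw [hn]
  exact Nat.Coprime.pow_right _ hQ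

theorem solvable_of_pgroup {G : Type u} [Group G] [Finite G] {p : ℕ} [hp : Fact p.Prime] {R : Subgroup G}
    (hR : IsPGroup p R) : Group.IsSolvable R := by
  have := hR.isNilpotent
  infer_instance

/-- The case `O_{p'} = 1`: `R = O_p`, `C(R) ≤ R`, `R` normalizes the abelian `p`-group `A`,
`C_R(A) ≤ A`, then each `A`-invariant `p'`-subgroup is trivial. -/
theorem eq_bot_of_core {G : Type u} [Group G] [Finite G] (p : ℕ) [hp : Fact p.Prime]
    (R : Subgroup G) [hRn : R.Normal] (hRp : IsPGroup p R) (hCR : centralizer (R : Set G) ≤ R)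
    (A Q : Subgroup G) (hA : IsPGroup p A) (hRA : R ≤ normalizer (A : Set G))
    (hself : R ⊓ centralizer (A : Set G) ≤ A)
    (hQ : (Nat.card Q).Coprime p) (hAQ : A ≤ normalizer (Q : Set G)) : Q = ⊥ := by
  have hRtop : normalizer (R : Set G) = ⊤ := normalizer_eq_top R
  have hdisj : R ⊓ Q = ⊥ := H26.LocalFitting.inf_eq_bot_of_coprime hRp hQ
  -- `A ⊓ R` is centralized by `Q`
  have hK : ∀ k ∈ A ⊓ R, ∀ x ∈ Q, k * x * k⁻¹ * x⁻¹ = 1 := by
    intro k hk x hx
    have h1 : k * x * k⁻¹ * x⁻¹ ∈ R ⊓ Q := by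
      refine Subgroup.mem_inf.mpr ⟨?_, ?_⟩
      · have h2 : k * x * k⁻¹ * x⁻¹ = k * (x * k⁻¹ * x⁻¹) := by group
        rw [h2]
        exact mul_mem hk.2 (hRn.conj_mem _ (inv_mem hk.2) x)
      · exact mul_mem (conj_mem_of_le_normalizer hAQ hk.1 hx) (inv_mem hx)
    rw [hdisj] at h1
    exact h1
  have hKQ : Q ≤ centralizer ((A ⊓ R : Subgroup G) : Set G) := by
    intro x hx
    rw [mem_centralizer_iff]
    intro k hk
    have := hK k hk x hx
    rw [mul_inv_eq_one, mul_inv_eq_iff_eq_mul] at this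
    exact this
  have hD1 : ⁅Q, A⁆ ≤ Q := H1.Coprime2.commutator_le_left hAQ
  have hD2 : ⁅R, ⁅Q, A⁆⁆ ≤ A ⊓ R := by
    apply commutator_commutator_le
    · rw [hRtop]; exact le_top
    · rw [hRtop]; exact le_top
    · exact H1.Coprime2.le_normalizer_inf le_normalizer (by rw [hRtop]; exact le_top)
    · exact hKQ.trans (centralizer_le_normalizer _)
    · intro a ha r hr
      refine Subgroup.mem_inf.mpr ⟨?_, ?_⟩
      · have h2 : a * r * a⁻¹ * r⁻¹ = a * (r * a⁻¹ * r⁻¹) := by group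
        rw [h2]
        exact mul_mem ha (conj_mem_of_le_normalizer hRA hr (inv_mem ha))
      · exact mul_mem (hRn.conj_mem r hr a) (inv_mem hr)
  have hDcard : (Nat.card (⁅Q, A⁆ : Subgroup G)).Coprime p :=
    Nat.Coprime.coprime_dvd_left (Subgroup.card_dvd_of_le hD1) hQ
  have hDR : ⁅Q, A⁆ ≤ centralizer (R : Set G) := by
    refine H1.Coprime2.le_centralizer_of_series _ R (A ⊓ R) (by rw [hRtop]; exact le_top)
      (coprime_of_pgroup hRp hDcard) (Or.inr (solvable_of_pgroup hRp)) hD2 ?_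
    rw [Subgroup.commutator_comm, Subgroup.commutator_eq_bot_iff_le_centralizer]
    exact hD1.trans hKQ
  have hDbot : ⁅Q, A⁆ = ⊥ := by
    rw [eq_bot_iff, ← hdisj]
    exact le_inf (hDR.trans hCR) hD1
  have hAQc : A ≤ centralizer (Q : Set G) := by
    rw [← Subgroup.commutator_eq_bot_iff_le_centralizer, Subgroup.commutator_comm]
    exact hDbot
  have hQR : Q ≤ centralizer (R : Set G) := by
    refine H1.Coprime2.pq_lemma p A Q hA hQ hAQc _ R rfl hRp (by rw [hRtop]; exact le_top)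
      (by rw [hRtop]; exact le_top) ?_
    exact hself.trans hAQc
  rw [eq_bot_iff, ← hdisj]
  exact le_inf (hQR.trans hCR) le_rfl

/-- **c1**: `H` solvable, `A` normal in the Sylow subgroup `P` of `H`, `C_P(A) ≤ A`: every
`A`-invariant `p'`-subgroup lies in `O_{p'}(H)`. -/
theorem le_pPrimeCore_of_sylow {H : Type u} [Group H] [Finite H] (hs : Group.IsSolvable H) (p : ℕ)
    [hp : Fact p.Prime] (P : Sylow p H) (A Q : Subgroup H) (hAP : A ≤ (P : Subgroup H))
    (hAn : (P : Subgroup H) ≤ normalizer (A : Set H))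
    (hself : (P : Subgroup H) ⊓ centralizer (A : Set H) ≤ A) (hQ : (Nat.card Q).Coprime p)
    (hAQ : A ≤ normalizer (Q : Set H)) : Q ≤ pPrimeCore p H := by
  set N := pPrimeCore p H with hN
  have hNn : N.Normal := by
    have := H1.Cores.pPrimeCore_characteristic (G := H) p
    exact Subgroup.normal_of_characteristic N
  have hNc : (Nat.card N).Coprime p := H1.Cores.coprime_card_pPrimeCore p
  set q := QuotientGroup.mk' N with hq
  have hqs : Function.Surjective q := QuotientGroup.mk'_surjective N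
  have hq1 : ∀ x : H, q x = 1 ↔ x ∈ N := fun x => QuotientGroup.eq_one_iff x
  set R := pCore p (H ⧸ N) with hR
  have hCR : centralizer (R : Set (H ⧸ N)) ≤ R := H26.SolvBal.centralizer_pCore_quotient_le_of_isSolvable hs
  have hRp : IsPGroup p R := H1.Cores.isPGroup_pCore p
  have hRP : R ≤ (P : Subgroup H).map q := H1.Cores.pCore_le_sylow (P.mapSurjective hqs)
  have hbot : Q.map q = ⊥ := by
    refine eq_bot_of_core p R hRp hCR (A.map q) (Q.map q) ((P.2.to_le hAP).map q) ?_ ?_ ?_ ?_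
    · refine hRP.trans ((Subgroup.map_mono hAn).trans ?_)
      exact Subgroup.le_normalizer_map q
    · rintro r ⟨hr, hrc⟩
      obtain ⟨x, hx, rfl⟩ := hRP hr
      refine ⟨x, hself (Subgroup.mem_inf.mpr ⟨hx, ?_⟩), rfl⟩
      rw [mem_centralizer_iff]
      intro a ha
      have h1 : q a * q x = q x * q a := mem_centralizer_iff.mp hrc (q a) ⟨a, ha, rfl⟩
      have h2 : a * x * a⁻¹ * x⁻¹ ∈ N := by
        rw [← hq1]
        simp only [map_mul, map_inv]
        rw [h1]; group
      have h3 : a * x * a⁻¹ * x⁻¹ ∈ (P : Subgroup H) :=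
        mul_mem (mul_mem (mul_mem (hAP ha) hx) (inv_mem (hAP ha))) (inv_mem hx)
      have h4 : (P : Subgroup H) ⊓ N = ⊥ := H26.LocalFitting.inf_eq_bot_of_coprime P.2 hNc
      have h5 : a * x * a⁻¹ * x⁻¹ = 1 := by
        have : a * x * a⁻¹ * x⁻¹ ∈ (P : Subgroup H) ⊓ N := ⟨h3, h2⟩
        rwa [h4] at this
      rw [mul_inv_eq_one, mul_inv_eq_iff_eq_mul] at h5
      exact h5
    · exact Nat.Coprime.coprime_dvd_left (Subgroup.card_map_dvd Q q) hQ
    · exact (Subgroup.map_mono hAQ).trans (Subgroup.le_normalizer_map q)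
  rw [Subgroup.map_eq_bot_iff, hq, QuotientGroup.ker_mk'] at hbot
  exact hbot

/-- **c3**: odd order solvable `L`, `P1` normalized by the Sylow subgroup `P2`, `z ∈ Z(P1)`, `T` a
`z`-invariant `p'`-subgroup with `C_T(z) ≤ O_{p'}(L)`: `T ≤ O_{p'}(L)`. -/
theorem le_pPrimeCore_of_quadratic {L : Type u} [Group L] [Finite L] (hs : Group.IsSolvable L)
    (hodd : Odd (Nat.card L)) (p : ℕ) [hp : Fact p.Prime] (hp2 : p ≠ 2) (P2 : Sylow p L) (P1 : Subgroup L)
    (hn : (P2 : Subgroup L) ≤ normalizer (P1 : Set L)) (z : L) (hz : z ∈ P1)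
    (hzc : ∀ x ∈ P1, x * z = z * x) (hzp : IsPGroup p (zpowers z)) (T : Subgroup L) (hT : (Nat.card T).Coprime p)
    (hzT : z ∈ normalizer (T : Set L)) (hCT : T ⊓ centralizer {z} ≤ pPrimeCore p L) :
    T ≤ pPrimeCore p L := by
  set N := pPrimeCore p L with hN
  have hNn : N.Normal := by
    have := H1.Cores.pPrimeCore_characteristic (G := L) p
    exact Subgroup.normal_of_characteristic N
  set q := QuotientGroup.mk' N with hq
  have hqs : Function.Surjective q := QuotientGroup.mk'_surjective N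
  have hq1 : ∀ x : L, q x = 1 ↔ x ∈ N := fun x => QuotientGroup.eq_one_iff x
  set R := pCore p (L ⧸ N) with hR
  have hCR : centralizer (R : Set (L ⧸ N)) ≤ R := H26.SolvBal.centralizer_pCore_quotient_le_of_isSolvable hs
  have hRp : IsPGroup p R := H1.Cores.isPGroup_pCore p
  have hRP : R ≤ (P2 : Subgroup L).map q := H1.Cores.pCore_le_sylow (P2.mapSurjective hqs)
  have hzR : q z ∈ R := by
    apply H11.PStabApp.mem_pCore_of_quadratic (hodd.of_dvd_nat (Subgroup.card_quotient_dvd_card N)) p hp2 hCR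
    intro n hn'
    obtain ⟨n, hnP, rfl⟩ := hRP hn'
    have h1 : z * n * z⁻¹ * n⁻¹ ∈ P1 := by
      have h2 : z * n * z⁻¹ * n⁻¹ = z * (n * z⁻¹ * n⁻¹) := by group
      rw [h2]
      exact mul_mem hz (conj_mem_of_le_normalizer hn hnP (inv_mem hz))
    have h2 : z * (z * n * z⁻¹ * n⁻¹) * z⁻¹ * (z * n * z⁻¹ * n⁻¹)⁻¹ = 1 := by
      rw [← hzc _ h1]; group
    have h3 : q z * (q z * q n * (q z)⁻¹ * (q n)⁻¹) * (q z)⁻¹ * (q z * q n * (q z)⁻¹ * (q n)⁻¹)⁻¹ =
        q (z * (z * n * z⁻¹ * n⁻¹) * z⁻¹ * (z * n * z⁻¹ * n⁻¹)⁻¹) := by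
      simp only [map_mul, map_inv]
    rw [h3, h2, map_one]
    exact one_mem _
  have hzT' : zpowers z ≤ normalizer (T : Set L) := by rw [zpowers_le]; exact hzT
  have hcop : (Nat.card (zpowers z)).Coprime (Nat.card T) := (coprime_of_pgroup hzp hT).symm
  rw [← H1.Coprime2.commutator_sup_centralizer (zpowers z) T hzT' hcop (Or.inl (solvable_of_pgroup hzp))]
  apply sup_le
  · have hTRn : R ⊓ T.map q = ⊥ := by
      apply H26.LocalFitting.inf_eq_bot_of_coprime hRp
      exact Nat.Coprime.coprime_dvd_left (Subgroup.card_map_dvd T q) hT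
    rw [Subgroup.commutator_le]
    rintro t ht _ ⟨j, rfl⟩
    change ⁅t, z ^ j⁆ ∈ N
    rw [← hq1]
    have h1 : q ⁅t, z ^ j⁆ ∈ R ⊓ T.map q := by
      refine Subgroup.mem_inf.mpr ⟨?_, ?_⟩
      · rw [commutatorElement_def, map_mul, map_mul, map_mul, map_inv, map_inv, map_zpow]
        exact mul_mem ((inferInstance : R.Normal).conj_mem _ (zpow_mem hzR j) _) (inv_mem (zpow_mem hzR j))
      · refine ⟨_, ?_, rfl⟩
        have h2 : ⁅t, z ^ j⁆ = t * (z ^ j * t⁻¹ * (z ^ j)⁻¹) := by rw [commutatorElement_def]; group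
        rw [SetLike.mem_coe, h2]
        exact mul_mem ht (conj_mem_of_le_normalizer hzT' ⟨j, rfl⟩ (inv_mem ht))
    rw [hTRn] at h1
    exact h1
  · refine le_trans (inf_le_inf_left T ?_) hCT
    apply Subgroup.centralizer_le
    rw [Set.singleton_subset_iff]
    exact mem_zpowers z

/-- the `p'`-core of a subgroup, as a subgroup of the ambient group -/
noncomputable def core {G : Type u} [Group G] (p : ℕ) (H : Subgroup G) : Subgroup G :=
  (pPrimeCore p H).map H.subtype

theorem core_le {G : Type u} [Group G] (p : ℕ) (H : Subgroup G) : core p H ≤ H := by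
  rintro _ ⟨x, _, rfl⟩
  exact x.2

theorem card_core {G : Type u} [Group G] [Finite G] (p : ℕ) (H : Subgroup G) :
    (Nat.card (core p H)).Coprime p := by
  rw [core, Subgroup.card_map_of_injective H.subtype_injective]
  exact H1.Cores.coprime_card_pPrimeCore p

theorem le_core_iff {G : Type u} [Group G] {p : ℕ} {H T : Subgroup G} (hT : T ≤ H) :
    T ≤ core p H ↔ T.subgroupOf H ≤ pPrimeCore p H := by
  rw [core]
  constructor
  · intro h x hx
    obtain ⟨y, hy, hyx⟩ := h hx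
    rwa [← Subtype.ext hyx]
  · intro h x hx
    exact ⟨⟨x, hT hx⟩, h hx, rfl⟩

theorem le_normalizer_core {G : Type u} [Group G] [Finite G] (p : ℕ) (H : Subgroup G) :
    H ≤ normalizer (core p H : Set G) := by
  have hNn : (pPrimeCore p H).Normal := by
    have := H1.Cores.pPrimeCore_characteristic (G := H) p
    exact Subgroup.normal_of_characteristic _
  apply le_normalizer_of_conj_mem
  rintro g hg _ ⟨x, hx, rfl⟩
  exact ⟨⟨g, hg⟩ * x * ⟨g, hg⟩⁻¹, hNn.conj_mem x hx _, rfl⟩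

/-- **c2** (balance): `x, y` commuting `p`-elements, `C(x)` solvable:
`O_{p'}(C(y)) ⊓ C(x) ≤ O_{p'}(C(x))`. -/
theorem core_inf_le {G : Type u} [Group G] [Finite G] {p : ℕ} [hp : Fact p.Prime] (x y : G)
    (hxy : x * y = y * x) (hy : IsPGroup p (zpowers y))
    (hs : Group.IsSolvable (centralizer ({x} : Set G))) :
    core p (centralizer ({y} : Set G)) ⊓ centralizer {x} ≤ core p (centralizer ({x} : Set G)) := by
  set H := centralizer ({x} : Set G) with hH
  set K := core p (centralizer ({y} : Set G)) with hK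
  have hyH : y ∈ H := mem_centralizer_singleton_iff.mpr hxy.symm
  have hyH' : zpowers y ≤ H := by rw [zpowers_le]; exact hyH
  rw [le_core_iff inf_le_right]
  refine H26.SolvBal.le_pPrimeCore_of_isSolvable (P := (zpowers y).subgroupOf H) hs ?_ ?_ ?_ ?_
  · exact hy.of_injective ((zpowers y).subgroupOfEquivOfLe hyH').toMonoidHom
      ((zpowers y).subgroupOfEquivOfLe hyH').injective
  · rw [Nat.card_congr ((K ⊓ H).subgroupOfEquivOfLe inf_le_right).toEquiv]
    exact Nat.Coprime.coprime_dvd_left (Subgroup.card_dvd_of_le inf_le_left) (card_core p _)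
  · intro g hg
    rw [mem_centralizer_iff]
    intro w hw
    apply Subtype.ext
    have h1 : (g : G) ∈ centralizer ({y} : Set G) := core_le p _ hg.1
    have h2 : Commute y (g : G) := (mem_centralizer_singleton_iff.mp h1).symm
    obtain ⟨j, hj⟩ := hw
    change (w : G) * g = g * w
    rw [← show y ^ j = (w : G) from hj]
    exact (h2.zpow_left j).eq
  · intro g hg
    have h1 : (g : G) ∈ centralizer ({y} : Set G) := by
      rw [mem_centralizer_singleton_iff]
      exact (congrArg Subtype.val (hg ⟨y, hyH⟩ (mem_zpowers y))).symm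
    have h2 : (g : G) ∈ normalizer (((K ⊓ H : Subgroup G)) : Set G) := by
      have h3 : (g : G) ∈ normalizer (K : Set G) := le_normalizer_core p _ h1
      have h4 : (g : G) ∈ normalizer (H : Set G) := le_normalizer g.2
      rw [mem_normalizer_iff] at h3 h4 ⊢
      intro w
      rw [mem_inf, mem_inf]
      exact and_congr (h3 w) (h4 w)
    rw [mem_normalizer_iff] at h2 ⊢
    intro w
    exact h2 w

end H11.InvSub
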