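import Mathlib
import Cfsg.Prelude.Def_SolvableStructure
import Cfsg.Prelude.Def_Transfer
import Cfsg.Agent.Lib.H76.ConjCover
import Cfsg.Agent.Lib.H11.SubnormalJoin

set_option autoImplicit false

/-!
Schmidt's theorem: minimal non-nilpotent finite groups are solvable; their structure; minimal non-abelian
groups.
-/

namespace H11.MinNonNilp

open Subgroup H11.SubnormalJoin
open scoped Pointwise

universe u v

theorem mem_conj_smul_iff {G : Type u} [Group G] {H : Subgroup G} {g x : G} :
    x ∈ MulAut.conj g • H ↔ g⁻¹ * x * g ∈ H := by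
  rw [Subgroup.mem_pointwise_smul_iff_inv_smul_mem]
  simp [MulAut.smul_def]

/-- a self-normalizing TI subgroup `M`: the number of non-identity elements in conjugates of `M` is at
least `|G| - |G : M|` -/
theorem card_le_of_ti {G : Type u} [Group G] [Finite G] (M : Subgroup G)
    (hti : ∀ g : G, g ∉ M → M ⊓ (MulAut.conj g • M) = ⊥) :
    Nat.card G ≤ Set.ncard {x : G | x ≠ 1 ∧ ∃ g : G, x ∈ MulAut.conj g • M} + M.index := by
  classical
  let f : (G ⧸ M) × {m : M // m ≠ 1} → {x : G | x ≠ 1 ∧ ∃ g : G, x ∈ MulAut.conj g • M} := fun y =>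
    ⟨y.1.out * (y.2.1 : G) * (y.1.out)⁻¹, by
      refine ⟨?_, y.1.out, ?_⟩
      · intro h
        apply y.2.2
        apply Subtype.ext
        have : (y.2.1 : G) = (y.1.out)⁻¹ * (y.1.out * (y.2.1 : G) * (y.1.out)⁻¹) * y.1.out := by group
        rw [this, h]; simp
      · rw [mem_conj_smul_iff]
        have : (y.1.out)⁻¹ * (y.1.out * (y.2.1 : G) * (y.1.out)⁻¹) * y.1.out = (y.2.1 : G) := by group
        rw [this]; exact y.2.1.2⟩
  have hf : Function.Injective f := by
    rintro ⟨a, m, hm⟩ ⟨b, n, hn⟩ hab
    have h1 : a.out * (m : G) * a.out⁻¹ = b.out * (n : G) * b.out⁻¹ := congrArg Subtype.val hab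
    have h2 : (a.out)⁻¹ * b.out ∈ M := by
      by_contra hcon
      have h3 := hti _ hcon
      have h4 : (m : G) ∈ M ⊓ (MulAut.conj ((a.out)⁻¹ * b.out) • M) := by
        refine ⟨m.2, ?_⟩
        change (m : G) ∈ MulAut.conj ((a.out)⁻¹ * b.out) • M
        rw [mem_conj_smul_iff]
        have : ((a.out)⁻¹ * b.out)⁻¹ * (m : G) * ((a.out)⁻¹ * b.out) =
            b.out⁻¹ * (a.out * (m : G) * a.out⁻¹) * b.out := by group
        rw [this, h1]
        have : b.out⁻¹ * (b.out * (n : G) * b.out⁻¹) * b.out = n := by group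
        rw [this]; exact n.2
      rw [h3, mem_bot] at h4
      exact hm (Subtype.ext h4)
    have h5 : a = b := by
      rw [← QuotientGroup.out_eq' a, ← QuotientGroup.out_eq' b, QuotientGroup.eq]
      exact h2
    subst h5
    have h6 : (m : G) = n := by
      have := mul_right_cancel h1
      exact mul_left_cancel this
    have h7 : m = n := Subtype.ext h6
    subst h7
    rfl
  have h1 := Nat.card_le_card_of_injective f hf
  rw [Nat.card_prod] at h1
  have h2 : Nat.card {m : M // m ≠ 1} = Nat.card M - 1 := by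
    have : Nat.card {m : M // m ≠ 1} + 1 = Nat.card M := by
      have := Set.ncard_add_ncard_compl ({1} : Set M)
      rw [Set.ncard_singleton] at this
      rw [add_comm, ← this]
      rfl
    omega
  have h3 : Nat.card (G ⧸ M) = M.index := rfl
  rw [h2, h3] at h1
  have h4 := Subgroup.card_mul_index M
  have h5 : 0 < Nat.card M := Nat.card_pos
  have h6 : Nat.card {x : G | x ≠ 1 ∧ ∃ g : G, x ∈ MulAut.conj g • M} =
    Set.ncard {x : G | x ≠ 1 ∧ ∃ g : G, x ∈ MulAut.conj g • M} := rfl
  rw [h6] at h1
  obtain ⟨k, hk⟩ := Nat.exists_eq_succ_of_ne_zero h5.ne'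
  rw [hk] at h1 h4
  simp only [Nat.succ_sub_one] at h1
  have : M.index * k + M.index = Nat.card G := by rw [← h4, Nat.succ_eq_add_one]; ring
  omega

/-- a finite simple group all of whose proper subgroups are nilpotent is nilpotent -/
theorem not_simple {G : Type u} [Group G] [Finite G] [IsSimpleGroup G]
    (h : ∀ H : Subgroup G, H ≠ ⊤ → Group.IsNilpotent H) : Group.IsNilpotent G := by
  classical
  by_contra hG
  -- cyclic groups are nilpotent
  have hcyc : ∀ x : G, zpowers x ≠ ⊤ := by
    intro x hx
    have : IsCyclic G := (isCyclic_iff_exists_zpowers_eq_top).mpr ⟨x, hx⟩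
    apply hG
    exact @CommGroup.isNilpotent G IsCyclic.commGroup
  have hcoat : ∀ H : Subgroup G, H ≠ ⊤ → ∃ M, IsCoatom M ∧ H ≤ M := by
    intro H hH
    exact (eq_top_or_exists_le_coatom H).resolve_left hH
  have hnorm : ∀ H : Subgroup G, H ≠ ⊥ → H ≠ ⊤ → normalizer (H : Set G) ≠ ⊤ := by
    intro H h1 h2 h3
    have : H.Normal := Subgroup.normalizer_eq_top_iff.mp h3
    rcases this.eq_bot_or_eq_top with h | h
    · exact h1 h
    · exact h2 h
  -- distinct maximal subgroups intersect trivially
  have hint : ∀ k : ℕ, ∀ M1 M2 : Subgroup G, IsCoatom M1 → IsCoatom M2 → M1 ≠ M2 →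
      Nat.card G - Nat.card (M1 ⊓ M2 : Subgroup G) = k → M1 ⊓ M2 = ⊥ := by
    intro k
    induction k using Nat.strong_induction_on with
    | _ k ih =>
      intro M1 M2 hM1 hM2 hne hk
      by_contra hD
      set D := M1 ⊓ M2 with hDdef
      have hDt : D ≠ ⊤ := fun h => hM1.1 (top_le_iff.mp (h ▸ inf_le_left))
      obtain ⟨M3, hM3, hNM3⟩ := hcoat _ (hnorm D hD hDt)
      have hstep : ∀ M : Subgroup G, IsCoatom M → D ≤ M → D ≠ M → M = M3 := by
        intro M hM hDM hDneM
        by_contra hMM3
        have hnil := h M hM.1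
        have h1 : D.subgroupOf M < ⊤ := by
          rw [lt_top_iff_ne_top, Ne, Subgroup.subgroupOf_eq_top]
          intro h; exact hDneM (le_antisymm hDM h)
        have h2 := Group.normalizerCondition_of_isNilpotent _ h1
        -- element of M normalizing D, not in D
        obtain ⟨x, hx, hxD⟩ := SetLike.exists_of_lt h2
        have hxN : (x : G) ∈ normalizer (D : Set G) := by
          rw [Subgroup.mem_normalizer_iff] at hx ⊢
          intro y
          constructor
          · intro hy
            have := (hx ⟨y, hDM hy⟩).mp (by rw [mem_subgroupOf]; exact hy)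
            exact mem_subgroupOf.mp this
          · intro hy
            have hyM : y ∈ M := by
              have h12 : (x : G) * y * (x : G)⁻¹ ∈ M := hDM hy
              have : y = (x : G)⁻¹ * ((x : G) * y * (x : G)⁻¹) * x := by group
              rw [this]
              exact mul_mem (mul_mem (inv_mem x.2) h12) x.2
            have := (hx ⟨y, hyM⟩).mpr (by rw [mem_subgroupOf]; exact hy)
            exact mem_subgroupOf.mp this
        have h3 : D < M ⊓ M3 := by
          refine lt_of_le_of_ne (le_inf hDM (Subgroup.le_normalizer.trans hNM3)) ?_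
          intro he
          apply hxD
          rw [mem_subgroupOf, he]
          exact ⟨x.2, hNM3 hxN⟩
        have h4 : Nat.card D < Nat.card (M ⊓ M3 : Subgroup G) := by
          refine lt_of_le_of_ne (Subgroup.card_le_of_le h3.le) ?_
          intro h
          exact h3.ne (Subgroup.eq_of_le_of_card_ge h3.le h.ge)
        have h5 : Nat.card (M ⊓ M3 : Subgroup G) ≤ Nat.card G :=
          Nat.le_of_dvd Nat.card_pos (Subgroup.card_subgroup_dvd_card _)
        have h6 := ih _ (by omega) M M3 hM hM3 hMM3 rfl
        rw [h6] at h3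
        exact absurd h3 not_lt_bot
      have e1 : D ≠ M1 := by
        intro he
        have h1 : M1 ≤ M2 := he ▸ inf_le_right
        exact hne ((hM1.le_iff.mp h1).resolve_left hM2.1).symm
      have e2 : D ≠ M2 := by
        intro he
        have h1 : M2 ≤ M1 := he ▸ inf_le_left
        exact hne ((hM2.le_iff.mp h1).resolve_left hM1.1)
      exact hne ((hstep M1 hM1 inf_le_left e1).trans (hstep M2 hM2 inf_le_right e2).symm)
  have hint' : ∀ M1 M2 : Subgroup G, IsCoatom M1 → IsCoatom M2 → M1 ≠ M2 → M1 ⊓ M2 = ⊥ :=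
    fun M1 M2 h1 h2 h3 => hint _ M1 M2 h1 h2 h3 rfl
  -- pick an element and a maximal subgroup
  have hntr : Nontrivial G := inferInstance
  obtain ⟨x, hx⟩ := exists_ne (1 : G)
  have hconjcoat : ∀ (M : Subgroup G) (g : G), IsCoatom M → IsCoatom (MulAut.conj g • M) := by
    intro M g hM
    constructor
    · intro h
      apply hM.1
      rw [eq_top_iff]
      intro x _
      have : MulAut.conj g • x ∈ MulAut.conj g • M := h ▸ Subgroup.mem_top _
      exact Subgroup.smul_mem_pointwise_smul_iff.mp this
    · intro K hK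
      have h1 : M < (MulAut.conj g)⁻¹ • K := by
        refine lt_of_le_of_ne ?_ ?_
        · rw [Subgroup.subset_pointwise_smul_iff, inv_inv]; exact hK.le
        · intro he
          apply hK.ne
          rw [he]; simp
      have h2 := hM.2 _ h1
      rw [eq_top_iff]
      intro x _
      have : (MulAut.conj g)⁻¹ • x ∈ (MulAut.conj g)⁻¹ • K := h2 ▸ Subgroup.mem_top _
      exact Subgroup.smul_mem_pointwise_smul_iff.mp this
  -- properties of a maximal subgroup containing a nontrivial element
  have hself : ∀ M : Subgroup G, IsCoatom M → M ≠ ⊥ → ∀ g, g ∉ M → M ⊓ (MulAut.conj g • M) = ⊥ := by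
    intro M hM hMb g hg
    apply hint' M _ hM (hconjcoat M g hM)
    intro he
    apply hg
    have h1 : g ∈ normalizer (M : Set G) := mem_normalizer_iff_conj.mpr he.symm
    have h2 : normalizer (M : Set G) = M := by
      by_contra hcon
      have : M < normalizer (M : Set G) := lt_of_le_of_ne Subgroup.le_normalizer (Ne.symm hcon)
      exact hnorm M hMb hM.1 (hM.2 _ this)
    rw [← h2]; exact h1
  have hidx : ∀ M : Subgroup G, IsCoatom M → M ≠ ⊥ → 2 * M.index ≤ Nat.card G := by
    intro M hM hMb
    rw [← Subgroup.card_mul_index M]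
    have : 1 < Nat.card M := (Subgroup.one_lt_card_iff_ne_bot M).mpr hMb
    exact Nat.mul_le_mul_right _ this
  obtain ⟨M, hM, hxM⟩ := hcoat _ (hcyc x)
  have hMb : M ≠ ⊥ := by
    intro hb; rw [hb, le_bot_iff, zpowers_eq_bot] at hxM; exact hx hxM
  obtain ⟨y, hy⟩ := H76.ConjCover.exists_forall_conj_notMem M hM.1
  obtain ⟨M', hM', hyM'⟩ := hcoat _ (hcyc y)
  have hy1 : y ≠ 1 := by
    intro h; apply hy 1; rw [h]; simp
  have hM'b : M' ≠ ⊥ := by
    intro hb; rw [hb, le_bot_iff, zpowers_eq_bot] at hyM'; exact hy1 hyM'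
  have hc1 := card_le_of_ti M (hself M hM hMb)
  have hc2 := card_le_of_ti M' (hself M' hM' hM'b)
  have hi1 := hidx M hM hMb
  have hi2 := hidx M' hM' hM'b
  set A := {x : G | x ≠ 1 ∧ ∃ g : G, x ∈ MulAut.conj g • M} with hA
  set B := {x : G | x ≠ 1 ∧ ∃ g : G, x ∈ MulAut.conj g • M'} with hB
  have hdisj : Disjoint A B := by
    rw [Set.disjoint_left]
    rintro z ⟨hz1, g, hg⟩ ⟨-, g', hg'⟩
    have h1 : MulAut.conj g • M ≠ MulAut.conj g' • M' := by
      intro he
      have h2 : y ∈ M' := hyM' (mem_zpowers y)
      have h3 : g' * y * g'⁻¹ ∈ MulAut.conj g' • M' := by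
        rw [mem_conj_smul_iff]
        have : g'⁻¹ * (g' * y * g'⁻¹) * g' = y := by group
        rw [this]; exact h2
      rw [← he, mem_conj_smul_iff] at h3
      apply hy (g'⁻¹ * g)
      have : (g'⁻¹ * g)⁻¹ * y * (g'⁻¹ * g) = g⁻¹ * (g' * y * g'⁻¹) * g := by group
      rw [this]; exact h3
    have h2 := hint' _ _ (hconjcoat M g hM) (hconjcoat M' g' hM') h1
    have h3 : z ∈ MulAut.conj g • M ⊓ MulAut.conj g' • M' := ⟨hg, hg'⟩
    rw [h2, mem_bot] at h3
    exact hz1 h3
  have hsub : A ∪ B ⊆ {z : G | z ≠ 1} := by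
    rintro z (hz | hz)
    · exact hz.1
    · exact hz.1
  have hcard1 : (A ∪ B).ncard = A.ncard + B.ncard := Set.ncard_union_eq hdisj
  have hcard2 : (A ∪ B).ncard ≤ ({z : G | z ≠ 1}).ncard := Set.ncard_le_ncard hsub
  have hcard3 : ({z : G | z ≠ 1}).ncard + 1 = Nat.card G := by
    have := Set.ncard_add_ncard_compl ({1} : Set G)
    rw [Set.ncard_singleton, add_comm] at this
    exact this
  omega

/-- **Schmidt**: a finite group all of whose proper subgroups are nilpotent is solvable -/
theorem isSolvable {G : Type u} [Group G] [Finite G]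
    (h : ∀ H : Subgroup G, H ≠ ⊤ → Group.IsNilpotent H) : Group.IsSolvable G := by
  induction hn : Nat.card G using Nat.strong_induction_on generalizing G with
  | _ n ih =>
    rcases subsingleton_or_nontrivial G with hs | hs
    · infer_instance
    by_cases hsimp : IsSimpleGroup G
    · have := not_simple h
      infer_instance
    · have : ∃ N : Subgroup G, N.Normal ∧ N ≠ ⊥ ∧ N ≠ ⊤ := by
        by_contra hcon
        push Not at hcon
        apply hsimp
        exact ⟨fun N hN => by
          by_cases hb : N = ⊥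
          · exact Or.inl hb
          · exact Or.inr (hcon N hN hb)⟩
      obtain ⟨N, hN, hNb, hNt⟩ := this
      have hNn := h N hNt
      have hlt : Nat.card (G ⧸ N) < n := by
        rw [← hn, Subgroup.card_eq_card_quotient_mul_card_subgroup N]
        have h1 : 1 < Nat.card N := (Subgroup.one_lt_card_iff_ne_bot N).mpr hNb
        have h2 : 0 < Nat.card (G ⧸ N) := Nat.card_pos
        nlinarith
      have hq : Group.IsSolvable (G ⧸ N) := by
        refine ih _ hlt ?_ rfl
        intro H hH
        have h1 : H.comap (QuotientGroup.mk' N) ≠ ⊤ := by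
          intro he
          apply hH
          rw [← Subgroup.map_comap_eq_self_of_surjective (QuotientGroup.mk'_surjective N) H, he]
          exact Subgroup.map_top_of_surjective _ (QuotientGroup.mk'_surjective N)
        have h2 := h _ h1
        have hsurj : Function.Surjective ((QuotientGroup.mk' N).subgroupMap
            (H.comap (QuotientGroup.mk' N))) := MonoidHom.subgroupMap_surjective _ _
        have h3 := Group.nilpotent_of_surjective _ hsurj
        rwa [Subgroup.map_comap_eq_self_of_surjective (QuotientGroup.mk'_surjective N)] at h3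
      exact Group.isSolvable_of_ker_le_range N.subtype (QuotientGroup.mk' N)
        (by rw [QuotientGroup.ker_mk', Subgroup.range_subtype])

end H11.MinNonNilp
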