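import Mathlib
import Cfsg.Prelude.Def_SolvableStructure
import Cfsg.Prelude.Def_Transfer
import Cfsg.Agent.Lib.H11.MinNonNilp
import Cfsg.Agent.Lib.H1.Hall

set_option autoImplicit false

/-!
Structure of minimal non-nilpotent and minimal non-abelian finite groups.
-/

namespace H11.MinNonNilp2

open Subgroup H11.SubnormalJoin H11.MinNonNilp
open scoped Pointwise

universe u v

/-- in a finite nilpotent subgroup `H`, a `p`-subgroup and a `q`-subgroup (`p ≠ q` primes) commute -/
theorem commute_of_nilpotent {G : Type u} [Group G] [Finite G] (H A B : Subgroup G)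
    [hH : Group.IsNilpotent H] (p q : ℕ) [Fact p.Prime] [Fact q.Prime] (hpq : p ≠ q)
    (hA : IsPGroup p A) (hB : IsPGroup q B) (hAH : A ≤ H) (hBH : B ≤ H) {a b : G} (ha : a ∈ A)
    (hb : b ∈ B) : a * b = b * a := by
  obtain ⟨S, hS⟩ := (hA.comap_subtype (K := H)).exists_le_sylow
  obtain ⟨T, hT⟩ := (hB.comap_subtype (K := H)).exists_le_sylow
  have h1 : (⟨a, hAH ha⟩ : H) ∈ (S : Subgroup H) := hS (by rw [Subgroup.mem_comap]; exact ha)
  have h2 : (⟨b, hBH hb⟩ : H) ∈ (T : Subgroup H) := hT (by rw [Subgroup.mem_comap]; exact hb)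
  have hdisj : Disjoint (S : Subgroup H) (T : Subgroup H) := by
    exact IsPGroup.disjoint_of_ne p q hpq _ _ S.isPGroup' T.isPGroup'
  have h3 := Subgroup.commute_of_normal_of_disjoint (S : Subgroup H) (T : Subgroup H) inferInstance
    inferInstance hdisj _ _ h1 h2
  exact congrArg Subtype.val h3

/-- if `x` is a `p`-element, `Q` a `q`-subgroup and `⟨x⟩ Q` is proper then `x` centralizes `Q` -/
theorem commute_of_sup_ne_top {G : Type u} [Group G] [Finite G]
    (h : ∀ H : Subgroup G, H ≠ ⊤ → Group.IsNilpotent H) (p q : ℕ) [Fact p.Prime] [Fact q.Prime]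
    (hpq : p ≠ q) (A Q : Subgroup G) (hA : IsPGroup p A) (hQ : IsPGroup q Q)
    (hne : A ⊔ Q ≠ ⊤) {a b : G} (ha : a ∈ A) (hb : b ∈ Q) : a * b = b * a := by
  have := h _ hne
  exact commute_of_nilpotent (A ⊔ Q) A Q p q hpq hA hQ le_sup_left le_sup_right ha hb

theorem sylow_normal_of_normal_index {G : Type u} [Group G] [Finite G] (M : Subgroup G) [M.Normal]
    [Group.IsNilpotent M] (p q : ℕ) (hp : p.Prime) [hq : Fact q.Prime] (hM : M.index = p) (hqp : q ≠ p)
    (Q : Sylow q G) : (Q : Subgroup G).Normal := by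
  obtain ⟨Q'⟩ : Nonempty (Sylow q M) := inferInstance
  have hn : (Q' : Subgroup M).Normal := inferInstance
  have hchar := Q'.characteristic_of_normal hn
  have hle : (Q' : Subgroup M).map M.subtype ≤ (Q : Subgroup G) :=
    IsPGroup.le_sylow_of_normal (Q'.isPGroup'.map _) Q
  have hcard : Nat.card ((Q' : Subgroup M).map M.subtype) = Nat.card Q := by
    rw [Subgroup.card_map_of_injective M.subtype_injective]
    have h1 := Q'.card_eq_multiplicity
    have h2 : Nat.card G = Nat.card M * p := by rw [← hM]; exact (Subgroup.card_mul_index M).symm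
    rw [Q.card_eq_multiplicity, h2, Nat.factorization_mul Nat.card_pos.ne' hp.ne_zero,
      Finsupp.add_apply, hp.factorization, Finsupp.single_apply, if_neg (Ne.symm hqp), add_zero]
    exact h1
  have heq : (Q' : Subgroup M).map M.subtype = (Q : Subgroup G) :=
    Subgroup.eq_of_le_of_card_ge hle (le_of_eq hcard.symm)
  rw [← heq]
  infer_instance

theorem structure_nonNilpotent {G : Type u} [Group G] [Finite G] (hG : ¬ Group.IsNilpotent G)
    (h : ∀ H : Subgroup G, H ≠ ⊤ → Group.IsNilpotent H) :
    ∃ p q : ℕ, p.Prime ∧ q.Prime ∧ p ≠ q ∧ p ∣ Nat.card G ∧ q ∣ Nat.card G ∧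
      ∃ (P : Sylow p G) (Q : Sylow q G), IsCyclic P ∧ (Q : Subgroup G).Normal ∧
        (P : Subgroup G) ⊔ Q = ⊤ := by
  have hs : Group.IsSolvable G := isSolvable h
  have hnt : Nontrivial G := by
    rw [← not_subsingleton_iff_nontrivial]
    intro hsub; exact hG inferInstance
  have hbt : (⊥ : Subgroup G) ≠ ⊤ := bot_ne_top
  obtain ⟨M, hM, -, hMp⟩ := H1.SZ.exists_normal_prime_index (⊥ : Subgroup G) hbt inferInstance
  set p := M.index with hpdef
  have hpf : Fact p.Prime := ⟨hMp⟩
  have hMt : M ≠ ⊤ := by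
    intro he; rw [hpdef, he, Subgroup.index_top] at hMp; exact Nat.not_prime_one hMp
  have hMn := h M hMt
  have hsyl : ∀ (q : ℕ) [Fact q.Prime], q ≠ p → ∀ Q : Sylow q G, (Q : Subgroup G).Normal :=
    fun q _ hqp Q => sylow_normal_of_normal_index M p q hMp rfl hqp Q
  obtain ⟨P⟩ : Nonempty (Sylow p G) := inferInstance
  -- there is an element of P and a Sylow q-subgroup it does not centralize
  have hex : ∃ x ∈ (P : Subgroup G), ∃ q : ℕ, ∃ _ : Fact q.Prime, q ≠ p ∧ ∃ Q : Sylow q G,
      ∃ b ∈ (Q : Subgroup G), x * b ≠ b * x := by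
    by_contra hcon
    push Not at hcon
    apply hG
    refine ((Group.isNilpotent_of_finite_tfae (G := G)).out 0 3 rfl rfl).mpr ?_
    intro q hq Q
    by_cases hqp : q = p
    · -- P is normal
      have hPn : (P : Subgroup G).Normal := by
        rw [← Subgroup.normalizer_eq_top_iff]
        apply Subgroup.eq_top_of_card_eq
        apply Nat.dvd_antisymm (Subgroup.card_subgroup_dvd_card _)
        rw [← Nat.factorization_prime_le_iff_dvd Nat.card_pos.ne' Nat.card_pos.ne']
        intro r hr
        have hrf : Fact r.Prime := ⟨hr⟩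
        obtain ⟨R, hR⟩ : ∃ R : Sylow r G, (R : Subgroup G) ≤ normalizer ((P : Subgroup G) : Set G) := by
          by_cases hrp : r = p
          · subst hrp
            exact ⟨P, Subgroup.le_normalizer⟩
          · obtain ⟨R⟩ : Nonempty (Sylow r G) := inferInstance
            refine ⟨R, ?_⟩
            intro b hb
            rw [Subgroup.mem_normalizer_iff]
            have hc : ∀ x ∈ (P : Subgroup G), b * x * b⁻¹ = x := by
              intro x hx
              rw [← hcon x hx r hrf hrp R b hb]; group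
            intro x
            constructor
            · intro hx; rw [hc x hx]; exact hx
            · intro hx
              have h1 := hc _ hx
              have : b * x * b⁻¹ = x := by
                have h2 : b * (b * x * b⁻¹) * b⁻¹ = b * x * b⁻¹ := h1
                have h3 := congrArg (fun y => b⁻¹ * y * b) h2
                simpa [mul_assoc] using h3
              rwa [this] at hx
        have h4 : Nat.card R ∣ Nat.card (normalizer ((P : Subgroup G) : Set G)) :=
          Subgroup.card_dvd_of_le hR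
        rw [R.card_eq_multiplicity] at h4
        exact (Nat.Prime.pow_dvd_iff_le_factorization hr Nat.card_pos.ne').mp h4
      subst hqp
      have huniq : Q = P := by
        have := Sylow.unique_of_normal P hPn
        exact Subsingleton.elim _ _
      rw [huniq]; exact hPn
    · exact hsyl q hqp Q
  obtain ⟨x, hx, q, hq, hqp, Q, b, hb, hxb⟩ := hex
  have hxp : IsPGroup p (zpowers x) := P.isPGroup'.to_le (by rw [zpowers_le]; exact hx)
  have htop : zpowers x ⊔ (Q : Subgroup G) = ⊤ := by
    by_contra hne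
    exact hxb (commute_of_sup_ne_top h p q (Ne.symm hqp) (zpowers x) Q hxp Q.isPGroup' hne
      (mem_zpowers x) hb)
  have hQn := hsyl q hqp Q
  have hPQ : (P : Subgroup G) ⊔ Q = ⊤ := by
    rw [eq_top_iff, ← htop]
    exact sup_le_sup (by rw [zpowers_le]; exact hx) le_rfl
  have hdisj : (P : Subgroup G) ⊓ Q = ⊥ :=
    (IsPGroup.disjoint_of_ne p q (Ne.symm hqp) _ _ P.isPGroup' Q.isPGroup').eq_bot
  have hPx : (P : Subgroup G) = zpowers x := by
    have h1 := H1.Hall.card_sup_mul_card_inf (zpowers x) (Q : Subgroup G)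
    have h2 := H1.Hall.card_sup_mul_card_inf (P : Subgroup G) (Q : Subgroup G)
    have h3 : zpowers x ⊓ (Q : Subgroup G) = ⊥ := by
      rw [eq_bot_iff, ← hdisj]
      exact inf_le_inf_right _ (by rw [zpowers_le]; exact hx)
    rw [htop, h3] at h1
    rw [hPQ, hdisj, h1] at h2
    have h4 : Nat.card (zpowers x) = Nat.card (P : Subgroup G) :=
      Nat.eq_of_mul_eq_mul_right Nat.card_pos h2
    exact (Subgroup.eq_of_le_of_card_ge (by rw [zpowers_le]; exact hx) h4.ge).symm
  have hb1 : b ≠ 1 := by rintro rfl; simp at hxb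
  have hx1 : x ≠ 1 := by rintro rfl; simp at hxb
  have hdvd : ∀ (r : ℕ) [Fact r.Prime] (A : Subgroup G) (_ : IsPGroup r A) (a : G), a ∈ A → a ≠ 1 →
      r ∣ Nat.card G := by
    intro r hr A hA a ha ha1
    obtain ⟨k, hk⟩ := IsPGroup.iff_orderOf.mp hA ⟨a, ha⟩
    rw [← Subgroup.orderOf_coe] at hk
    have hk0 : k ≠ 0 := by
      rintro rfl
      rw [pow_zero, orderOf_eq_one_iff] at hk
      exact ha1 hk
    have h1 : r ∣ orderOf a := by
      have : orderOf a = r ^ k := hk
      rw [this]; exact dvd_pow_self r hk0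
    exact h1.trans (orderOf_dvd_natCard a)
  refine ⟨p, q, hMp, hq.out, Ne.symm hqp, hdvd p _ P.isPGroup' x hx hx1, hdvd q _ Q.isPGroup' b hb hb1,
    P, Q, ?_, hQn, hPQ⟩
  have : IsCyclic (zpowers x) := inferInstance
  rw [← hPx] at this
  exact this

/-- if a group element `g` of order prime to `q` centralizes all elements of order dividing `q` of an
abelian `q`-group `Q` normalized by `g`, then it centralizes `Q` -/
theorem commute_of_omega {G : Type u} [Group G] [Finite G] (q : ℕ) [hq : Fact q.Prime] (Q : Subgroup G)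
    (hQ : IsPGroup q Q) (hQa : IsMulCommutative Q) (g : G) (hg : (orderOf g).Coprime q)
    (hgQ : ∀ x ∈ Q, g * x * g⁻¹ ∈ Q) (hom : ∀ x ∈ Q, x ^ q = 1 → g * x * g⁻¹ = x) :
    ∀ x ∈ Q, g * x * g⁻¹ = x := by
  have hcomm : ∀ x ∈ Q, ∀ y ∈ Q, x * y = y * x := by
    intro x hx y hy
    exact congrArg Subtype.val (hQa.is_comm.comm (⟨x, hx⟩ : Q) ⟨y, hy⟩)
  have key : ∀ k : ℕ, ∀ x ∈ Q, x ^ (q ^ k) = 1 → g * x * g⁻¹ = x := by
    intro k
    induction k with
    | zero => intro x _ hx1; rw [pow_zero, pow_one] at hx1; rw [hx1]; group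
    | succ k ih =>
      intro x hx hx1
      have h1 : (x ^ q) ^ (q ^ k) = 1 := by rw [← pow_mul, ← pow_succ']; exact hx1
      have h2 := ih (x ^ q) (pow_mem hx q) h1
      set y := g * x * g⁻¹ * x⁻¹ with hy
      have hgx := hgQ x hx
      have hyQ : y ∈ Q := mul_mem hgx (inv_mem hx)
      have hyq : y ^ q = 1 := by
        have hc : Commute (g * x * g⁻¹) x⁻¹ := hcomm _ hgx _ (inv_mem hx)
        rw [hy, hc.mul_pow, conj_pow, h2]; simp
      have hgy : g * y * g⁻¹ = y := hom y hyQ hyq
      have hstep : ∀ n : ℕ, g ^ n * x * (g ^ n)⁻¹ = y ^ n * x := by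
        intro n
        induction n with
        | zero => simp
        | succ n ihn =>
          have e1 : g ^ (n + 1) * x * (g ^ (n + 1))⁻¹ = g * (g ^ n * x * (g ^ n)⁻¹) * g⁻¹ := by
            rw [pow_succ']; group
          have e2 : g * (y ^ n * x) * g⁻¹ = (g * y ^ n * g⁻¹) * (g * x * g⁻¹) := by group
          have e3 : g * y ^ n * g⁻¹ = y ^ n := by rw [← conj_pow, hgy]
          have e4 : g * x * g⁻¹ = y * x := by rw [hy]; group
          rw [e1, ihn, e2, e3, e4, pow_succ]
          exact (mul_assoc _ _ _).symm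
      have h3 := hstep (orderOf g)
      rw [pow_orderOf_eq_one] at h3
      have h4 : y ^ orderOf g = 1 := by
        have : y ^ orderOf g * x = x := by rw [← h3]; simp
        exact mul_eq_right.mp this
      have h5 : orderOf y ∣ 1 := by
        rw [← hg]
        exact Nat.dvd_gcd (orderOf_dvd_of_pow_eq_one h4) (orderOf_dvd_of_pow_eq_one hyq)
      have h6 : y = 1 := orderOf_eq_one_iff.mp (Nat.dvd_one.mp h5)
      exact mul_inv_eq_one.mp h6
  intro x hx
  obtain ⟨k, hk⟩ := hQ ⟨x, hx⟩
  exact key k x hx (congrArg Subtype.val hk)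

theorem structure_nonAbelian {G : Type u} [Group G] [Finite G] (hna : ¬ IsMulCommutative G)
    (h : ∀ H : Subgroup G, H ≠ ⊤ → IsMulCommutative H) :
    (∃ p : ℕ, p.Prime ∧ IsPGroup p G) ∨ ∃ p q : ℕ, p.Prime ∧ q.Prime ∧ p ≠ q ∧
      ∃ (P : Sylow p G) (Q : Sylow q G), IsCyclic P ∧ (Q : Subgroup G).Normal ∧
        Cfsg.IsElementaryAbelian q (Q : Subgroup G) ∧ (P : Subgroup G) ⊔ Q = ⊤ := by
  classical
  have hn : ∀ H : Subgroup G, H ≠ ⊤ → Group.IsNilpotent H := by
    intro H hH
    have h1 := h H hH
    let _ : CommGroup H := { (inferInstance : Group H) with mul_comm := h1.is_comm.comm }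
    exact CommGroup.isNilpotent
  have hnt : Nontrivial G := by
    rw [← not_subsingleton_iff_nontrivial]
    intro hsub; exact hna ⟨⟨fun a b => Subsingleton.elim _ _⟩⟩
  by_cases hG : Group.IsNilpotent G
  · left
    -- all Sylow subgroups normal
    obtain ⟨p, hp, hpG⟩ := Nat.exists_prime_and_dvd (Finite.one_lt_card (α := G)).ne'
    refine ⟨p, hp, ?_⟩
    by_contra hcon
    apply hna
    have hpf : Fact p.Prime := ⟨hp⟩
    -- every Sylow subgroup is proper
    have hprop : ∀ (q : ℕ) [Fact q.Prime] (Q : Sylow q G), (Q : Subgroup G) ≠ ⊤ := by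
      intro q hq Q hQ
      have hqG : IsPGroup q G := by
        have := Q.isPGroup'
        have h1 : IsPGroup q (⊤ : Subgroup G) := by
          intro x
          have hx : (x : G) ∈ (Q : Subgroup G) := by rw [hQ]; trivial
          obtain ⟨k, hk⟩ := this ⟨x, hx⟩
          have h5 := congrArg (Subtype.val) hk
          exact ⟨k, Subtype.ext (by simpa using h5)⟩
        exact h1.of_equiv Subgroup.topEquiv
      apply hcon
      have hpq : p = q := by
        obtain ⟨k, hk⟩ := IsPGroup.iff_card.mp hqG
        rw [hk] at hpG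
        exact (Nat.prime_dvd_prime_iff_eq hp hq.out).mp (hp.dvd_of_dvd_pow hpG)
      rw [hpq]; exact hqG
    -- the centralizer of each element of a Sylow subgroup is everything
    have hcent : ∀ (q : ℕ) [Fact q.Prime] (Q : Sylow q G), (Q : Subgroup G) ≤ center G := by
      intro q hq Q
      have hC : centralizer ((Q : Subgroup G) : Set G) = ⊤ := by
        apply Subgroup.eq_top_of_card_eq
        apply Nat.dvd_antisymm (Subgroup.card_subgroup_dvd_card _)
        rw [← Nat.factorization_prime_le_iff_dvd Nat.card_pos.ne' Nat.card_pos.ne']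
        intro r hr
        have hrf : Fact r.Prime := ⟨hr⟩
        obtain ⟨R, hR⟩ : ∃ R : Sylow r G, (R : Subgroup G) ≤ centralizer ((Q : Subgroup G) : Set G) := by
          by_cases hrq : r = q
          · subst hrq
            refine ⟨Q, ?_⟩
            intro x hx
            rw [Subgroup.mem_centralizer_iff]
            intro y hy
            have := h _ (hprop r Q)
            exact congrArg Subtype.val (this.is_comm.comm (⟨y, hy⟩ : Q) ⟨x, hx⟩)
          · obtain ⟨R⟩ : Nonempty (Sylow r G) := inferInstance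
            refine ⟨R, ?_⟩
            intro x hx
            rw [Subgroup.mem_centralizer_iff]
            intro y hy
            have htop : Group.IsNilpotent (⊤ : Subgroup G) := inferInstance
            exact commute_of_nilpotent ⊤ (Q : Subgroup G) (R : Subgroup G) q r (Ne.symm hrq)
              Q.isPGroup' R.isPGroup' le_top le_top hy hx
        have h4 : Nat.card R ∣ Nat.card (centralizer ((Q : Subgroup G) : Set G)) :=
          Subgroup.card_dvd_of_le hR
        rw [R.card_eq_multiplicity] at h4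
        exact (Nat.Prime.pow_dvd_iff_le_factorization hr Nat.card_pos.ne').mp h4
      exact Subgroup.centralizer_eq_top_iff_subset.mp hC
    have hZ : center G = ⊤ := by
      apply Subgroup.eq_top_of_card_eq
      apply Nat.dvd_antisymm (Subgroup.card_subgroup_dvd_card _)
      rw [← Nat.factorization_prime_le_iff_dvd Nat.card_pos.ne' Nat.card_pos.ne']
      intro r hr
      have hrf : Fact r.Prime := ⟨hr⟩
      obtain ⟨R⟩ : Nonempty (Sylow r G) := inferInstance
      have h4 : Nat.card R ∣ Nat.card (center G) := Subgroup.card_dvd_of_le (hcent r R)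
      rw [R.card_eq_multiplicity] at h4
      exact (Nat.Prime.pow_dvd_iff_le_factorization hr Nat.card_pos.ne').mp h4
    refine ⟨⟨fun a b => ?_⟩⟩
    have : b ∈ center G := by rw [hZ]; trivial
    exact Subgroup.mem_center_iff.mp this a
  · right
    obtain ⟨p, q, hp, hq, hpq, hpG, hqG, P, Q, hP, hQ, hPQ⟩ := structure_nonNilpotent hG hn
    have hpf : Fact p.Prime := ⟨hp⟩
    have hqf : Fact q.Prime := ⟨hq⟩
    have hQt : (Q : Subgroup G) ≠ ⊤ := by
      intro hQt
      apply hG
      have := Q.isPGroup'.isNilpotent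
      have h1 : Group.IsNilpotent (⊤ : Subgroup G) := by rw [← hQt]; exact this
      exact (Group.isNilpotent_congr Subgroup.topEquiv).mp h1
    have hPt : (P : Subgroup G) ≠ ⊤ := by
      intro hPt
      apply hG
      have := P.isPGroup'.isNilpotent
      have h1 : Group.IsNilpotent (⊤ : Subgroup G) := by rw [← hPt]; exact this
      exact (Group.isNilpotent_congr Subgroup.topEquiv).mp h1
    have hQa := h _ hQt
    refine ⟨p, q, hp, hq, hpq, P, Q, hP, hQ, ⟨hQa, ?_⟩, hPQ⟩
    have hQcomm : ∀ x ∈ (Q : Subgroup G), ∀ y ∈ (Q : Subgroup G), x * y = y * x := by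
      intro x hx y hy
      exact congrArg Subtype.val (hQa.is_comm.comm (⟨x, hx⟩ : Q) ⟨y, hy⟩)
    have hPcomm : ∀ x ∈ (P : Subgroup G), ∀ y ∈ (P : Subgroup G), x * y = y * x := by
      intro x hx y hy
      exact congrArg Subtype.val ((h _ hPt).is_comm.comm (⟨x, hx⟩ : P) ⟨y, hy⟩)
    -- the subgroup of elements of order dividing q
    let W : Subgroup G :=
      { carrier := {x | x ∈ (Q : Subgroup G) ∧ x ^ q = 1}
        mul_mem' := by
          rintro a b ⟨ha, ha1⟩ ⟨hb, hb1⟩
          refine ⟨mul_mem ha hb, ?_⟩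
          rw [(show Commute a b from hQcomm a ha b hb).mul_pow, ha1, hb1, one_mul]
        one_mem' := ⟨one_mem _, one_pow _⟩
        inv_mem' := by
          rintro a ⟨ha, ha1⟩
          exact ⟨inv_mem ha, by rw [inv_pow, ha1, inv_one]⟩ }
    have hWQ : W ≤ (Q : Subgroup G) := fun x hx => hx.1
    have hWn : W.Normal := by
      constructor
      rintro x ⟨hx, hx1⟩ g
      exact ⟨hQ.conj_mem x hx g, by rw [conj_pow, hx1]; group⟩
    suffices hW : W = (Q : Subgroup G) by
      intro a ha
      rw [← hW] at ha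
      exact ha.2
    by_contra hWne
    have hPW : (P : Subgroup G) ⊔ W ≠ ⊤ := by
      intro he
      apply hWne
      apply le_antisymm hWQ
      have h1 := H1.Hall.card_sup_mul_card_inf (P : Subgroup G) W
      have h2 := H1.Hall.card_sup_mul_card_inf (P : Subgroup G) (Q : Subgroup G)
      have hdisj : (P : Subgroup G) ⊓ Q = ⊥ :=
        (IsPGroup.disjoint_of_ne p q hpq _ _ P.isPGroup' Q.isPGroup').eq_bot
      have hdisj' : (P : Subgroup G) ⊓ W = ⊥ := by
        rw [eq_bot_iff, ← hdisj]; exact inf_le_inf_left _ hWQ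
      rw [he, hdisj'] at h1
      rw [hPQ, hdisj, h1] at h2
      have h3 : Nat.card W = Nat.card (Q : Subgroup G) := Nat.eq_of_mul_eq_mul_left Nat.card_pos h2
      exact (Subgroup.eq_of_le_of_card_ge hWQ h3.ge).ge
    have hcomm := h _ hPW
    apply hna
    -- P centralizes Q
    have hPQc : ∀ g ∈ (P : Subgroup G), ∀ x ∈ (Q : Subgroup G), g * x * g⁻¹ = x := by
      intro g hg
      apply commute_of_omega q (Q : Subgroup G) Q.isPGroup' hQa g
      · obtain ⟨k, hk⟩ := IsPGroup.iff_orderOf.mp P.isPGroup' ⟨g, hg⟩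
        have hk' : orderOf g = p ^ k := by rw [← hk, Subgroup.orderOf_mk]
        rw [hk']
        exact Nat.Coprime.pow_left _ ((Nat.coprime_primes hp hq).mpr hpq)
      · intro x hx; exact hQ.conj_mem x hx g
      · intro x hx hx1
        have h1 : g ∈ (P : Subgroup G) ⊔ W := mem_sup_left hg
        have h2 : x ∈ (P : Subgroup G) ⊔ W := mem_sup_right (show x ∈ W from ⟨hx, hx1⟩)
        have h3 := congrArg Subtype.val (hcomm.is_comm.comm ⟨g, h1⟩ ⟨x, h2⟩)
        have h4 : g * x = x * g := h3
        rw [h4]; group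
    refine ⟨⟨fun a b => ?_⟩⟩
    have ha : a ∈ (P : Subgroup G) ⊔ (Q : Subgroup G) := by rw [hPQ]; trivial
    have hb : b ∈ (P : Subgroup G) ⊔ (Q : Subgroup G) := by rw [hPQ]; trivial
    obtain ⟨x, hx, y, hy, rfl⟩ := Subgroup.mem_sup_of_normal_right.mp ha
    obtain ⟨z, hz, w, hw, rfl⟩ := Subgroup.mem_sup_of_normal_right.mp hb
    have c1 : Commute x z := hPcomm x hx z hz
    have c2 : Commute y w := hQcomm y hy w hw
    have c3 : Commute x w := by
      have := hPQc x hx w hw
      exact mul_inv_eq_iff_eq_mul.mp this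
    have c4 : Commute z y := by
      have := hPQc z hz y hy
      exact mul_inv_eq_iff_eq_mul.mp this
    exact ((c1.mul_left c4.symm).mul_right (c3.mul_left c2)).eq

end H11.MinNonNilp2
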