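import Cfsg.Agent.Lib.H11.SelfCent1
import Cfsg.Agent.Lib.H11.Eppo4
import Cfsg.Agent.S3224
import Cfsg.Agent.S3225

/-! Finite simple groups in which noncyclic subgroups are self-centralizing: three divides the
order. -/

open Subgroup

universe u

namespace H11.SelfCent

section
variable {G : Type u} [Group G] [Finite G]

/-- if `C_S(v)` has order four then `S` (of order at least eight) has a cyclic subgroup of index 2 -/
theorem exists_cyclic_index_two {S : Type*} [Group S] [Finite S] (hS : IsPGroup 2 S) (v : S)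
    (hv : orderOf v = 2) (hC : Nat.card (centralizer ({v} : Set S)) = 4) (h8 : 8 ≤ Nat.card S) :
    ∃ r : S, (zpowers r).index = 2 ∧ 4 ≤ orderOf r := by
  rcases Cfsg.Agent.S3224.result hS v hv hC with ⟨n, ⟨f⟩⟩ | ⟨n, hn, hc, x, y, hx, -, -⟩ | h4
  · have h1 := Nat.card_congr f.toEquiv
    rw [DihedralGroup.nat_card] at h1
    have h2 : orderOf (f.symm (DihedralGroup.r 1)) = n := by
      rw [MulEquiv.orderOf_eq, DihedralGroup.orderOf_r_one]
    refine ⟨f.symm (DihedralGroup.r 1), ?_, by rw [h2]; omega⟩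
    have h3 := Subgroup.card_mul_index (zpowers (f.symm (DihedralGroup.r 1)))
    rw [Nat.card_zpowers, h2, h1] at h3
    have h4 : 0 < n := by omega
    exact Nat.eq_of_mul_eq_mul_left h4 (by rw [h3, mul_comm])
  · refine ⟨x, ?_, ?_⟩
    · have h3 := Subgroup.card_mul_index (zpowers x)
      rw [Nat.card_zpowers, hx, hc, pow_succ] at h3
      exact Nat.eq_of_mul_eq_mul_left (by positivity) h3
    · rw [hx]
      calc 4 = 2 ^ 2 := by norm_num
        _ ≤ 2 ^ n := Nat.pow_le_pow_right (by norm_num) (by omega)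
  · omega

theorem eq_of_order_two {A : Type*} [Group A] [Finite A] [IsCyclic A] {a b : A} (ha : orderOf a = 2)
    (hb : orderOf b = 2) : a = b := by
  have h1 := H1.FrobSyl.eq_of_card_eq (zpowers a) (zpowers b) (by
    rw [Nat.card_zpowers, Nat.card_zpowers, ha, hb])
  have h2 : a ∈ zpowers b := by rw [← h1]; exact mem_zpowers a
  have hbb : b * b = 1 := by rw [← pow_two, ← hb]; exact pow_orderOf_eq_one b
  obtain ⟨i, hi⟩ := h2
  have hi' : b ^ i = a := hi
  rcases Int.even_or_odd i with ⟨j, hj⟩ | ⟨j, hj⟩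
  · exfalso
    have h3 : a = 1 := by
      rw [← hi', hj, zpow_add, ← (Commute.refl b).mul_zpow, hbb, one_zpow]
    rw [h3, orderOf_one] at ha
    omega
  · rw [← hi', hj, zpow_add, zpow_one, two_mul, zpow_add, ← (Commute.refl b).mul_zpow, hbb, one_zpow,
      one_mul]

/-- an element permuting three involutions cyclically has order divisible by three -/
theorem three_dvd_of_cycle {y v z : G} (hvz : z ≠ v) (hzv : z * v ≠ v)
    (h1 : y * v * y⁻¹ = z * v) (h2 : y * z * y⁻¹ = v) (hzz : z * z = 1) (hvv : v * v = 1)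
    (hc : z * v = v * z) : 3 ∣ orderOf y := by
  have e2 : y ^ 2 * v * (y ^ 2)⁻¹ = z := by
    calc y ^ 2 * v * (y ^ 2)⁻¹ = y * (y * v * y⁻¹) * y⁻¹ := by rw [pow_two]; group
      _ = y * (z * v) * y⁻¹ := by rw [h1]
      _ = (y * z * y⁻¹) * (y * v * y⁻¹) := by group
      _ = v * (z * v) := by rw [h1, h2]
      _ = z := by rw [hc, ← mul_assoc, hvv, one_mul]
  have e3 : Commute (y ^ 3) v := by
    have h3 : y ^ 3 * v * (y ^ 3)⁻¹ = v := by
      calc y ^ 3 * v * (y ^ 3)⁻¹ = y * (y ^ 2 * v * (y ^ 2)⁻¹) * y⁻¹ := by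
            rw [pow_succ' y 2]; group
        _ = v := by rw [e2, h2]
    exact mul_inv_eq_iff_eq_mul.mp h3
  have hm : y ^ orderOf y = 1 := pow_orderOf_eq_one y
  by_contra hcon
  have hdiv := Nat.div_add_mod (orderOf y) 3
  have hlt : orderOf y % 3 < 3 := Nat.mod_lt _ (by norm_num)
  have hne : orderOf y % 3 ≠ 0 := fun h => hcon (Nat.dvd_of_mod_eq_zero h)
  have e4 : Commute ((y ^ 3) ^ (orderOf y / 3)) v := e3.pow_left _
  rcases (by omega : orderOf y % 3 = 1 ∨ orderOf y % 3 = 2) with h5 | h5
  · rw [← hdiv, h5, pow_add, pow_mul, pow_one] at hm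
    have h6 : y = ((y ^ 3) ^ (orderOf y / 3))⁻¹ := eq_inv_of_mul_eq_one_right hm
    have h7 : Commute y v := by rw [h6]; exact e4.inv_left
    have h8 : y * v * y⁻¹ = v := by rw [h7.eq, mul_inv_cancel_right]
    exact hzv (h1.symm.trans h8)
  · rw [← hdiv, h5, pow_add, pow_mul] at hm
    have h6 : y ^ 2 = ((y ^ 3) ^ (orderOf y / 3))⁻¹ := eq_inv_of_mul_eq_one_right hm
    have h7 : Commute (y ^ 2) v := by rw [h6]; exact e4.inv_left
    have h8 : y ^ 2 * v * (y ^ 2)⁻¹ = v := by rw [h7.eq, mul_inv_cancel_right]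
    exact hvz (e2.symm.trans h8)

/-- an element of `T` normalising `V = {1,z,v,zv}`, not in `V`, where `z` is central in `T` -/
theorem SC.exists_swap (h : SC G) {z v : G} (hp : H17.FourGrp.IsPair z v) {T : Subgroup G}
    (hT : IsPGroup 2 T) (hzc : ∀ s ∈ T, s * z = z * s) (hzT : z ∈ T) (hvT : v ∈ T)
    (h8 : 8 ≤ Nat.card T) : ∃ s ∈ T, s * v * s⁻¹ = z * v := by
  have := Fact.mk Nat.prime_two
  set V := H17.FourGrp.four z v hp with hV
  have hVT : V ≤ T := by
    rintro x (rfl | rfl | rfl | rfl)
    · exact T.one_mem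
    · exact hzT
    · exact hvT
    · exact T.mul_mem hzT hvT
  have hVc : Nat.card V = 4 := H17.FourGrp.card_four hp
  have hlt : V.subgroupOf T < ⊤ := by
    rw [lt_top_iff_ne_top]
    intro h1
    rw [Subgroup.subgroupOf_eq_top] at h1
    have h2 := Subgroup.card_le_of_le h1
    omega
  have : Group.IsNilpotent T := hT.isNilpotent
  have hnc := Group.normalizerCondition_of_isNilpotent (G := T) (V.subgroupOf T) hlt
  obtain ⟨⟨s, hs⟩, hsn, hsV⟩ := SetLike.exists_of_lt hnc
  have hsV' : s ∉ V := fun h1 => hsV h1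
  refine ⟨s, hs, ?_⟩
  have h1 : s * v * s⁻¹ ∈ V := by
    have h2 := (Subgroup.mem_normalizer_iff.mp hsn (⟨v, hvT⟩ : T)).mp (by
      change v ∈ V; exact Or.inr (Or.inr (Or.inl rfl)))
    exact h2
  have hsz : s * z * s⁻¹ = z := by rw [hzc s hs, mul_inv_cancel_right]
  rcases h1 with h1 | h1 | h1 | h1
  · exfalso
    apply hp.hb
    calc v = s⁻¹ * (s * v * s⁻¹) * s := by group
      _ = 1 := by rw [h1]; group
  · exfalso
    apply hp.hab
    have h2 : s * v * s⁻¹ = s * z * s⁻¹ := h1.trans hsz.symm
    have h3 := mul_left_cancel (mul_right_cancel h2)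
    exact h3.symm
  · exfalso
    apply hsV'
    exact h.four hp (hzc s hs) (mul_inv_eq_iff_eq_mul.mp h1)
  · exact h1

theorem SC.three_dvd (h : SC G) [IsSimpleGroup G] (hG : ¬ IsCyclic G) (h8 : 8 ∣ Nat.card G) :
    3 ∣ Nat.card G := by
  classical
  have := Fact.mk Nat.prime_two
  have h2G : 2 ∣ Nat.card G := (by norm_num : 2 ∣ 8).trans h8
  obtain ⟨S⟩ : Nonempty (Sylow 2 G) := inferInstance
  have hS8 : 8 ≤ Nat.card (S : Subgroup G) := by
    have h1 : 2 ^ 3 ∣ Nat.card (S : Subgroup G) := S.pow_dvd_card_of_pow_dvd_card (by norm_num; exact h8)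
    exact Nat.le_of_dvd Nat.card_pos (by norm_num at h1; exact h1)
  have hnt : Nontrivial (S : Subgroup G) := by
    rw [← Finite.one_lt_card_iff_nontrivial]; omega
  have hcen : Nontrivial (center (S : Subgroup G)) := S.isPGroup'.center_nontrivial
  have hcP : IsPGroup 2 (center (S : Subgroup G)) := S.isPGroup'.to_subgroup _
  have h2 : 2 ∣ Nat.card (center (S : Subgroup G)) := by
    obtain ⟨n, hn⟩ := IsPGroup.iff_card.mp hcP
    rw [hn]
    apply dvd_pow_self
    rintro rfl
    have := Finite.one_lt_card_iff_nontrivial.mpr hcen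
    omega
  obtain ⟨⟨z', hz'⟩, hz2⟩ := exists_prime_orderOf_dvd_card' 2 h2
  rw [Subgroup.orderOf_mk] at hz2
  obtain ⟨z, hzS⟩ := z'
  rw [Subgroup.orderOf_mk] at hz2
  have hzc : ∀ s ∈ S, s * z = z * s := by
    intro s hs
    exact congrArg Subtype.val (Subgroup.mem_center_iff.mp hz' ⟨s, hs⟩)
  obtain ⟨v, hp⟩ := exists_pair hG z hz2
  -- `C(z) = S`
  have hCz := h.cit hG z hz2
  have hSC : (S : Subgroup G) ≤ centralizer ({z} : Set G) :=
    fun s hs => mem_centralizer_singleton_iff.mpr (hzc s hs)
  have hSeq : centralizer ({z} : Set G) = S := S.is_maximal' hCz hSC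
  have hvS : v ∈ S := by
    have h1 : v ∈ centralizer ({z} : Set G) := mem_centralizer_singleton_iff.mpr hp.hcomm.symm
    rw [hSeq] at h1
    exact h1
  have hv2 : orderOf v = 2 := orderOf_eq_prime (by rw [pow_two]; exact hp.hbb) hp.hb
  -- the centralizer of `v` in `S`
  let vS : (S : Subgroup G) := ⟨v, hvS⟩
  have hC4 : Nat.card (centralizer ({vS} : Set (S : Subgroup G))) = 4 := by
    rw [← Subgroup.card_map_of_injective (f := (S : Subgroup G).subtype) Subtype.val_injective,
      ← H17.FourGrp.card_four hp]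
    have h1 : (centralizer ({vS} : Set (S : Subgroup G))).map (S : Subgroup G).subtype =
        H17.FourGrp.four z v hp := by
      ext x
      constructor
      · rintro ⟨⟨y, hy⟩, hy2, rfl⟩
        exact h.four hp (hzc y hy) (congrArg Subtype.val (mem_centralizer_singleton_iff.mp hy2))
      · intro hx
        have hxS : x ∈ S := by
          rcases hx with rfl | rfl | rfl | rfl
          · exact one_mem _
          · exact hzS
          · exact hvS
          · exact mul_mem hzS hvS
        refine ⟨⟨x, hxS⟩, mem_centralizer_singleton_iff.mpr (Subtype.ext ?_), rfl⟩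
        change x * v = v * x
        rcases hx with rfl | rfl | rfl | rfl
        · rw [mul_one, one_mul]
        · exact hp.hcomm
        · rfl
        · rw [mul_assoc, ← mul_assoc v, ← hp.hcomm, mul_assoc]
    rw [h1]
  obtain ⟨r, hri, hr4⟩ := exists_cyclic_index_two S.isPGroup' vS
    (by rw [Subgroup.orderOf_mk, hv2]) hC4 hS8
  -- transfer
  have hidx : ∀ H : Subgroup G, H.index ≠ 2 := by
    intro H hH
    have hn := Subgroup.normal_of_index_eq_two hH
    rcases hn.eq_bot_or_eq_top with h1 | h1
    · rw [h1, Subgroup.index_bot] at hH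
      have := Nat.le_of_dvd (by rw [hH]; norm_num) h8
      omega
    · rw [h1, Subgroup.index_top] at hH
      omega
  set M := (zpowers r).map (S : Subgroup G).subtype with hM
  have hMS : M ≤ (S : Subgroup G) := Subgroup.map_subtype_le _
  have hMrel : M.relIndex (S : Subgroup G) = 2 := by
    have h1 : M.subgroupOf (S : Subgroup G) = zpowers r :=
      Subgroup.comap_map_eq_self_of_injective Subtype.val_injective _
    rw [Subgroup.relIndex, h1]
    exact hri
  obtain ⟨g, hg⟩ := Cfsg.Agent.S3225.result (even_iff_two_dvd.mpr h2G) hidx S M hMS hMrel 1 le_rfl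
    (fun y hy hyM => by
      rw [Nat.sub_self, pow_zero]
      have h1 : y ≠ 1 := by rintro rfl; exact hyM M.one_mem
      have h2 := orderOf_pos y
      have h3 : orderOf y ≠ 1 := by rwa [Ne, orderOf_eq_one_iff]
      omega) v hvS (by rw [hv2, pow_one])
  -- the involution of `M` is `z`
  have hgz : g * v * g⁻¹ = z := by
    set u := g * v * g⁻¹ with hu
    have huu : u * u = 1 := by
      rw [hu]
      calc g * v * g⁻¹ * (g * v * g⁻¹) = g * (v * v) * g⁻¹ := by group
        _ = 1 := by rw [hp.hbb]; group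
    have hu1 : u ≠ 1 := by
      intro h1
      apply hp.hb
      calc v = g⁻¹ * u * g := by rw [hu]; group
        _ = 1 := by rw [h1]; group
    obtain ⟨⟨u', hu'S⟩, hu', hu'e⟩ := hg
    have hu'e' : u' = u := hu'e
    subst hu'e'
    -- `u` is centralized by `S`
    have hrS : ∀ s : (S : Subgroup G), ∃ i : ℤ, s * r * s⁻¹ = r ^ i := by
      intro s
      have hn := Subgroup.normal_of_index_eq_two hri
      obtain ⟨i, hi⟩ := hn.conj_mem r (mem_zpowers r) s
      exact ⟨i, hi.symm⟩
    have hucen : ∀ s ∈ S, s * u = u * s := by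
      intro s hs
      have hn := Subgroup.normal_of_index_eq_two hri
      have h1 := hn.conj_mem _ hu' ⟨s, hs⟩
      -- unique involution in a cyclic group
      have hcyc : IsCyclic (zpowers r) := inferInstance
      have h2 : orderOf (⟨⟨u, hu'S⟩, hu'⟩ : zpowers r) = 2 := by
        rw [Subgroup.orderOf_mk, Subgroup.orderOf_mk]
        exact orderOf_eq_prime (by rw [pow_two]; exact huu) hu1
      have h3 : orderOf (⟨_, h1⟩ : zpowers r) = 2 := by
        rw [Subgroup.orderOf_mk, ← Subgroup.orderOf_coe]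
        change orderOf (s * u * s⁻¹) = 2
        apply orderOf_eq_prime
        · rw [pow_two]
          calc s * u * s⁻¹ * (s * u * s⁻¹) = s * (u * u) * s⁻¹ := by group
            _ = 1 := by rw [huu]; group
        · intro h4
          apply hu1
          calc u = s⁻¹ * (s * u * s⁻¹) * s := by group
            _ = 1 := by rw [h4]; group
      have h4 : (⟨_, h1⟩ : zpowers r) = ⟨⟨u, hu'S⟩, hu'⟩ := eq_of_order_two h3 h2
      have h5 : s * u * s⁻¹ = u := congrArg (fun x : zpowers r => ((x : (S : Subgroup G)) : G)) h4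
      exact mul_inv_eq_iff_eq_mul.mp h5
    rcases h.four hp (hzc u hu'S) (hucen v hvS).symm with h1 | h1 | h1 | h1
    · exact absurd h1 hu1
    · exact h1
    · exfalso
      -- `v` central in `S`
      have h2 : centralizer ({vS} : Set (S : Subgroup G)) = ⊤ := by
        rw [eq_top_iff]
        intro s _
        refine mem_centralizer_singleton_iff.mpr (Subtype.ext ?_)
        have := hucen s s.2
        rw [h1] at this
        exact this
      rw [h2, Subgroup.card_top] at hC4
      omega
    · exfalso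
      have h2 : centralizer ({vS} : Set (S : Subgroup G)) = ⊤ := by
        rw [eq_top_iff]
        intro s _
        refine mem_centralizer_singleton_iff.mpr (Subtype.ext ?_)
        have h3 := hucen s s.2
        rw [h1] at h3
        have h4 := hzc s s.2
        have h5 : Commute (s : G) (z * (z * v)) := (show Commute (s : G) z from h4).mul_right h3
        rw [← mul_assoc, hp.haa, one_mul] at h5
        exact h5.eq
      rw [h2, Subgroup.card_top] at hC4
      omega
  -- swaps
  obtain ⟨s, hs, hsv⟩ := h.exists_swap hp S.isPGroup' hzc hzS hvS hS8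
  have hp' : H17.FourGrp.IsPair v z := hp.symm
  have hCv := h.cit hG v hv2
  have hCv8 : 8 ≤ Nat.card (centralizer ({v} : Set G)) := by
    have h1 : Nat.card (centralizer ({v} : Set G)) = Nat.card (centralizer ({z} : Set G)) := by
      have h2 := card_class v
      have h3 := card_class z
      have h4 : {c : G // ∃ g, g * v * g⁻¹ = c} = {c : G // ∃ g, g * z * g⁻¹ = c} := by
        congr 1
        funext c
        apply propext
        constructor
        · rintro ⟨k, rfl⟩
          exact ⟨k * g⁻¹, by rw [← hgz]; group⟩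
        · rintro ⟨k, rfl⟩
          exact ⟨k * g, by rw [← hgz]; group⟩
      rw [h4] at h2
      have h5 : 0 < Nat.card {c : G // ∃ g, g * z * g⁻¹ = c} := by
        have : Nonempty {c : G // ∃ g, g * z * g⁻¹ = c} := ⟨⟨z, 1, by group⟩⟩
        exact Nat.card_pos
      exact Nat.eq_of_mul_eq_mul_left h5 (h2.trans h3.symm)
    rw [h1, hSeq]
    exact hS8
  obtain ⟨s', hs', hsz'⟩ := h.exists_swap hp' hCv
    (fun x hx => mem_centralizer_singleton_iff.mp hx) (mem_centralizer_singleton_iff.mpr rfl)
    (mem_centralizer_singleton_iff.mpr hp.hcomm) hCv8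
  have hs'v : s' * v * s'⁻¹ = v := by
    rw [mem_centralizer_singleton_iff.mp hs', mul_inv_cancel_right]
  have hsz : s * z * s⁻¹ = z := by rw [hzc s hs, mul_inv_cancel_right]
  have k1 : (s * s') * v * (s * s')⁻¹ = z * v := by
    calc (s * s') * v * (s * s')⁻¹ = s * (s' * v * s'⁻¹) * s⁻¹ := by group
      _ = z * v := by rw [hs'v, hsv]
  have k2 : (s * s') * z * (s * s')⁻¹ = v := by
    calc (s * s') * z * (s * s')⁻¹ = s * (s' * z * s'⁻¹) * s⁻¹ := by group
      _ = (s * v * s⁻¹) * (s * z * s⁻¹) := by rw [hsz']; group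
      _ = z * v * z := by rw [hsv, hsz]
      _ = v := by rw [mul_assoc, ← hp.hcomm, ← mul_assoc, hp.haa, one_mul]
  have h3 := three_dvd_of_cycle (fun h1 => hp.hab h1) hp.mul_ne_right k1 k2 hp.haa hp.hbb hp.hcomm
  exact h3.trans (orderOf_dvd_natCard _)

end

end H11.SelfCent
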