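import Cfsg.Agent.Lib.H11.SelfCent2
import Cfsg.Agent.Lib.H50.PSLBasic
import Cfsg.Agent.Lib.H98.DicksonField

/-! Finite simple groups in which noncyclic subgroups are self-centralizing: identification. -/

open Subgroup Matrix

universe u

namespace H11.SelfCent

open H98.DicksonField

theorem SC.of_equiv {G H : Type*} [Group G] [Group H] (e : G ≃* H) (h : SC G) : SC H := by
  intro K hK
  have hK' : ¬ IsCyclic (K.comap (e : G →* H)) := by
    intro hc
    apply hK
    have hs : Function.Surjective (((e : G →* H).subgroupComap K)) := by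
      rintro ⟨y, hy⟩
      refine ⟨⟨e.symm y, ?_⟩, ?_⟩
      · rw [Subgroup.mem_comap]
        simpa using hy
      · apply Subtype.ext
        exact e.apply_symm_apply y
    exact isCyclic_of_surjective _ hs
  have h1 := h _ hK'
  intro x hx
  have h2 : e.symm x ∈ centralizer ((K.comap (e : G →* H) : Subgroup G) : Set G) := by
    rw [Subgroup.mem_centralizer_iff]
    intro y hy
    apply e.injective
    rw [map_mul, map_mul, e.apply_symm_apply]
    exact (Subgroup.mem_centralizer_iff.mp hx) _ hy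
  have h3 := h1 h2
  have h4 : e (e.symm x) ∈ K := h3
  rwa [e.apply_symm_apply] at h4

section
variable {F : Type*} [Field F] [Fintype F]

theorem mk_up_ne {F : Type*} [Field F] {a b : F} (hab : a ≠ b) :
    (QuotientGroup.mk (up a) : ProjectiveSpecialLinearGroup (Fin 2) F) ≠ QuotientGroup.mk (up b) := by
  intro h
  rw [H50.PSLBasic.mk_eq_mk_iff] at h
  obtain ⟨c, hc⟩ := h
  have h0 := congrFun (congrFun hc 0) 0
  have h1 := congrFun (congrFun hc 0) 1
  rw [coe_up, coe_up] at h0 h1
  simp at h0 h1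
  rw [← h0, one_mul] at h1
  exact hab h1.symm

theorem up_mul' {F : Type*} [Field F] (a b : F) : up a * up b = up (a + b) := by
  apply sl_ext
  rw [Matrix.SpecialLinearGroup.coe_mul, coe_up, coe_up, coe_up]
  ext i j
  fin_cases i <;> fin_cases j <;> simp [add_comm]

theorem up_zero' {F : Type*} [Field F] : up (0 : F) = 1 := by
  apply sl_ext
  rw [coe_up, Matrix.SpecialLinearGroup.coe_one]
  ext i j
  fin_cases i <;> fin_cases j <;> simp

/-- `PSL₂(2^n)` with `n ≥ 3` does not have the property -/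
theorem not_SC_even (h2 : (2 : F) = 0) (h4 : 4 < Fintype.card F)
    (h : SC (ProjectiveSpecialLinearGroup (Fin 2) F)) : False := by
  classical
  let P := ProjectiveSpecialLinearGroup (Fin 2) F
  let m : F → P := fun a => QuotientGroup.mk (up a)
  have hmul : ∀ a b, m a * m b = m (a + b) := by
    intro a b
    change QuotientGroup.mk (up a) * QuotientGroup.mk (up b) = QuotientGroup.mk (up (a + b))
    rw [← QuotientGroup.mk_mul, up_mul']
  have hone : m 0 = 1 := by
    change QuotientGroup.mk (up 0) = _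
    rw [up_zero']; rfl
  have hinj : ∀ a b, m a = m b → a = b := by
    intro a b hab
    by_contra hne
    exact mk_up_ne hne hab
  -- choose elements
  obtain ⟨x, hx⟩ : ∃ x : F, x ∉ ({0, 1} : Finset F) := by
    by_contra hcon
    push Not at hcon
    have h1 : (Finset.univ : Finset F) ⊆ {0, 1} := fun x _ => hcon x
    have h3 := Finset.card_le_card h1
    have h5 : ({0, 1} : Finset F).card ≤ 2 := Finset.card_le_two
    rw [Finset.card_univ] at h3
    omega
  obtain ⟨y, hy⟩ : ∃ y : F, y ∉ ({0, 1, x, 1 + x} : Finset F) := by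
    by_contra hcon
    push Not at hcon
    have h1 : (Finset.univ : Finset F) ⊆ {0, 1, x, 1 + x} := fun x _ => hcon x
    have h3 := Finset.card_le_card h1
    have h5 : ({0, 1, x, 1 + x} : Finset F).card ≤ 4 := Finset.card_le_four
    rw [Finset.card_univ] at h3
    omega
  simp only [Finset.mem_insert, Finset.mem_singleton, not_or] at hx hy
  have hch : ∀ a : F, a + a = 0 := fun a => by rw [← two_mul, h2, zero_mul]
  have hp : H17.FourGrp.IsPair (m 1) (m x) := by
    refine ⟨?_, ?_, ?_, ?_, ?_, ?_⟩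
    · rw [← hone]; exact fun h => one_ne_zero (hinj _ _ h)
    · rw [← hone]; exact fun h => hx.1 (hinj _ _ h)
    · exact fun h => hx.2 (hinj _ _ h).symm
    · rw [hmul, hch, hone]
    · rw [hmul, hch, hone]
    · rw [hmul, hmul, add_comm]
  rcases h.four hp (c := m y) (by rw [hmul, hmul, add_comm]) (by rw [hmul, hmul, add_comm]) with h1 | h1 | h1 | h1
  · rw [← hone] at h1; exact hy.1 (hinj _ _ h1)
  · exact hy.2.1 (hinj _ _ h1)
  · exact hy.2.2.1 (hinj _ _ h1)
  · rw [hmul] at h1; exact hy.2.2.2 (hinj _ _ h1)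

/-- a unitriangular matrix -/
def ut {F : Type*} [Field F] (a b : F) : Matrix.SpecialLinearGroup (Fin 3) F :=
  ⟨!![1, a, b; 0, 1, 0; 0, 0, 1], by rw [Matrix.det_fin_three]; simp⟩

theorem coe_ut {F : Type*} [Field F] (a b : F) :
    (ut a b : Matrix (Fin 3) (Fin 3) F) = !![1, a, b; 0, 1, 0; 0, 0, 1] := rfl

theorem ut_mul {F : Type*} [Field F] (a b c d : F) : ut a b * ut c d = ut (a + c) (b + d) := by
  apply Subtype.ext
  change (ut a b : Matrix (Fin 3) (Fin 3) F) * (ut c d : Matrix (Fin 3) (Fin 3) F) = (ut (a + c) (b + d) : Matrix (Fin 3) (Fin 3) F)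
  rw [coe_ut, coe_ut, coe_ut]
  ext i j
  fin_cases i <;> fin_cases j <;> simp [Matrix.mul_apply, Fin.sum_univ_three, add_comm]

theorem ut_zero {F : Type*} [Field F] : ut (0 : F) 0 = 1 := by
  apply Subtype.ext
  change (ut (0 : F) 0 : Matrix (Fin 3) (Fin 3) F) = 1
  rw [coe_ut]
  ext i j
  fin_cases i <;> fin_cases j <;> simp

theorem mk_ut_inj {F : Type*} [Field F] {a b c d : F}
    (h : (QuotientGroup.mk (ut a b) : ProjectiveSpecialLinearGroup (Fin 3) F) = QuotientGroup.mk (ut c d)) :
    a = c ∧ b = d := by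
  rw [H50.PSLBasic.mk_eq_mk_iff] at h
  obtain ⟨k, hk⟩ := h
  have h0 := congrFun (congrFun hk 0) 0
  have h1 := congrFun (congrFun hk 0) 1
  have h2 := congrFun (congrFun hk 0) 2
  rw [coe_ut, coe_ut] at h0 h1 h2
  simp at h0 h1 h2
  rw [← h0, one_mul] at h1 h2
  exact ⟨h1.symm, h2.symm⟩

/-- `PSL₃(4)` does not have the property -/
theorem not_SC_psl3 (h2 : (2 : F) = 0) (h3 : 2 < Fintype.card F)
    (h : SC (ProjectiveSpecialLinearGroup (Fin 3) F)) : False := by
  classical
  let P := ProjectiveSpecialLinearGroup (Fin 3) F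
  let m : F → F → P := fun a b => QuotientGroup.mk (ut a b)
  have hmul : ∀ a b c d, m a b * m c d = m (a + c) (b + d) := by
    intro a b c d
    change QuotientGroup.mk (ut a b) * QuotientGroup.mk (ut c d) = QuotientGroup.mk (ut (a + c) (b + d))
    rw [← QuotientGroup.mk_mul, ut_mul]
  have hone : m 0 0 = 1 := by
    change QuotientGroup.mk (ut 0 0) = _
    rw [ut_zero]; rfl
  have hinj : ∀ a b c d, m a b = m c d → a = c ∧ b = d := fun a b c d hab => mk_ut_inj hab
  obtain ⟨x, hx⟩ : ∃ x : F, x ∉ ({0, 1} : Finset F) := by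
    by_contra hcon
    push Not at hcon
    have h1 : (Finset.univ : Finset F) ⊆ {0, 1} := fun x _ => hcon x
    have h3 := Finset.card_le_card h1
    have h5 : ({0, 1} : Finset F).card ≤ 2 := Finset.card_le_two
    rw [Finset.card_univ] at h3
    omega
  simp only [Finset.mem_insert, Finset.mem_singleton, not_or] at hx
  have hch : ∀ a : F, a + a = 0 := fun a => by rw [← two_mul, h2, zero_mul]
  have hp : H17.FourGrp.IsPair (m 1 0) (m 0 1) := by
    refine ⟨?_, ?_, ?_, ?_, ?_, ?_⟩
    · rw [← hone]; exact fun h => one_ne_zero (hinj _ _ _ _ h).1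
    · rw [← hone]; exact fun h => one_ne_zero (hinj _ _ _ _ h).2
    · exact fun h => one_ne_zero (hinj _ _ _ _ h).1
    · rw [hmul, hch, hch, hone]
    · rw [hmul, hch, hch, hone]
    · rw [hmul, hmul, add_comm, add_comm 0]
  rcases h.four hp (c := m x 0) (by rw [hmul, hmul, add_comm, add_comm 0]) (by simp only [hmul, add_zero, zero_add]) with h1 | h1 | h1 | h1
  · rw [← hone] at h1; exact hx.1 (hinj _ _ _ _ h1).1
  · exact hx.2 (hinj _ _ _ _ h1).1
  · exact hx.1 (hinj _ _ _ _ h1).1
  · rw [hmul] at h1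
    have h5 := (hinj _ _ _ _ h1).2
    rw [zero_add] at h5
    exact zero_ne_one h5

end

theorem forward {G : Type u} [Group G] [Finite G] [IsSimpleGroup G] (hna : ∃ a b : G, a * b ≠ b * a)
    (hCIT : (∀ t : G, orderOf t = 2 → IsPGroup 2 (centralizer ({t} : Set G))) → H11.Eppo.CITList G)
    (h : SC G) : ∃ (F : Type) (_ : Field F) (_ : Fintype F),
      (Fintype.card F = 4 ∨ Fintype.card F = 9 ∨ ((Fintype.card F).Prime ∧
        ∃ k : ℕ, Fintype.card F = 2 ^ k + 1 ∨ Fintype.card F = 2 ^ k - 1)) ∧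
      Nonempty (G ≃* Matrix.ProjectiveSpecialLinearGroup (Fin 2) F) := by
  have hG : ¬ IsCyclic G := by
    intro hc
    obtain ⟨a, b, hab⟩ := hna
    let _ := hc.commGroup
    exact hab (mul_comm a b)
  rcases hCIT (h.cit hG) with ⟨F, _, _, hF, ⟨e⟩⟩ | ⟨F, _, _, hF, ⟨e⟩⟩ | ⟨-, m, hm, hcard⟩
  · refine ⟨F, inferInstance, inferInstance, ?_, ⟨e⟩⟩
    rcases hF with hF | ⟨n, hF⟩ | ⟨hp, k, hF | hF⟩
    · exact Or.inr (Or.inl hF)
    · left
      by_contra h4
      have hn : n ≠ 0 := by
        rintro rfl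
        have := Fintype.one_lt_card (α := F)
        omega
      have h2 : (2 : F) = 0 := by
        have h1 := FiniteField.cast_card_eq_zero F
        rw [hF] at h1
        push_cast at h1
        exact (pow_eq_zero_iff hn).mp h1
      have hn1 : n ≠ 1 := by
        rintro rfl
        have h6 := H11.Eppo.card_psl_two (by rw [hF, pow_one]) e
        exact H11.Eppo.false_of_solvable_card hna Nat.prime_two Nat.prime_three (a := 1) (b := 1) (by rw [h6]; norm_num)
      have h8 : 4 ≤ 2 ^ n := by
        calc 4 = 2 ^ 2 := by norm_num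
          _ ≤ 2 ^ n := Nat.pow_le_pow_right (by norm_num) (by omega)
      exact not_SC_even h2 (by omega) (h.of_equiv e)
    · exact Or.inr (Or.inr ⟨hp, k, Or.inl hF⟩)
    · exact Or.inr (Or.inr ⟨hp, k, Or.inr (by omega)⟩)
  · exfalso
    have h2 : (2 : F) = 0 := by
      have h1 := FiniteField.cast_card_eq_zero F
      rw [hF] at h1
      push_cast at h1
      have h4 : (4 : F) = 2 * 2 := by norm_num
      rw [h4, mul_self_eq_zero] at h1
      exact h1
    exact not_SC_psl3 h2 (by omega) (h.of_equiv e)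
  · exfalso
    set q := 2 ^ (2 * m + 1) with hq
    have hq8 : 8 ≤ q := by
      rw [hq]
      calc 8 = 2 ^ 3 := by norm_num
        _ ≤ 2 ^ (2 * m + 1) := Nat.pow_le_pow_right (by norm_num) (by omega)
    have h8 : 8 ∣ Nat.card G := by
      rw [hcard, mul_assoc]
      apply Dvd.dvd.mul_right
      rw [hq, ← pow_mul]
      have : (8 : ℕ) = 2 ^ 3 := by norm_num
      rw [this]
      exact pow_dvd_pow 2 (by omega)
    have h3 := h.three_dvd hG h8
    have hq' : q = 2 * 4 ^ m := by
      rw [hq, pow_add, pow_mul]; norm_num [mul_comm]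
    have m3 : 2 * 4 ^ m ≡ 2 [MOD 3] := by
      have h2 : 4 ^ m ≡ 1 ^ m [MOD 3] := Nat.ModEq.pow m (by decide)
      rw [one_pow] at h2
      exact h2.mul_left 2
    rw [← hq'] at m3
    rw [hcard] at h3
    have n3 : q % 3 = 2 := m3
    have hqq : q ^ 2 % 3 = 1 := by
      rw [Nat.pow_mod, n3]
    rcases (Nat.Prime.dvd_mul Nat.prime_three).mp h3 with h4 | h4
    · rcases (Nat.Prime.dvd_mul Nat.prime_three).mp h4 with h5 | h5
      · omega
      · omega
    · omega

end H11.SelfCent
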