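import Cfsg.Agent.Lib.H11.Suz2A

/-! The `ξ`-equivariant form of the coordinates on a Suzuki 2-group of type A. -/

open Subgroup

universe u v

namespace H11.Suz2B

open H11.Suz2A H16.Suz

/-- equivariant coordinates on a class 2 extension of `F` by `F` -/
theorem exists_coords {P : Type u} {F : Type v} [Group P] [Field F] [CharP F 2]
    (ξ : MulAut P) (m : ℕ) (hm : Odd m) (hξm : ξ ^ m = 1)
    (X : P →* Multiplicative F) (φ : F →+* F) (ψ : P → F) (E : Subgroup P)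
    (hE : ∀ x ∈ E, ∀ p, x * p = p * x) (hEX : ∀ e, e ∈ E ↔ xx X e = 0)
    (hXs : ∀ x : F, ∃ p, xx X p = x)
    (hψ : ∀ x ∈ E, ∀ y ∈ E, ψ (x * y) = ψ x + ψ y) (hψ0 : ∀ x ∈ E, ψ x = 0 → x = 1)
    (hψs : ∀ y, ∃ x ∈ E, ψ x = y)
    (hsq : ∀ p, p * p ∈ E ∧ ψ (p * p) = φ (xx X p) * xx X p)
    (lam : F) (hlam : lam ≠ 0) (hXξ : ∀ p, xx X (ξ p) = lam * xx X p)
    (hξE : ∀ e ∈ E, ξ e ∈ E ∧ ψ (ξ e) = lam * φ lam * ψ e) :
    ∃ Φ : P ≃ F × F,
      (∀ u v, Φ (u * v) = ((Φ u).1 + (Φ v).1, (Φ u).2 + (Φ v).2 + φ (Φ u).1 * (Φ v).1)) ∧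
      (∀ u, Φ (ξ u) = (lam * (Φ u).1, lam * φ lam * (Φ u).2)) ∧
      ∀ u, u ∈ E ↔ (Φ u).1 = 0 := by
  obtain ⟨Y, hY, hYE⟩ := exists_Y X φ ψ E hE (fun e he => (hEX e).mp he) hψ hsq
  let c : F := lam * φ lam
  have hc : c ≠ 0 := mul_ne_zero hlam ((map_ne_zero φ).mpr hlam)
  have hmF : (m : F) = 1 := by
    obtain ⟨k, rfl⟩ := hm
    push_cast
    rw [CharTwo.two_eq_zero]
    ring
  have hXi : ∀ (i : ℕ) (p : P), xx X ((ξ ^ i) p) = lam ^ i * xx X p := by
    intro i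
    induction i with
    | zero => intro p; simp
    | succ i ih =>
      intro p
      rw [pow_succ, MulAut.mul_apply, ih, hXξ, pow_succ]
      ring
  have hEi : ∀ (i : ℕ) (e : P), e ∈ E → (ξ ^ i) e ∈ E ∧ ψ ((ξ ^ i) e) = c ^ i * ψ e := by
    intro i
    induction i with
    | zero => intro e he; simp [he]
    | succ i ih =>
      intro e he
      obtain ⟨h1, h2⟩ := hξE e he
      obtain ⟨h3, h4⟩ := ih (ξ e) h1
      rw [pow_succ, MulAut.mul_apply]
      refine ⟨h3, ?_⟩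
      rw [h4, h2, pow_succ]
      ring
  have hlm : lam ^ m = 1 := by
    obtain ⟨p, hp⟩ := hXs 1
    have h1 := hXi m p
    rw [hξm, MulAut.one_apply, hp, mul_one] at h1
    exact h1.symm
  have hcm : c ^ m = 1 := by
    change (lam * φ lam) ^ m = 1
    rw [mul_pow, ← map_pow, hlm, map_one, mul_one]
  let Z : P → F := fun p => ∑ i ∈ Finset.range m, (c⁻¹) ^ i * Y ((ξ ^ i) p)
  have hZ : ∀ p q, Z (p * q) = Z p + Z q + φ (xx X p) * xx X q := by
    intro p q
    have h1 : ∀ i ∈ Finset.range m, (c⁻¹) ^ i * Y ((ξ ^ i) (p * q)) =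
        (c⁻¹) ^ i * Y ((ξ ^ i) p) + (c⁻¹) ^ i * Y ((ξ ^ i) q) + φ (xx X p) * xx X q := by
      intro i _
      rw [map_mul, hY, hXi, hXi, map_mul, map_pow]
      have h2 : (c⁻¹) ^ i * (φ lam ^ i * φ (xx X p) * (lam ^ i * xx X q)) = φ (xx X p) * xx X q := by
        have h3 : φ lam ^ i * φ (xx X p) * (lam ^ i * xx X q) = c ^ i * (φ (xx X p) * xx X q) := by
          change _ = (lam * φ lam) ^ i * _
          rw [mul_pow]; ring
        rw [h3, ← mul_assoc, ← mul_pow, inv_mul_cancel₀ hc, one_pow, one_mul]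
      rw [mul_add, mul_add, h2]
    change ∑ i ∈ Finset.range m, _ = _
    rw [Finset.sum_congr rfl h1, Finset.sum_add_distrib, Finset.sum_add_distrib, Finset.sum_const,
      Finset.card_range, nsmul_eq_mul, hmF, one_mul]
  have hZξ : ∀ p, Z (ξ p) = c * Z p := by
    intro p
    let f : ℕ → F := fun i => (c⁻¹) ^ i * Y ((ξ ^ i) p)
    have h1 : ∀ i ∈ Finset.range m, (c⁻¹) ^ i * Y ((ξ ^ i) (ξ p)) = c * f (i + 1) := by
      intro i _
      change _ = c * ((c⁻¹) ^ (i + 1) * Y ((ξ ^ (i + 1)) p))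
      rw [pow_succ ξ, MulAut.mul_apply, pow_succ]
      field_simp
    have h2 : f m = f 0 := by
      change (c⁻¹) ^ m * Y ((ξ ^ m) p) = (c⁻¹) ^ 0 * Y ((ξ ^ 0) p)
      rw [hξm, inv_pow, hcm, pow_zero, pow_zero, inv_one]
    have h3 := Finset.sum_range_succ f m
    have h4 := Finset.sum_range_succ' f m
    have h5 : ∑ i ∈ Finset.range m, f (i + 1) = ∑ i ∈ Finset.range m, f i := by
      have := h3.symm.trans h4
      rw [h2] at this
      exact (add_right_cancel this).symm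
    change ∑ i ∈ Finset.range m, _ = c * ∑ i ∈ Finset.range m, f i
    rw [Finset.sum_congr rfl h1, ← Finset.mul_sum, h5]
  have hZE : ∀ e ∈ E, Z e = ψ e := by
    intro e he
    have h1 : ∀ i ∈ Finset.range m, (c⁻¹) ^ i * Y ((ξ ^ i) e) = ψ e := by
      intro i _
      obtain ⟨h2, h3⟩ := hEi i e he
      rw [hYE _ h2, h3, ← mul_assoc, ← mul_pow, inv_mul_cancel₀ hc, one_pow, one_mul]
    change ∑ i ∈ Finset.range m, _ = _
    rw [Finset.sum_congr rfl h1, Finset.sum_const, Finset.card_range, nsmul_eq_mul, hmF, one_mul]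
  let Φ0 : P → F × F := fun p => (xx X p, Z p)
  have hbij : Function.Bijective Φ0 := by
    constructor
    · intro p q hpq
      have h1 : xx X p = xx X q := congrArg Prod.fst hpq
      have h2 : Z p = Z q := congrArg Prod.snd hpq
      have h3 : xx X (p * q⁻¹) = 0 := by rw [xx_mul, xx_inv, h1, add_neg_cancel]
      have h4 := (hEX _).mpr h3
      have h5 := hZ (p * q⁻¹) q
      rw [inv_mul_cancel_right, h3, map_zero, zero_mul, add_zero, h2, hZE _ h4] at h5
      have h6 : ψ (p * q⁻¹) = 0 := by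
        have := h5
        exact (right_eq_add.mp this)
      have h7 := hψ0 _ h4 h6
      exact mul_inv_eq_one.mp h7
    · rintro ⟨x, y⟩
      obtain ⟨p, hp⟩ := hXs x
      obtain ⟨e, he, hey⟩ := hψs (y - Z p)
      refine ⟨p * e, ?_⟩
      change (xx X (p * e), Z (p * e)) = (x, y)
      rw [xx_mul, hZ, (hEX e).mp he, hp, hZE e he, hey]
      simp
  refine ⟨Equiv.ofBijective Φ0 hbij, fun u v => ?_, fun u => ?_, fun u => ?_⟩
  · change (xx X (u * v), Z (u * v)) = (xx X u + xx X v, Z u + Z v + φ (xx X u) * xx X v)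
    rw [xx_mul, hZ]
  · change (xx X (ξ u), Z (ξ u)) = (lam * xx X u, lam * φ lam * Z u)
    rw [hXξ, hZξ]
  · exact hEX u

theorem main_equiv {P : Type u} [Group P] [Finite P] {ξ : MulAut P} (h : Reg P ξ)
    (hna : ∃ x y : P, x * y ≠ y * x) (hcard : Nat.card P = Nat.card (E h) ^ 2) :
    ∃ (F : Type) (_ : Field F) (_ : Fintype F) (φ : F ≃+* F), Fintype.card F = Nat.card (E h) ∧
      φ ≠ RingEquiv.refl F ∧ Odd (orderOf φ) ∧ ∃ (Φ : P ≃ F × F) (lam : F),
        orderOf lam = Fintype.card F - 1 ∧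
        (∀ u v, Φ (u * v) = ((Φ u).1 + (Φ v).1, (Φ u).2 + (Φ v).2 + φ (Φ u).1 * (Φ v).1)) ∧
        (∀ u, Φ (ξ u) = (lam * (Φ u).1, lam * φ lam * (Φ u).2)) ∧
        ∀ u, u ∈ E h ↔ (Φ u).1 = 0 := by
  classical
  obtain ⟨F, fF, finF, hch2, n, lam, ψ, hn2, hFn, hlam, hξ, hEn, hψ, hψ0, hψs, hψξ⟩ := coords h
  obtain ⟨F₂, fF₂, finF₂, X₂, μ₂, hFn₂, hμ₂, hX₂E, hX₂s, hX₂ξ⟩ := coordsV h hna hcard hEn hξ
  obtain ⟨hsq, hcen⟩ := higman h hna
  have hsqE : ∀ x : P, x * x ∈ E h := hsq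
  have hce : ∀ x ∈ E h, ∀ p, x * p = p * x := fun x hx p => inv_comm h hx p
  let ι : F₂ ≃+* F := FiniteField.ringEquivOfCardEq (by rw [hFn, hFn₂])
  -- coordinates with values in `F`
  let X : P →* Multiplicative F := MonoidHom.mk' (fun p => Multiplicative.ofAdd (ι (xx X₂ p)))
    (fun p q => by rw [xx_mul, map_add, ofAdd_add])
  have hX : ∀ p, xx X p = ι (xx X₂ p) := fun p => rfl
  have hXE : ∀ e, e ∈ E h ↔ xx X e = 0 := by
    intro e
    rw [hX, map_eq_zero_iff ι ι.injective]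
    exact hX₂E e
  have hXs : ∀ x, ∃ p, xx X p = x := by
    intro x
    obtain ⟨p, hp⟩ := hX₂s (ι.symm x)
    exact ⟨p, by rw [hX, hp, RingEquiv.apply_symm_apply]⟩
  let μ : F := ι μ₂
  have hμ : orderOf μ = 2 ^ n - 1 := by
    rw [← hμ₂]
    exact orderOf_injective (ι : F₂ →* F) ι.injective μ₂
  have hXξ : ∀ p, xx X (ξ p) = μ * xx X p := by
    intro p
    rw [hX, hX, hX₂ξ, map_mul]
  choose sec hsec using hXs
  -- the squaring map
  let S : P → F := fun p => ψ (p * p)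
  have hψ1 : ψ 1 = 0 := by
    have := hψ 1 (E h).one_mem 1 (E h).one_mem
    rw [mul_one] at this
    simpa using this
  have hSsec : ∀ p, S p = S (sec (xx X p)) := by
    intro p
    have h1 : (sec (xx X p))⁻¹ * p ∈ E h := by
      rw [hXE, xx_mul, xx_inv, hsec]; ring
    have h2 : p = sec (xx X p) * ((sec (xx X p))⁻¹ * p) := by group
    generalize (sec (xx X p))⁻¹ * p = e at h1 h2
    change ψ (p * p) = ψ (sec (xx X p) * sec (xx X p))
    congr 1
    calc p * p = sec (xx X p) * e * (sec (xx X p) * e) := by rw [← h2]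
      _ = sec (xx X p) * (e * sec (xx X p)) * e := by group
      _ = sec (xx X p) * (sec (xx X p) * e) * e := by rw [hce e h1]
      _ = sec (xx X p) * sec (xx X p) * (e * e) := by group
      _ = sec (xx X p) * sec (xx X p) := by rw [mem_E.mp h1, mul_one]
  let c : F := S (sec 1)
  have hSne : ∀ p, p ∉ E h → S p ≠ 0 := by
    intro p hp h0
    exact hp (hψ0 (p * p) (hsqE p) h0)
  have hc : c ≠ 0 := hSne _ (by rw [hXE, hsec]; exact one_ne_zero)
  let Q : F → F := fun v => S (sec v) / c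
  have hSQ : ∀ p, S p = c * Q (xx X p) := by
    intro p
    rw [hSsec p]
    change _ = c * (S (sec (xx X p)) / c)
    field_simp
  have hS1 : S 1 = 0 := by
    change ψ (1 * 1) = 0
    rw [mul_one, hψ1]
  have hSξ : ∀ p, S (ξ p) = lam * S p := by
    intro p
    change ψ (ξ p * ξ p) = lam * ψ (p * p)
    rw [← map_mul, hψξ _ (hsqE p)]
  have hSadd : ∀ x y, S (x * y) = S x + S y + ψ (x⁻¹ * y * x * y⁻¹) := by
    intro x y
    obtain ⟨h1, h2⟩ := comm_mem hce hsqE x y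
    change ψ (x * y * (x * y)) = _
    rw [h2, hψ _ ((E h).mul_mem (hsqE x) h1) _ (hsqE y), hψ _ (hsqE x) _ h1]
    change S x + _ + S y = _
    ring
  have hk : ∀ x x' y, ψ ((x * x')⁻¹ * y * (x * x') * y⁻¹) =
      ψ (x⁻¹ * y * x * y⁻¹) + ψ (x'⁻¹ * y * x' * y⁻¹) := by
    intro x x' y
    have h1 := (comm_mem hce hsqE x y).1
    have h2 := (comm_mem hce hsqE x' y).1
    rw [← hψ _ h1 _ h2]
    congr 1
    calc (x * x')⁻¹ * y * (x * x') * y⁻¹ = x'⁻¹ * ((x⁻¹ * y * x * y⁻¹) * (y * x' * y⁻¹)) := by group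
      _ = x'⁻¹ * ((y * x' * y⁻¹) * (x⁻¹ * y * x * y⁻¹)) := by rw [hce _ h1]
      _ = (x'⁻¹ * y * x' * y⁻¹) * (x⁻¹ * y * x * y⁻¹) := by group
      _ = _ := by rw [hce _ h2]
  have hchF : ∀ a : F, a + a = 0 := fun a => CharTwo.add_self_eq_zero a
  have hQQ : ∀ v, c * Q v = S (sec v) := by
    intro v
    rw [hSQ, hsec]
  have hSv : ∀ {p : P} {v : F}, xx X p = v → c * Q v = S p := by
    rintro p v rfl
    rw [hSQ]
  obtain ⟨σ, φ, hφ1, hφ2, hQσ⟩ := quad hFn hμ hlam Q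
    (mul_left_cancel₀ hc (by rw [hSv (xx_one X), hS1, mul_zero]))
    (mul_left_cancel₀ hc (by rw [hQQ, mul_one]))
    (fun v => mul_left_cancel₀ hc (by
      rw [hSv (p := ξ (sec v)) (by rw [hXξ, hsec]), hSξ, ← hQQ v]; ring))
    (fun v v' w => mul_left_cancel₀ hc (by
      have e1 := hSv (p := sec v * sec v' * sec w) (v := v + v' + w) (by rw [xx_mul, xx_mul, hsec, hsec, hsec])
      have e2 := hSv (p := sec v * sec v') (v := v + v') (by rw [xx_mul, hsec, hsec])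
      have e3 := hSv (p := sec v * sec w) (v := v + w) (by rw [xx_mul, hsec, hsec])
      have e4 := hSv (p := sec v' * sec w) (v := v' + w) (by rw [xx_mul, hsec, hsec])
      have e5 := hQQ v
      have e6 := hQQ v'
      have e7 := hQQ w
      rw [hSadd, hk] at e1
      rw [hSadd] at e3 e4
      have g1 := hchF (S (sec v * sec v'))
      have g2 := hchF (S (sec w))
      have g3 := hchF (S (sec v))
      have g4 := hchF (S (sec v'))
      linear_combination e1 + e2 - e3 - e4 - e5 - e6 - e7 + g1 - g2 - g3 - g4))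
    (by
      obtain ⟨x, y, hxy⟩ := hna
      refine ⟨xx X x, xx X y, fun heq => hxy ?_⟩
      have e1 := hSv (p := x * y) (v := xx X x + xx X y) (by rw [xx_mul])
      rw [heq, mul_add, ← hSQ, ← hSQ, hSadd] at e1
      have h1 : ψ (x⁻¹ * y * x * y⁻¹) = 0 := by linear_combination -e1
      have h2 := hψ0 _ (comm_mem hce hsqE x y).1 h1
      calc x * y = x * (1 : P) * y := by group
        _ = x * (x⁻¹ * y * x * y⁻¹) * y := by rw [h2]
        _ = y * x := by group)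
  let X' : P →* Multiplicative F := MonoidHom.mk' (fun p => Multiplicative.ofAdd (σ (xx X p)))
    (fun p q => by rw [xx_mul, map_add, ofAdd_add])
  have hX' : ∀ p, xx X' p = σ (xx X p) := fun p => rfl
  refine ⟨F, fF, finF, φ, by rw [hFn, hEn], hφ1, hφ2, ?_⟩
  have hX'ξ : ∀ p, xx X' (ξ p) = σ μ * xx X' p := by
    intro p
    rw [hX', hX', hXξ, map_mul]
  have hsq' : ∀ p, p * p ∈ E h ∧ ψ (p * p) / c = φ (xx X' p) * xx X' p := by
    intro p
    refine ⟨hsqE p, ?_⟩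
    have h1 := hSQ p
    change S p / c = _
    rw [h1, hX', hQσ]
    field_simp
  have hX's : ∀ x, ∃ p, xx X' p = x := by
    intro x
    refine ⟨sec (σ.symm x), ?_⟩
    rw [hX', hsec, RingEquiv.apply_symm_apply]
  have hlameq : lam = σ μ * φ (σ μ) := by
    obtain ⟨p, hp⟩ := hX's 1
    have h1 := (hsq' (ξ p)).2
    have h2 := (hsq' p).2
    rw [hX'ξ, hp, mul_one] at h1
    rw [hp, map_one, mul_one] at h2
    rw [← map_mul, hψξ _ (hsqE p), mul_div_assoc, h2, mul_one] at h1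
    rw [h1, mul_comm]
  have hξm : ξ ^ (2 ^ n - 1) = 1 := by rw [← hξ]; exact pow_orderOf_eq_one ξ
  obtain ⟨Φ, h1, h2, h3⟩ := exists_coords ξ (2 ^ n - 1) (by
      refine Nat.Even.sub_odd Nat.one_le_two_pow ?_ odd_one
      exact (Nat.even_pow.mpr ⟨even_two, by omega⟩)) hξm X' (φ : F →+* F) (fun e => ψ e / c) (E h) hce
    (fun e => by rw [hX', map_eq_zero_iff σ σ.injective]; exact hXE e) hX's
    (fun x hx y hy => by rw [hψ x hx y hy, add_div])
    (fun x hx h0 => hψ0 x hx ((div_eq_zero_iff.mp h0).resolve_right hc))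
    (fun y => by
      obtain ⟨x, hx, hxy⟩ := hψs (c * y)
      refine ⟨x, hx, ?_⟩
      rw [hxy]
      field_simp)
    hsq' (σ μ) (by
      intro h0
      have h1 := hXξ (sec 1)
      rw [map_eq_zero_iff σ σ.injective] at h0
      rw [h0] at hμ
      rw [orderOf_zero] at hμ
      have : 2 ^ 2 ≤ 2 ^ n := Nat.pow_le_pow_right (by norm_num) hn2
      omega) hX'ξ (fun e he => ⟨E_inv _ he, by
        rw [hψξ e he, hlameq, mul_div_assoc]
        rfl⟩)
  refine ⟨Φ, σ μ, ?_, h1, h2, h3⟩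
  rw [hFn, ← hμ]
  exact orderOf_injective (σ : F →* F) σ.injective μ

end H11.Suz2B
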